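import Mathlib.AlgebraicGeometry.Stalk
import Mathlib.Algebra.TrivSqZeroExt.Basic
import Mathlib.Algebra.DualNumber
import Mathlib.RingTheory.Ideal.Cotangent

/-!
# Tangent vectors at a rational point
-/

set_option autoImplicit false
set_option backward.isDefEq.respectTransparency.types false
set_option linter.style.haveILetI false

universe u

open CategoryTheory CategoryTheory.Limits AlgebraicGeometry IsLocalRing

namespace Groth.Agent.H8Coh.RatTangent

variable {k : Type u} [Field k] {P : Scheme.{u}} (p : P ⟶ Spec (CommRingCat.of k))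
  (s : Spec (CommRingCat.of k) ⟶ P)

/-- The point under a rational point. -/
noncomputable abbrev pt : P := s (closedPoint k)

/-- The base field in the local ring. -/
noncomputable def ρ : k →+* P.presheaf.stalk (pt s) :=
  (Spec.preimage (P.fromSpecStalk (pt s) ≫ p)).hom

theorem specMap_ρ : Spec.map (CommRingCat.ofHom (ρ p s)) = P.fromSpecStalk (pt s) ≫ p :=
  Spec.map_preimage _

/-- The value at the rational point. -/
noncomputable def χ : P.presheaf.stalk (pt s) →+* k := (Scheme.stalkClosedPointTo s).hom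

theorem specMap_χ : Spec.map (CommRingCat.ofHom (χ s)) ≫ P.fromSpecStalk (pt s) = s :=
  Scheme.Spec_stalkClosedPointTo_fromSpecStalk s

theorem exists_lift {R : CommRingCat.{u}} [IsLocalRing R] (v : Spec R ⟶ P) :
    ∀ x, v (closedPoint R) = x → ∃ θ : P.presheaf.stalk x ⟶ R, Spec.map θ ≫ P.fromSpecStalk x = v := by
  rintro x rfl
  exact ⟨Scheme.stalkClosedPointTo v, Scheme.Spec_stalkClosedPointTo_fromSpecStalk v⟩

theorem eq_of_specMap {R : Type u} [CommRing R] {x : P} {θ θ' : P.presheaf.stalk x →+* R}
    (h : Spec.map (CommRingCat.ofHom θ) ≫ P.fromSpecStalk x = Spec.map (CommRingCat.ofHom θ') ≫ P.fromSpecStalk x) :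
    θ = θ' :=
  congrArg CommRingCat.Hom.hom (Spec.map_injective ((cancel_mono _).1 h))

theorem isLocalRing_ext (K M : Type u) [Field K] [AddCommGroup M] [Module K M] [Module Kᵐᵒᵖ M] [IsCentralScalar K M] :
    IsLocalRing (TrivSqZeroExt K M) := by
  haveI : Nontrivial (TrivSqZeroExt K M) :=
    ⟨0, 1, fun h => zero_ne_one (congrArg TrivSqZeroExt.fst h)⟩
  refine IsLocalRing.of_isUnit_or_isUnit_one_sub_self fun a => ?_
  by_cases h : a.fst = 0
  · exact Or.inr (TrivSqZeroExt.isUnit_iff_isUnit_fst.2 (by simp [h]))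
  · exact Or.inl (TrivSqZeroExt.isUnit_iff_isUnit_fst.2 (Ne.isUnit h))

section Section

variable (hs : s ≫ p = 𝟙 _)
include hs

theorem χ_ρ : (χ s).comp (ρ p s) = RingHom.id k := by
  refine congrArg CommRingCat.Hom.hom (Spec.map_injective (a₁ := CommRingCat.ofHom ((χ s).comp (ρ p s))) (a₂ := 𝟙 _) ?_)
  rw [CommRingCat.ofHom_comp, Spec.map_comp, specMap_ρ, reassoc_of% specMap_χ, hs, Spec.map_id]

theorem χ_ρ_apply (c : k) : χ s (ρ p s c) = c := RingHom.congr_fun (χ_ρ p s hs) c

theorem mem_maximalIdeal_iff (a : P.presheaf.stalk (pt s)) : a ∈ maximalIdeal _ ↔ χ s a = 0 := by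
  haveI : IsLocalHom (χ s) := inferInstanceAs (IsLocalHom (Scheme.stalkClosedPointTo s).hom)
  constructor
  · intro ha
    by_contra h
    exact ha (isUnit_of_map_unit (χ s) a (Ne.isUnit h))
  · intro h hu
    have := hu.map (χ s)
    rw [h] at this
    exact not_isUnit_zero this

theorem sub_mem (a : P.presheaf.stalk (pt s)) : a - ρ p s (χ s a) ∈ maximalIdeal _ := by
  rw [mem_maximalIdeal_iff p s hs, map_sub, χ_ρ_apply p s hs, sub_self]

section Maps

variable {K : Type u} [Field K] [Algebra k K] {M : Type u} [AddCommGroup M] [Module K M] [Module Kᵐᵒᵖ M]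
  [IsCentralScalar K M]

/-- A point with values in a square-zero extension centred at the rational point. -/
structure Centred (v : Spec (CommRingCat.of (TrivSqZeroExt K M)) ⟶ P) : Prop where
  over : v ≫ p = Spec.map (CommRingCat.ofHom (algebraMap K (TrivSqZeroExt K M))) ≫
    Spec.map (CommRingCat.ofHom (algebraMap k K))
  centre : Spec.map (CommRingCat.ofHom (TrivSqZeroExt.fstHom K K M).toRingHom) ≫ v =
    Spec.map (CommRingCat.ofHom (algebraMap k K)) ≫ s

/-- The ring map of a centred point. -/
structure IsTheta (v : Spec (CommRingCat.of (TrivSqZeroExt K M)) ⟶ P)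
    (θ : P.presheaf.stalk (pt s) →+* TrivSqZeroExt K M) : Prop where
  spec : Spec.map (CommRingCat.ofHom θ) ≫ P.fromSpecStalk (pt s) = v
  fst : ∀ a, (θ a).fst = algebraMap k K (χ s a)
  base : ∀ c, θ (ρ p s c) = algebraMap K (TrivSqZeroExt K M) (algebraMap k K c)

theorem IsTheta.unique {v : Spec (CommRingCat.of (TrivSqZeroExt K M)) ⟶ P}
    {θ θ' : P.presheaf.stalk (pt s) →+* TrivSqZeroExt K M} (h : IsTheta p s v θ) (h' : IsTheta p s v θ') :
    θ = θ' :=
  eq_of_specMap (h.spec.trans h'.spec.symm)

theorem exists_theta {v : Spec (CommRingCat.of (TrivSqZeroExt K M)) ⟶ P} (hv : Centred p s v) :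
    ∃ θ, IsTheta p s v θ := by
  haveI : IsLocalRing (CommRingCat.of (TrivSqZeroExt K M)) := isLocalRing_ext K M
  have hpt : v (closedPoint (CommRingCat.of (TrivSqZeroExt K M))) = pt s := by
    have h0 : Spec.map (CommRingCat.ofHom (TrivSqZeroExt.fstHom K K M).toRingHom) (closedPoint K) =
        closedPoint (CommRingCat.of (TrivSqZeroExt K M)) := by
      haveI : IsLocalHom (TrivSqZeroExt.fstHom K K M).toRingHom :=
        ⟨fun a ha => TrivSqZeroExt.isUnit_iff_isUnit_fst.2 ha⟩
      exact comap_closedPoint (TrivSqZeroExt.fstHom K K M).toRingHom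
    have h := congrArg (fun w : Spec (CommRingCat.of K) ⟶ P => w (closedPoint K)) hv.centre
    simp only [Scheme.Hom.comp_apply, h0] at h
    rw [h]
    exact congrArg s (Subsingleton.elim (α := PrimeSpectrum k) _ _)
  obtain ⟨θ, hθ⟩ := exists_lift v _ hpt
  refine ⟨θ.hom, hθ, fun a => ?_, fun c => ?_⟩
  · refine RingHom.congr_fun (eq_of_specMap (θ := (TrivSqZeroExt.fstHom K K M).toRingHom.comp θ.hom)
      (θ' := (algebraMap k K).comp (χ s)) ?_) a
    rw [CommRingCat.ofHom_comp, Spec.map_comp, CommRingCat.ofHom_comp, Spec.map_comp, Category.assoc,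
      Category.assoc, CommRingCat.ofHom_hom, hθ, specMap_χ, hv.centre]
  · refine RingHom.congr_fun (congrArg CommRingCat.Hom.hom (Spec.map_injective
      (a₁ := CommRingCat.ofHom (θ.hom.comp (ρ p s)))
      (a₂ := CommRingCat.ofHom ((algebraMap K (TrivSqZeroExt K M)).comp (algebraMap k K))) ?_)) c
    rw [CommRingCat.ofHom_comp, Spec.map_comp, specMap_ρ, CommRingCat.ofHom_comp, Spec.map_comp,
      CommRingCat.ofHom_hom, reassoc_of% hθ, hv.over]

/-- Change of the square-zero extension. -/
theorem IsTheta.map {N : Type u} [AddCommGroup N] [Module K N] [Module Kᵐᵒᵖ N] [IsCentralScalar K N]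
    {v : Spec (CommRingCat.of (TrivSqZeroExt K M)) ⟶ P} {θ : P.presheaf.stalk (pt s) →+* TrivSqZeroExt K M}
    (h : IsTheta p s v θ) (ℓ : M →ₗ[K] N) :
    IsTheta p s (Spec.map (CommRingCat.ofHom (TrivSqZeroExt.map ℓ).toRingHom) ≫ v)
      ((TrivSqZeroExt.map ℓ).toRingHom.comp θ) where
  spec := by rw [CommRingCat.ofHom_comp, Spec.map_comp, Category.assoc, h.spec]
  fst a := (TrivSqZeroExt.fst_map ℓ (θ a)).trans (h.fst a)
  base c := by
    show TrivSqZeroExt.map ℓ (θ (ρ p s c)) = _
    rw [h.base, TrivSqZeroExt.algebraMap_eq_inl, TrivSqZeroExt.map_inl, TrivSqZeroExt.algebraMap_eq_inl]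

end Maps

section Dual

variable {K : Type u} [Field K] [Algebra k K]

/-- Multiplication at first order. -/
theorem IsTheta.snd_mul {v : Spec (CommRingCat.of (DualNumber K)) ⟶ P}
    {θ : P.presheaf.stalk (pt s) →+* DualNumber K} (h : IsTheta p s v θ) (a b : P.presheaf.stalk (pt s)) :
    (θ (a * b)).snd = algebraMap k K (χ s a) * (θ b).snd + (θ a).snd * algebraMap k K (χ s b) := by
  rw [map_mul, TrivSqZeroExt.snd_mul, h.fst, h.fst, smul_eq_mul, op_smul_eq_smul, smul_eq_mul]
  ring

/-- A linear form on the maximal ideal that kills squares gives a centred point. -/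
theorem exists_of_form (D : P.presheaf.stalk (pt s) → K) (hadd : ∀ a b, D (a + b) = D a + D b)
    (hmul : ∀ a b, D (a * b) = algebraMap k K (χ s a) * D b + D a * algebraMap k K (χ s b))
    (hρ : ∀ c, D (ρ p s c) = 0) :
    ∃ (v : Spec (CommRingCat.of (DualNumber K)) ⟶ P) (θ : P.presheaf.stalk (pt s) →+* DualNumber K),
      Centred p s v ∧ IsTheta p s v θ ∧ ∀ a, (θ a).snd = D a := by
  have h0 : D 0 = 0 := by have := hρ 0; rwa [map_zero] at this
  have h1 : D 1 = 0 := by have := hρ 1; rwa [map_one] at this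
  let θ : P.presheaf.stalk (pt s) →+* DualNumber K :=
    { toFun := fun a => TrivSqZeroExt.inl (algebraMap k K (χ s a)) + TrivSqZeroExt.inr (D a)
      map_one' := by ext <;> simp [h1]
      map_zero' := by ext <;> simp [h0]
      map_add' := fun a b => by ext <;> simp [hadd]
      map_mul' := fun a b => by
        refine TrivSqZeroExt.ext (by simp) ?_
        simp [TrivSqZeroExt.snd_mul, hmul, op_smul_eq_smul] }
  have hfst : ∀ a, (θ a).fst = algebraMap k K (χ s a) := fun a => by simp [θ]
  have hbase : ∀ c, θ (ρ p s c) = algebraMap K (DualNumber K) (algebraMap k K c) := fun c => by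
    rw [TrivSqZeroExt.algebraMap_eq_inl]
    refine TrivSqZeroExt.ext ?_ ?_ <;> simp [θ, hρ, χ_ρ_apply p s hs]
  refine ⟨Spec.map (CommRingCat.ofHom θ) ≫ P.fromSpecStalk (pt s), θ, ⟨?_, ?_⟩, ⟨rfl, hfst, hbase⟩,
    fun a => by simp [θ]⟩
  · rw [Category.assoc, ← specMap_ρ p s, ← Spec.map_comp, ← Spec.map_comp, ← CommRingCat.ofHom_comp,
      ← CommRingCat.ofHom_comp]
    congr 2
    exact RingHom.ext hbase
  · conv_rhs => rw [← specMap_χ s]
    rw [← Category.assoc, ← Category.assoc, ← Spec.map_comp, ← Spec.map_comp, ← CommRingCat.ofHom_comp,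
      ← CommRingCat.ofHom_comp]
    congr 3
    exact RingHom.ext hfst

/-- The tangent vector of a centred point as a linear form on the cotangent space. -/
theorem exists_cotForm {v : Spec (CommRingCat.of (DualNumber K)) ⟶ P}
    {θ : P.presheaf.stalk (pt s) →+* DualNumber K} (h : IsTheta p s v θ) :
    letI := (ρ p s).toAlgebra
    ∃ D : CotangentSpace (P.presheaf.stalk (pt s)) →ₗ[k] K,
      ∀ z : maximalIdeal (P.presheaf.stalk (pt s)), D ((maximalIdeal _).toCotangent z) = (θ z).snd := by
  let O : Type u := P.presheaf.stalk (pt s)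
  letI : Algebra k O := (ρ p s).toAlgebra
  let F : maximalIdeal O →ₗ[k] K :=
    { toFun := fun z => (θ z).snd
      map_add' := fun a b => by
        show (θ ((a : O) + b)).snd = _
        rw [map_add, TrivSqZeroExt.snd_add]
      map_smul' := fun c a => by
        show (θ (ρ p s c * (a : O))).snd = c • (θ a).snd
        rw [h.snd_mul p s hs, χ_ρ_apply p s hs, (mem_maximalIdeal_iff p s hs _).1 a.2, map_zero, mul_zero, add_zero,
          Algebra.smul_def] }
  let G := (maximalIdeal O).toCotangent.restrictScalars k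
  have hG : Function.Surjective G := (maximalIdeal O).toCotangent_surjective
  have hker : LinearMap.ker G ≤ LinearMap.ker F := by
    intro z hz
    have hz' : (z : O) ∈ maximalIdeal O ^ 2 := (Ideal.toCotangent_eq_zero _ z).1 hz
    show (θ (z : O)).snd = 0
    rw [pow_two] at hz'
    generalize (z : O) = w at hz' ⊢
    induction hz' using Submodule.mul_induction_on' with
    | mem_mul_mem a ha b hb =>
      rw [h.snd_mul p s hs, (mem_maximalIdeal_iff p s hs a).1 ha, (mem_maximalIdeal_iff p s hs b).1 hb, map_zero,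
        zero_mul, mul_zero, add_zero]
    | add a _ b _ ha hb => rw [map_add, TrivSqZeroExt.snd_add, ha, hb, add_zero]
  refine ⟨(LinearMap.ker G).liftQ F hker ∘ₗ (G.quotKerEquivOfSurjective hG).symm.toLinearMap, fun z => ?_⟩
  show (LinearMap.ker G).liftQ F hker ((G.quotKerEquivOfSurjective hG).symm (G z)) = _
  rw [show (G.quotKerEquivOfSurjective hG).symm (G z) = Submodule.Quotient.mk z from
    (LinearEquiv.symm_apply_eq _).2 rfl, Submodule.liftQ_apply]
  rfl

/-- A linear form on the cotangent space gives a centred point. -/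
theorem exists_of_cotForm :
    letI := (ρ p s).toAlgebra
    ∀ E : CotangentSpace (P.presheaf.stalk (pt s)) →ₗ[k] K,
    ∃ (v : Spec (CommRingCat.of (DualNumber K)) ⟶ P) (θ : P.presheaf.stalk (pt s) →+* DualNumber K),
      Centred p s v ∧ IsTheta p s v θ ∧
        ∀ z : maximalIdeal (P.presheaf.stalk (pt s)), (θ z).snd = E ((maximalIdeal _).toCotangent z) := by
  let O : Type u := P.presheaf.stalk (pt s)
  letI : Algebra k O := (ρ p s).toAlgebra
  intro E
  let E' : O → K := fun a => E ((maximalIdeal O).toCotangent ⟨a - ρ p s (χ s a), sub_mem p s hs a⟩)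
  have hEadd : ∀ a b, E' (a + b) = E' a + E' b := fun a b => by
    simp only [E', ← map_add]
    congr 2
    exact Subtype.ext (by
      show a + b - ρ p s (χ s (a + b)) = (a - ρ p s (χ s a)) + (b - ρ p s (χ s b))
      rw [map_add, map_add]
      ring)
  have hEmul : ∀ a b, E' (a * b) = algebraMap k K (χ s a) * E' b + E' a * algebraMap k K (χ s b) := by
    intro a b
    let a' : maximalIdeal O := ⟨a - ρ p s (χ s a), sub_mem p s hs a⟩
    let b' : maximalIdeal O := ⟨b - ρ p s (χ s b), sub_mem p s hs b⟩
    let q : maximalIdeal O := ⟨a' * b', Ideal.mul_mem_right _ _ a'.2⟩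
    have h0 : (maximalIdeal O).toCotangent q = 0 :=
      (Ideal.toCotangent_eq_zero _ q).2 (by rw [pow_two]; exact Ideal.mul_mem_mul a'.2 b'.2)
    have he : (⟨a * b - ρ p s (χ s (a * b)), sub_mem p s hs _⟩ : maximalIdeal O) =
        q + χ s a • b' + χ s b • a' := Subtype.ext (by
      show _ = (a' : O) * b' + ρ p s (χ s a) * b' + ρ p s (χ s b) * a'
      simp only [a', b', map_mul]
      ring)
    show E ((maximalIdeal O).toCotangent _) = _
    rw [he, map_add (maximalIdeal O).toCotangent, map_add (maximalIdeal O).toCotangent, h0, zero_add, LinearMap.map_smul_of_tower, LinearMap.map_smul_of_tower, map_add,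
      map_smul, map_smul, Algebra.smul_def, Algebra.smul_def]
    exact congrArg₂ (· + ·) rfl (mul_comm _ _)
  have hEρ : ∀ c, E' (ρ p s c) = 0 := fun c => by
    show E ((maximalIdeal O).toCotangent _) = 0
    rw [show (⟨_, sub_mem p s hs (ρ p s c)⟩ : maximalIdeal O) = 0 from
      Subtype.ext (by show _ - _ = (0 : O); rw [χ_ρ_apply p s hs, sub_self]), map_zero, map_zero]
  obtain ⟨v, θ, hv, hθ, hsnd⟩ := exists_of_form p s hs E' hEadd hEmul hEρ
  refine ⟨v, θ, hv, hθ, fun z => ?_⟩
  rw [hsnd]
  show E _ = _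
  refine congrArg E (congrArg (maximalIdeal O).toCotangent (Subtype.ext ?_))
  show (z : O) - _ = z
  rw [(mem_maximalIdeal_iff p s hs _).1 z.2, map_zero, sub_zero]

/-- The residue field of a rational point is finite over the base. -/
theorem finite_cotangentSpace [IsNoetherianRing (P.presheaf.stalk (pt s))] :
    letI := (ρ p s).toAlgebra
    Module.Finite k (CotangentSpace (P.presheaf.stalk (pt s))) := by
  let O : Type u := P.presheaf.stalk (pt s)
  letI : Algebra k O := (ρ p s).toAlgebra
  haveI : IsNoetherianRing O := ‹_›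
  haveI : Module.Finite k (ResidueField O) := Module.Finite.of_surjective
    (Algebra.linearMap k (ResidueField O)) fun x => by
      obtain ⟨a, rfl⟩ := residue_surjective x
      refine ⟨χ s a, ?_⟩
      show residue O (ρ p s (χ s a)) = _
      rw [eq_comm, ← sub_eq_zero, ← map_sub, residue_eq_zero_iff]
      exact sub_mem p s hs a
  haveI : IsScalarTower k O (CotangentSpace O) := inferInstance
  haveI : IsScalarTower k (ResidueField O) (CotangentSpace O) := ⟨fun c x y => by
    obtain ⟨a, rfl⟩ := residue_surjective x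
    show residue O (ρ p s c * a) • y = c • residue O a • y
    rw [show residue O (ρ p s c * a) • y = (ρ p s c * a) • y from rfl, show residue O a • y = a • y from rfl, mul_smul]
    exact algebraMap_smul O c (a • y)⟩
  show Module.Finite k (CotangentSpace O)
  exact Module.Finite.trans (ResidueField O) (CotangentSpace O)

end Dual

end Section

end Groth.Agent.H8Coh.RatTangent
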