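import Mathlib.CategoryTheory.Abelian.Basic
import Mathlib.CategoryTheory.Subobject.Limits
import Mathlib.CategoryTheory.Limits.Preserves.Shapes.Kernels

/-!
# Containment of images through cokernels
-/

universe v v' w w'

open CategoryTheory CategoryTheory.Limits

namespace Groth.Agent.H8Coh

variable {C : Type w} [Category.{v} C] [Abelian C] {A B E : C}

/-- An image is contained in another exactly when the map dies in the cokernel. -/
theorem imageSubobject_le_iff (a : A ⟶ E) (b : B ⟶ E) :
    imageSubobject a ≤ imageSubobject b ↔ a ≫ cokernel.π b = 0 := by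
  constructor
  · intro h
    rw [← imageSubobject_arrow_comp a, ← Subobject.ofLE_arrow h, Category.assoc, Category.assoc]
    have : (imageSubobject b).arrow ≫ cokernel.π b = 0 := by
      rw [← cancel_epi (factorThruImageSubobject b), comp_zero, imageSubobject_arrow_comp_assoc,
        cokernel.condition]
    rw [this, comp_zero, comp_zero]
  · intro h
    have hb : b ≫ cokernel.π (imageSubobject b).arrow = 0 := by
      calc b ≫ cokernel.π (imageSubobject b).arrow
          = (factorThruImageSubobject b ≫ (imageSubobject b).arrow) ≫ cokernel.π (imageSubobject b).arrow := by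
            rw [imageSubobject_arrow_comp]
        _ = 0 := by rw [Category.assoc, cokernel.condition, comp_zero]
    have ha : a ≫ cokernel.π (imageSubobject b).arrow = 0 := by
      rw [← cokernel.π_desc b _ hb, reassoc_of% h, zero_comp]
    let hk := Abelian.monoIsKernelOfCokernel (f := (imageSubobject b).arrow) _
      (cokernelIsCokernel (imageSubobject b).arrow)
    exact imageSubobject_le a (hk.lift (KernelFork.ofι a ha)) (hk.fac _ WalkingParallelPair.zero)

variable {D : Type w'} [Category.{v'} D] [Abelian D] (T : C ⥤ D) [T.PreservesZeroMorphisms]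

/-- Containment in the image of a pushed forward subobject, for a functor preserving cokernels. -/
theorem map_imageSubobject_le_iff {K : C} (k : K ⟶ E) (a : A ⟶ E) [PreservesColimit (parallelPair k 0) T]
    {E' A' : D} (i : T.obj E ≅ E') (j : A' ≅ T.obj A) (a' : A' ⟶ E') (ha : a' = j.hom ≫ T.map a ≫ i.hom) :
    imageSubobject a' ≤ imageSubobject (T.map k ≫ i.hom) ↔ T.map (a ≫ cokernel.π k) = 0 := by
  subst ha
  rw [imageSubobject_le_iff]
  constructor
  · intro h
    have h1 : T.map k ≫ i.hom ≫ (i.inv ≫ T.map (cokernel.π k)) = 0 := by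
      rw [Iso.hom_inv_id_assoc, ← T.map_comp, cokernel.condition, T.map_zero]
    have h2 := h =≫ cokernel.desc (T.map k ≫ i.hom) (i.inv ≫ T.map (cokernel.π k)) (by rw [Category.assoc]; exact h1)
    rw [zero_comp] at h2
    simp only [Category.assoc, cokernel.π_desc, Iso.hom_inv_id_assoc] at h2
    rw [T.map_comp]
    rwa [← cancel_epi j.hom, comp_zero]
  · intro h
    have hc := isColimitOfHasCokernelOfPreservesColimit T k
    obtain ⟨d, hd⟩ : ∃ d : T.obj (cokernel k) ⟶ cokernel (T.map k ≫ i.hom),
        T.map (cokernel.π k) ≫ d = i.hom ≫ cokernel.π (T.map k ≫ i.hom) :=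
      ⟨_, hc.fac (CokernelCofork.ofπ (i.hom ≫ cokernel.π (T.map k ≫ i.hom))
        (by rw [← Category.assoc, cokernel.condition])) WalkingParallelPair.one⟩
    rw [T.map_comp] at h
    rw [Category.assoc, Category.assoc, ← hd, reassoc_of% h, zero_comp, comp_zero]

end Groth.Agent.H8Coh
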