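import Groth.Agent.Coherent.RpushStalk
import Groth.Agent.MorProj.VeryAmple
import Groth.Agent.TwistLib.TwistInv
import Groth.Agent.RelVALib.ChowPn

/-!
# Closed subschemes of projective space over a base: properness and relative ampleness of `O(1)`
-/

set_option autoImplicit false
set_option backward.isDefEq.respectTransparency false
set_option linter.style.haveILetI false

universe u

open CategoryTheory CategoryTheory.Limits AlgebraicGeometry Opposite TopologicalSpace

namespace Groth.Agent.H8Coh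

variable {S X : Scheme.{u}} {n : ℕ} (i : X ⟶ CohB1.ProjSpaceOver n S) [IsClosedImmersion i]

theorem isProper_comp_toBase : IsProper (i ≫ CohB1.ProjSpaceOver.toBase n S) := by
  haveI : IsProper (CohB1.ProjSpaceOver.toBase n S) := RelVALib.isProper_toBase n S
  infer_instance

theorem isInvertible_twistOver (n : ℕ) (S : Scheme.{u}) (m : ℤ) : PicF.IsInvertible (Twist.twistOver n S m) := by
  refine PicLoc.isInvertible_pullback _ (TwistLib.isInvertible_twist (fun x => ?_) m)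
  obtain ⟨k, hk⟩ := UPLib.exists_degOne_projSpace (R := CommRingCat.of (ULift.{u} ℤ)) n x
  exact ⟨_, MvPolynomial.isHomogeneous_X (ULift.{u} ℤ) k, hk⟩

/-- `O(1)` is ample over the affine opens of the base. -/
theorem isAmple_restrict_twist {V : S.Opens} (hV : IsAffineOpen V) :
    CohB1.IsAmple ((Scheme.Modules.pullback ((i ≫ CohB1.ProjSpaceOver.toBase n S) ⁻¹ᵁ V).ι).obj
      ((Scheme.Modules.pullback i).obj (Twist.twistOver n S 1))) := by
  let p := CohB1.ProjSpaceOver.toBase n S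
  let q := pullback.fst (CohB1.ProjSpace.toSpec n (ULift.{u} ℤ)) (specULiftZIsTerminal.from S)
  have hsq := (Coherent.isPullback_toSpecSections p hV).paste_horiz
    (IsPullback.of_hasPullback (CohB1.ProjSpace.toSpec n (ULift.{u} ℤ)) (specULiftZIsTerminal.from S))
  haveI : IsAffineHom (hV.fromSpec ≫ specULiftZIsTerminal.from S) := isAffineHom_of_isAffine _
  haveI h1 : IsAffineHom ((p ⁻¹ᵁ V).ι ≫ q) :=
    MorphismProperty.of_isPullback (P := @IsAffineHom) hsq.flip inferInstance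
  have hι : ((i ≫ p) ⁻¹ᵁ V).ι ≫ i ≫ q = (i ∣_ (p ⁻¹ᵁ V)) ≫ (p ⁻¹ᵁ V).ι ≫ q := by
    rw [morphismRestrict_ι_assoc]
    rfl
  haveI : IsClosedImmersion (i ∣_ (p ⁻¹ᵁ V)) := IsZariskiLocalAtTarget.restrict (P := @IsClosedImmersion) ‹_› _
  haveI : IsAffineHom (((i ≫ p) ⁻¹ᵁ V).ι ≫ i ≫ q) :=
    hι ▸ (inferInstanceAs (IsAffineHom ((i ∣_ (p ⁻¹ᵁ V)) ≫ (p ⁻¹ᵁ V).ι ≫ q)))
  exact AmpleLib.isAmple_of_iso
    (((Scheme.Modules.pullbackComp ((i ≫ p) ⁻¹ᵁ V).ι (i ≫ q)).app _).symm ≪≫
      (Scheme.Modules.pullback ((i ≫ p) ⁻¹ᵁ V).ι).mapIso ((Scheme.Modules.pullbackComp i q).app _).symm)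
    (AmpleLib.isAmple_pullback_of_isAffineHom (((i ≫ p) ⁻¹ᵁ V).ι ≫ i ≫ q) (MorProj.isAmple_twistProjSpace n))

end Groth.Agent.H8Coh
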