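import Mathlib.AlgebraicGeometry.IdealSheaf.Subscheme
import Mathlib.AlgebraicGeometry.Morphisms.ClosedImmersion

/-!
# Closed subschemes from locally closed-representable conditions

A condition on morphisms into `T`, stable under composition, local on the source and cut out by an ideal on small
affine opens of `T`, is factorisation through one closed subscheme.
-/

set_option autoImplicit false
set_option backward.isDefEq.respectTransparency false
set_option linter.style.haveILetI false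

universe u

open CategoryTheory AlgebraicGeometry Opposite TopologicalSpace

namespace Groth.Agent.H8Coh

variable {T : Scheme.{u}}

/-- The condition is cut out by an ideal on the affine open. -/
def IsCutOutBy (P : ∀ ⦃U : Scheme.{u}⦄, (U ⟶ T) → Prop) {W : T.Opens} (hW : IsAffineOpen W)
    (I : Ideal Γ(T, W)) : Prop :=
  ∀ (C : CommRingCat.{u}) (ψ : Γ(T, W) ⟶ C), P (Spec.map ψ ≫ hW.fromSpec) ↔ I ≤ RingHom.ker ψ.hom

variable (P : ∀ ⦃U : Scheme.{u}⦄, (U ⟶ T) → Prop)
  (hcomp : ∀ ⦃U U' : Scheme.{u}⦄ (h : U' ⟶ U) (g : U ⟶ T), P g → P (h ≫ g))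
  (hloc : ∀ ⦃U : Scheme.{u}⦄ (g : U ⟶ T), (∀ x : U, ∃ U' : U.Opens, x ∈ U' ∧ P (U'.ι ≫ g)) → P g)

theorem eq_of_isCutOutBy {W : T.Opens} (hW : IsAffineOpen W) {I I' : Ideal Γ(T, W)}
    (h : IsCutOutBy P hW I) (h' : IsCutOutBy P hW I') : I = I' := by
  have key : ∀ {J J' : Ideal Γ(T, W)}, IsCutOutBy P hW J → IsCutOutBy P hW J' → J ≤ J' := fun {J J'} hJ hJ' => by
    have h1 := (hJ (CommRingCat.of (Γ(T, W) ⧸ J')) (CommRingCat.ofHom (Ideal.Quotient.mk J'))).1
      ((hJ' _ _).2 (Ideal.mk_ker (I := J')).ge)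
    exact h1.trans (Ideal.mk_ker (I := J')).le
  exact le_antisymm (key h h') (key h' h)

theorem SpecMap_res_fromSpec {W W' : T.Opens} (hW : IsAffineOpen W) (hW' : IsAffineOpen W') (le : W' ≤ W)
    {C : CommRingCat.{u}} (χ : Γ(T, W') ⟶ C) :
    Spec.map (T.presheaf.map (homOfLE le).op ≫ χ) ≫ hW.fromSpec = Spec.map χ ≫ hW'.fromSpec := by
  rw [Spec.map_comp, Category.assoc, hW.map_fromSpec hW' (homOfLE le).op]

theorem isCutOutBy_restrict {W W' : T.Opens} (hW : IsAffineOpen W) (hW' : IsAffineOpen W') (le : W' ≤ W)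
    {I : Ideal Γ(T, W)} (h : IsCutOutBy P hW I) :
    IsCutOutBy P hW' (I.map (T.presheaf.map (homOfLE le).op).hom) := fun C χ => by
  rw [← SpecMap_res_fromSpec hW hW' le χ, h]
  rw [Ideal.map_le_iff_le_comap, RingHom.comap_ker]
  rfl

include hcomp hloc in
/-- Basic opens cutting out give cutting out. -/
theorem exists_isCutOutBy {W : T.Opens} (hW : IsAffineOpen W) (s : Finset Γ(T, W))
    (hs : Ideal.span (s : Set Γ(T, W)) = ⊤)
    (h : ∀ k ∈ s, ∃ I : Ideal Γ(T, T.basicOpen k), IsCutOutBy P (hW.basicOpen k) I) :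
    ∃ I : Ideal Γ(T, W), IsCutOutBy P hW I := by
  classical
  choose I hI using h
  let r : ∀ k : Γ(T, W), Γ(T, W) ⟶ Γ(T, T.basicOpen k) := fun k => T.presheaf.map (homOfLE (T.basicOpen_le k)).op
  let J : Ideal Γ(T, W) := ⨅ (k : Γ(T, W)) (hk : k ∈ s), (I k hk).comap (r k).hom
  refine ⟨J, fun C ψ => ?_⟩
  -- the maps on the pieces
  let L : ∀ k : Γ(T, W), C ⟶ CommRingCat.of (Localization.Away (ψ k)) := fun k =>
    CommRingCat.ofHom (algebraMap C (Localization.Away (ψ k)))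
  have hχ : ∀ k : Γ(T, W), ∃ χ : Γ(T, T.basicOpen k) ⟶ CommRingCat.of (Localization.Away (ψ k)),
      r k ≫ χ = ψ ≫ L k := fun k => by
    letI := (r k).hom.toAlgebra
    haveI : IsLocalization.Away k Γ(T, T.basicOpen k) := hW.isLocalization_basicOpen k
    have hu : IsUnit (((L k).hom.comp ψ.hom) k) :=
      IsLocalization.Away.algebraMap_isUnit (S := Localization.Away (ψ k)) (ψ k)
    exact ⟨CommRingCat.ofHom (IsLocalization.Away.lift k (g := ((L k).hom.comp ψ.hom)) hu),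
      CommRingCat.hom_ext (IsLocalization.Away.lift_comp k hu)⟩
  choose χ hχ using hχ
  have heq : ∀ k, Spec.map (χ k) ≫ (hW.basicOpen k).fromSpec = Spec.map (L k) ≫ Spec.map ψ ≫ hW.fromSpec :=
    fun k => by
      rw [← SpecMap_res_fromSpec hW (hW.basicOpen k) (T.basicOpen_le k) (χ k)]
      rw [show T.presheaf.map (homOfLE (T.basicOpen_le k)).op ≫ χ k = ψ ≫ L k from hχ k, Spec.map_comp,
        Category.assoc]
  have hspan : Ideal.span (ψ '' (s : Set Γ(T, W))) = ⊤ := by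
    rw [← Ideal.map_span, hs, Ideal.map_top]
  constructor
  · intro hP a ha
    show ψ a = 0
    suffices h0 : ∀ k ∈ s, algebraMap C (Localization.Away (ψ k)) (ψ a) = 0 by
      let A' : Ideal C := LinearMap.ker (LinearMap.toSpanSingleton C C (ψ a))
      have hA : A'.radical = ⊤ := top_le_iff.1 (hspan ▸ Ideal.span_le.2 (by
        rintro _ ⟨k, hk, rfl⟩
        obtain ⟨⟨_, m, rfl⟩, hm⟩ := (IsLocalization.map_eq_zero_iff (Submonoid.powers (ψ k)) _ _).1 (h0 k hk)
        exact ⟨m, hm⟩))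
      have h1 : (1 : C) ∈ A' := (Ideal.eq_top_iff_one _).1 (Ideal.radical_eq_top.1 hA)
      simpa [A'] using h1
    intro k hk
    have h1 : I k hk ≤ RingHom.ker (χ k).hom := (hI k hk _ (χ k)).1 (heq k ▸ hcomp _ _ hP)
    have h2 : (χ k) ((r k) a) = 0 := h1 ((iInf₂_le (α := Ideal Γ(T, W)) k hk : J ≤ _) ha)
    rw [← CategoryTheory.comp_apply, hχ k] at h2
    exact h2
  · intro hJ
    refine hloc _ fun q => ?_
    obtain ⟨_, ⟨k, hk, rfl⟩, hq⟩ : ∃ c ∈ ψ '' (s : Set Γ(T, W)), c ∉ q.asIdeal := by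
      by_contra! hcon
      exact q.isPrime.ne_top (top_le_iff.1 (hspan ▸ Ideal.span_le.2 hcon))
    refine ⟨(Spec.map (L k)).opensRange, ?_, ?_⟩
    · rw [← SetLike.mem_coe, Scheme.Hom.coe_opensRange]
      exact (PrimeSpectrum.localization_away_comap_range (Localization.Away (ψ k)) (ψ k)).ge hq
    rw [← (Spec.map (L k)).isoOpensRange_inv_comp, Category.assoc, ← heq]
    refine hcomp _ _ ((hI k hk _ (χ k)).2 fun b hb => ?_)
    -- `b` is a fraction of an element of `J`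
    letI := (r k).hom.toAlgebra
    haveI : IsLocalization.Away k Γ(T, T.basicOpen k) := hW.isLocalization_basicOpen k
    obtain ⟨n, a, ha⟩ := IsLocalization.Away.surj k b
    have hmem : ∀ l ∈ s, ∀ hl : l ∈ s, ∃ M : ℕ, r l (k ^ M * a) ∈ I l hl := fun l _ hl => by
      let Q := Γ(T, T.basicOpen l) ⧸ I l hl
      let kl : Q := Ideal.Quotient.mk _ (r l k)
      let C' := Localization.Away kl
      let χl : Γ(T, T.basicOpen l) ⟶ CommRingCat.of C' :=
        CommRingCat.ofHom ((algebraMap Q C').comp (Ideal.Quotient.mk _))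
      have hP : P (Spec.map χl ≫ (hW.basicOpen l).fromSpec) := (hI l hl _ χl).2 fun x hx => by
        show algebraMap Q C' (Ideal.Quotient.mk _ x) = 0
        rw [Ideal.Quotient.eq_zero_iff_mem.2 hx, map_zero]
      have hu : IsUnit (((r l) ≫ χl).hom k) := IsLocalization.Away.algebraMap_isUnit (S := C') kl
      let χk : Γ(T, T.basicOpen k) ⟶ CommRingCat.of C' :=
        CommRingCat.ofHom (IsLocalization.Away.lift k (g := ((r l) ≫ χl).hom) hu)
      have hk' : r k ≫ χk = r l ≫ χl := CommRingCat.hom_ext (IsLocalization.Away.lift_comp k hu)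
      have hPk : P (Spec.map χk ≫ (hW.basicOpen k).fromSpec) := by
        rw [← SpecMap_res_fromSpec hW (hW.basicOpen k) (T.basicOpen_le k) χk,
          show T.presheaf.map (homOfLE (T.basicOpen_le k)).op ≫ χk = r l ≫ χl from hk',
          SpecMap_res_fromSpec hW (hW.basicOpen l) (T.basicOpen_le l) χl]
        exact hP
      have h0 : χk b = 0 := (hI k hk _ χk).1 hPk hb
      have h1 : algebraMap Q C' (Ideal.Quotient.mk _ (r l a)) = 0 := by
        show (r l ≫ χl) a = 0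
        rw [← hk']
        show χk (r k a) = 0
        rw [show r k a = b * (r k k) ^ n from ha.symm, map_mul, h0, zero_mul]
      obtain ⟨⟨_, M, rfl⟩, hM⟩ := (IsLocalization.map_eq_zero_iff (Submonoid.powers kl) C' _).1 h1
      refine ⟨M, Ideal.Quotient.eq_zero_iff_mem.1 ?_⟩
      rw [map_mul, map_pow, map_mul, map_pow]
      exact hM
    choose M hM using fun l (hl : l ∈ s) => hmem l hl hl
    let N := s.attach.sup fun l => M l.1 l.2
    have haJ : k ^ N * a ∈ J := by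
      refine Submodule.mem_iInf _ |>.2 fun l => Submodule.mem_iInf _ |>.2 fun hl => ?_
      show r l (k ^ N * a) ∈ I l hl
      obtain ⟨c, hc⟩ := Nat.exists_eq_add_of_le (Finset.le_sup (f := fun l : s => M l.1 l.2) (Finset.mem_attach s ⟨l, hl⟩))
      rw [show N = M l hl + c from hc, pow_add, mul_comm (k ^ M l hl) (k ^ c), mul_assoc, map_mul]
      exact Ideal.mul_mem_left _ _ (hM l hl)
    have h2 : (χ k) (r k (k ^ N * a)) = 0 := by
      rw [← CategoryTheory.comp_apply, hχ k]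
      show (L k) (ψ (k ^ N * a)) = 0
      rw [hJ haJ, map_zero]
    have hu : IsUnit ((χ k) (r k k)) := by
      rw [← CategoryTheory.comp_apply, hχ k]
      exact IsLocalization.Away.algebraMap_isUnit (S := Localization.Away (ψ k)) (ψ k)
    rw [map_mul, map_pow, map_mul, map_pow, show r k a = b * (r k k) ^ n from ha.symm, map_mul, map_pow] at h2
    rw [(hu.pow N).mul_right_eq_zero, (hu.pow n).mul_left_eq_zero] at h2
    exact h2

include hcomp hloc in
/-- A locally cut out condition is factorisation through a closed subscheme. -/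
theorem exists_closed_locus
    (hex : ∀ t : T, ∃ O : T.Opens, t ∈ O ∧ ∀ (W : T.Opens) (hW : IsAffineOpen W), W ≤ O →
      ∃ I : Ideal Γ(T, W), IsCutOutBy P hW I) :
    ∃ (Z : Scheme.{u}) (j : Z ⟶ T), IsClosedImmersion j ∧
      ∀ (U : Scheme.{u}) (g : U ⟶ T), P g ↔ ∃ h : U ⟶ Z, h ≫ j = g := by
  classical
  choose O htO hO using hex
  have hall : ∀ W : T.affineOpens, ∃ I : Ideal Γ(T, W.1), IsCutOutBy P W.2 I := by
    intro W
    have hb : ∀ x : W.1, ∃ k : Γ(T, W.1), T.basicOpen k ≤ O x.1 ∧ x.1 ∈ T.basicOpen k := fun x => by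
      obtain ⟨k, hk, hxk⟩ := W.2.exists_basicOpen_le (V := W.1 ⊓ O x.1) ⟨x.1, x.2, htO x.1⟩ x.2
      exact ⟨k, hk.trans inf_le_right, hxk⟩
    choose k hk hxk using hb
    obtain ⟨s, hs, hspan⟩ : ∃ s : Finset Γ(T, W.1), (↑s ⊆ Set.range k) ∧ Ideal.span (s : Set Γ(T, W.1)) = ⊤ := by
      have : Ideal.span (Set.range k) = ⊤ := by
        rw [← W.2.self_le_iSup_basicOpen_iff]
        exact fun x hx => Opens.mem_iSup.2 ⟨⟨k ⟨x, hx⟩, ⟨_, rfl⟩⟩, hxk ⟨x, hx⟩⟩
      obtain ⟨s, hs, h1⟩ := Submodule.mem_span_finite_of_mem_span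
        (this ▸ Submodule.mem_top : (1 : Γ(T, W.1)) ∈ Ideal.span (Set.range k))
      exact ⟨s, hs, (Ideal.eq_top_iff_one _).2 h1⟩
    exact exists_isCutOutBy P hcomp hloc W.2 s hspan fun c hc => by
      obtain ⟨x, rfl⟩ := hs hc
      exact hO x.1 _ (W.2.basicOpen _) (hk x)
  choose I hI using hall
  let 𝓘 : T.IdealSheafData :=
    { ideal := I
      map_ideal_basicOpen := fun W f => eq_of_isCutOutBy P (W.2.basicOpen f)
        (isCutOutBy_restrict P W.2 (W.2.basicOpen f) (T.basicOpen_le f) (hI W)) (hI (T.affineBasicOpen f)) }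
  have hPj : P 𝓘.subschemeι := hloc _ fun z => by
    obtain ⟨W, hW, hzW, -⟩ := exists_isAffineOpen_mem_and_subset (U := ⊤) (x := 𝓘.subschemeι z) trivial
    refine ⟨𝓘.subschemeι ⁻¹ᵁ W, hzW, ?_⟩
    have hW' : IsAffineOpen (𝓘.subschemeι ⁻¹ᵁ W) := hW.preimage _
    rw [← hW'.isoSpec.hom_inv_id_assoc ((𝓘.subschemeι ⁻¹ᵁ W).ι ≫ 𝓘.subschemeι)]
    refine hcomp _ _ ?_
    rw [← Category.assoc, show hW'.isoSpec.inv ≫ (𝓘.subschemeι ⁻¹ᵁ W).ι = hW'.fromSpec from rfl,
      ← IsAffineOpen.SpecMap_appLE_fromSpec _ hW hW' le_rfl]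
    refine (hI ⟨W, hW⟩ _ _).2 fun a ha => ?_
    have h1 : a ∈ RingHom.ker (𝓘.subschemeι.app W).hom := (𝓘.ker_subschemeι_app ⟨W, hW⟩).ge ha
    rw [RingHom.mem_ker, ← Scheme.Hom.app_eq_appLE]
    exact h1
  refine ⟨_, 𝓘.subschemeι, inferInstance, fun U g => ⟨fun hg => ?_, ?_⟩⟩
  · have hle : 𝓘.subschemeι.ker ≤ g.ker := by
      rw [Scheme.IdealSheafData.ker_subschemeι]
      refine Scheme.IdealSheafData.le_ofIdeals_iff.2 fun W a ha => ?_
      refine TopCat.Sheaf.eq_of_locally_eq' U.sheaf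
        (fun x : (g ⁻¹ᵁ W.1 : U.Opens) => (exists_isAffineOpen_mem_and_subset (U := g ⁻¹ᵁ W.1) x.2).choose)
        (g ⁻¹ᵁ W.1) (fun x => homOfLE (exists_isAffineOpen_mem_and_subset (U := g ⁻¹ᵁ W.1) x.2).choose_spec.2.2)
        (fun y hy => Opens.mem_iSup.2 ⟨⟨y, hy⟩, (exists_isAffineOpen_mem_and_subset (U := g ⁻¹ᵁ W.1) hy).choose_spec.2.1⟩)
        _ _ fun x => ?_
      obtain ⟨hV, -, hle⟩ := (exists_isAffineOpen_mem_and_subset (U := g ⁻¹ᵁ W.1) x.2).choose_spec
      have h1 := (hI W _ (g.appLE W.1 _ hle)).1 (by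
        rw [IsAffineOpen.SpecMap_appLE_fromSpec g W.2 hV hle]
        exact hcomp _ _ hg) ha
      rw [map_zero]
      exact h1
    exact ⟨IsClosedImmersion.lift _ g hle, IsClosedImmersion.lift_fac _ g hle⟩
  · rintro ⟨h, rfl⟩
    exact hcomp _ _ hPj

end Groth.Agent.H8Coh
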