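import Groth.Agent.H8Coh.VanishAffine
import Groth.Agent.H8Coh.ClosedLocus
import Groth.Agent.Coherent.CohBC.TwistStrata

/-!
# The vanishing locus of a homomorphism into a flat family is closed
-/

set_option autoImplicit false
set_option maxHeartbeats 400000
set_option backward.isDefEq.respectTransparency false
set_option linter.style.haveILetI false

universe u

open CategoryTheory CategoryTheory.Limits AlgebraicGeometry Opposite TopologicalSpace
open Groth.Agent.Coherent Groth.Agent.PicLib Groth.Agent.AmpleLib Groth.Agent.Coherent.CohBC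

namespace Groth.Agent.H8Coh

variable {X Y Z : Scheme.{u}}

/-- Pullback along a composite kills what the second pullback kills. -/
theorem pullback_map_comp_eq_zero {M N : X.Modules} (h : M ⟶ N) (a : Z ⟶ Y) (b : Y ⟶ X)
    (h0 : (Scheme.Modules.pullback b).map h = 0) : (Scheme.Modules.pullback (a ≫ b)).map h = 0 := by
  rw [← NatIso.naturality_1 (Scheme.Modules.pullbackComp a b) h]
  simp [h0]

theorem pullback_map_map_eq_zero_iff {M N : X.Modules} (h : M ⟶ N) (a : Z ⟶ Y) (b : Y ⟶ X) :
    (Scheme.Modules.pullback a).map ((Scheme.Modules.pullback b).map h) = 0 ↔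
      (Scheme.Modules.pullback (a ≫ b)).map h = 0 := by
  rw [← NatIso.naturality_1 (Scheme.Modules.pullbackComp a b) h]
  constructor
  · intro h0
    rw [show (Scheme.Modules.pullback b ⋙ Scheme.Modules.pullback a).map h = 0 from h0]
    simp
  · intro h0
    rwa [← cancel_epi ((Scheme.Modules.pullbackComp a b).inv.app M), comp_zero,
      ← cancel_mono ((Scheme.Modules.pullbackComp a b).hom.app N), zero_comp, Category.assoc]

theorem pullback_congr_eq_zero {M N : X.Modules} (h : M ⟶ N) {a b : Y ⟶ X} (e : a = b)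
    (h0 : (Scheme.Modules.pullback a).map h = 0) : (Scheme.Modules.pullback b).map h = 0 := e ▸ h0

/-- A map of modules vanishing on an open cover vanishes. -/
theorem eq_zero_of_pullback_opens {M N : X.Modules} (h : M ⟶ N)
    (hcov : ∀ x : X, ∃ U : X.Opens, x ∈ U ∧ (Scheme.Modules.pullback U.ι).map h = 0) : h = 0 := by
  refine Scheme.Modules.hom_ext _ _ fun W => ?_
  ext a
  refine AmpleLib.sec_ext _ (h.app W a) 0 fun y hy => ?_
  obtain ⟨U, hyU, hU⟩ := hcov y
  have h1 : (Scheme.Modules.restrictFunctor U.ι).map h = 0 := by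
    rw [← NatIso.naturality_2 (Scheme.Modules.restrictFunctorIsoPullback U.ι) h, hU]
    simp
  refine ⟨U.ι ''ᵁ (U.ι ⁻¹ᵁ W), Set.image_preimage_subset _ _, ⟨⟨y, hyU⟩, hy, rfl⟩, ?_⟩
  rw [map_zero, ← app_resM]
  exact ConcreteCategory.congr_hom (congrArg (fun ψ => Scheme.Modules.Hom.app ψ (U.ι ⁻¹ᵁ W)) h1) _

variable {S T XT : Scheme.{u}} (f : X ⟶ S) [IsProper f] [IsLocallyNoetherian S] {L : X.Modules}
  {φ : T ⟶ S} {πT : XT ⟶ T} {g : XT ⟶ X} (hsq : IsPullback g πT f φ)

/-- The pullback of the map vanishes over the morphism. -/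
def VanishesOver (πT : XT ⟶ T) {M N : XT.Modules} (h : M ⟶ N) ⦃U : Scheme.{u}⦄ (u : U ⟶ T) : Prop :=
  ∀ (XU : Scheme.{u}) (gU : XU ⟶ XT) (πU : XU ⟶ U), IsPullback gU πU πT u →
    (Scheme.Modules.pullback gU).map h = 0

theorem vanishesOver_iff {M N : XT.Modules} (h : M ⟶ N) {U XU : Scheme.{u}} {u : U ⟶ T} {gU : XU ⟶ XT}
    {πU : XU ⟶ U} (hs : IsPullback gU πU πT u) :
    VanishesOver πT h u ↔ (Scheme.Modules.pullback gU).map h = 0 := by
  refine ⟨fun h0 => h0 XU gU πU hs, fun h0 XU' gU' πU' hs' => ?_⟩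
  exact pullback_congr_eq_zero h (hs'.isoIsPullback_hom_fst _ _ hs) (pullback_map_comp_eq_zero h _ gU h0)

include hsq in
/-- The vanishing locus of a homomorphism into a flat family is a closed subscheme. -/
theorem exists_vanishing_locus
    (hamp : ∀ V : S.Opens, IsAffineOpen V → CohB1.IsAmple ((Scheme.Modules.pullback (f ⁻¹ᵁ V).ι).obj L))
    {E F : X.Modules} (hE : Coh.IsCoh E) (hF : Coh.IsCoh F) (hfl : FlatMod.IsFlatOver f F)
    (h : (Scheme.Modules.pullback g).obj E ⟶ (Scheme.Modules.pullback g).obj F) :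
    ∃ (Z : Scheme.{u}) (j : Z ⟶ T), IsClosedImmersion j ∧
      ∀ (U XU : Scheme.{u}) (u : U ⟶ T) (gU : XU ⟶ XT) (πU : XU ⟶ U), IsPullback gU πU πT u →
        ((Scheme.Modules.pullback gU).map h = 0 ↔ ∃ k : U ⟶ Z, k ≫ j = u) := by
  obtain ⟨Z, j, hj, hZ⟩ := exists_closed_locus (VanishesOver πT h) (fun U U' a u h0 XU gU πU hs => by
      let e : XU ⟶ pullback πT u := pullback.lift gU (πU ≫ a) (by rw [hs.w, Category.assoc])
      exact pullback_congr_eq_zero h (pullback.lift_fst _ _ _)
        (pullback_map_comp_eq_zero h e _ (h0 _ _ _ (IsPullback.of_hasPullback πT u))))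
    (fun U u hloc XU gU πU hs => eq_zero_of_pullback_opens _ fun x => by
      obtain ⟨U', hxU', hU'⟩ := hloc (πU x)
      refine ⟨πU ⁻¹ᵁ U', hxU', (pullback_map_map_eq_zero_iff h _ gU).2 ?_⟩
      exact hU' _ _ (πU ∣_ U') ((isPullback_morphismRestrict πU U').flip.paste_horiz hs))
    (fun t => by
      obtain ⟨V, hV, hxV, -⟩ := exists_isAffineOpen_mem_and_subset (U := ⊤) (x := φ t) trivial
      refine ⟨φ ⁻¹ᵁ V, hxV, fun W hW e => ?_⟩
      let _ : (f ⁻¹ᵁ V).toScheme.Over (Spec (CommRingCat.of Γ(S, V))) := ⟨toSpecSections f hV⟩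
      let _ : (πT ⁻¹ᵁ W).toScheme.Over (Spec (CommRingCat.of Γ(T, W))) := ⟨toSpecSections πT hW⟩
      have hsqV := isPullback_toSpecSections f hV
      haveI : IsProper ((f ⁻¹ᵁ V).toScheme ↘ Spec (CommRingCat.of Γ(S, V))) :=
        MorphismProperty.of_isPullback (P := @IsProper) hsqV inferInstance
      haveI : IsNoetherianRing Γ(S, V) := IsLocallyNoetherian.component_noetherian ⟨V, hV⟩
      haveI : IsLocallyNoetherian X := LocallyOfFiniteType.isLocallyNoetherian f
      let ι := (f ⁻¹ᵁ V).ι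
      let ιT := (πT ⁻¹ᵁ W).ι
      obtain ⟨gW, hgW, hsqW⟩ := exists_localSquare f φ hsq hV hW e
      let cE : ∀ M : X.Modules, (Scheme.Modules.pullback ιT).obj ((Scheme.Modules.pullback g).obj M) ≅
          (Scheme.Modules.pullback gW).obj ((Scheme.Modules.pullback ι).obj M) := fun M =>
        (Scheme.Modules.pullbackComp _ _).app M ≪≫ (Scheme.Modules.pullbackCongr hgW.symm).app M ≪≫
          ((Scheme.Modules.pullbackComp gW ι).app M).symm
      let h' := (cE E).inv ≫ (Scheme.Modules.pullback ιT).map h ≫ (cE F).hom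
      obtain ⟨I, hI⟩ := exists_vanishing_ideal (hamp V hV) (ZClosLib.isCoh_pullback ι E hE)
        (ZClosLib.isCoh_pullback ι F hF)
        (fun x => Desc19b.isFlatOverAt_baseChange f _ _ _ hsqV F x (hfl _))
        (φ.appLE V W e).hom gW hsqW h'
      refine ⟨I, fun C ψ => ?_⟩
      let X'' : Scheme.{u} := pullback (toSpecSections πT hW) (Spec.map ψ)
      let _ : X''.Over (Spec (CommRingCat.of C)) := ⟨pullback.snd _ _⟩
      have hC := IsPullback.of_hasPullback (toSpecSections πT hW) (Spec.map ψ)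
      rw [vanishesOver_iff h (hC.paste_horiz (isPullback_toSpecSections πT hW)),
        ← pullback_map_map_eq_zero_iff, ← hI C ψ.hom X'' (pullback.fst _ _) hC]
      simp only [h', Functor.map_comp]
      constructor
      · intro h0
        rw [h0, zero_comp, comp_zero]
      · intro h0
        rwa [← cancel_epi ((Scheme.Modules.pullback (pullback.fst (toSpecSections πT hW) (Spec.map ψ))).map (cE E).inv),
          comp_zero, ← cancel_mono ((Scheme.Modules.pullback (pullback.fst (toSpecSections πT hW) (Spec.map ψ))).map (cE F).hom),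
          zero_comp, Category.assoc])
  exact ⟨Z, j, hj, fun U XU u gU πU hs => (vanishesOver_iff h hs).symm.trans (hZ U u)⟩

end Groth.Agent.H8Coh
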