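import Groth.Agent.Coherent.RpushStalk
import Groth.Agent.Coherent.RpushVanish
import Groth.Agent.Coherent.QcohOps
import Groth.Agent.Coherent.AffinenessApps
import Mathlib

/-!
# Vanishing of higher direct images above a degree is stable under base change
-/

set_option autoImplicit false
set_option linter.style.haveILetI false
set_option backward.isDefEq.respectTransparency.types false

universe u

open CategoryTheory Limits AlgebraicGeometry TopologicalSpace Opposite Groth.Agent.Coherent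

namespace Groth.Agent.H8Coh

variable {X Y : Scheme.{u}}

theorem isQCoh_restrictOpen (U : X.Opens) (M : X.Modules) [Coh.IsQCoh M] : Coh.IsQCoh (M.restrict U.ι) := by
  first
  | infer_instance
  | exact isQCoh_restrict U M

/-- If `R^i f_*` kills all quasi-coherent modules, `H^i(f⁻¹V, N) = 0` for `V` affine and `N` on `f⁻¹V`. -/
theorem subsingleton_HH_preimage (f : X ⟶ Y) [CompactSpace X] [QuasiSeparatedSpace X] [QuasiSeparatedSpace Y]
    [QuasiSeparated f] (i : ℕ)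
    (hvan : ∀ M : X.Modules, Coh.IsQCoh M → IsZero ((Coh.RpushAb f i).obj (Coh.toAb M)))
    {V : Y.Opens} (hV : IsAffineOpen V) (N : (f ⁻¹ᵁ V).toScheme.Modules) [Coh.IsQCoh N] :
    Subsingleton (Coh.HH (f ⁻¹ᵁ V).toScheme N i) := by
  haveI := hasInjectiveResolutions_modules X
  haveI : CompactSpace (f ⁻¹ᵁ V).toScheme :=
    isCompact_iff_compactSpace.mp (QuasiCompact.isCompact_preimage (f := f) _ V.2 hV.isCompact)
  let M := (Coh.push (f ⁻¹ᵁ V).ι).obj N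
  haveI : Coh.IsQCoh M := isQCoh_push _ N
  haveI := isQCoh_restrictOpen (f ⁻¹ᵁ V) M
  let e : M.restrict (f ⁻¹ᵁ V).ι ≅ N := asIso ((Scheme.Modules.restrictAdjunction (f ⁻¹ᵁ V).ι).counit.app N)
  obtain ⟨g⟩ := exists_rpush_sections_equiv (f := f) hV M i
  have hz : IsZero (Coh.toAb ((Coh.Rpush f i).obj M)) := (hvan M inferInstance).of_iso (toAbRpushIso f M i)
  have hsub : Subsingleton Γ((Coh.Rpush f i).obj M, V) := by
    have h0 : IsZero ((Coh.toAb ((Coh.Rpush f i).obj M)).obj.obj (op V)) :=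
      Functor.map_isZero (sheafToPresheaf _ _ ⋙ (evaluation _ _).obj (op V)) hz
    exact AddCommGrpCat.subsingleton_of_isZero h0
  have h1 : Subsingleton (Coh.HH (f ⁻¹ᵁ V).toScheme (M.restrict (f ⁻¹ᵁ V).ι) i) := g.toEquiv.subsingleton
  have h2 : Subsingleton (Sheaf.H' (Coh.toAb (M.restrict (f ⁻¹ᵁ V).ι)) i (⊤ : (f ⁻¹ᵁ V).toScheme.Opens)) :=
    (HHTopEquiv _ i).symm.toEquiv.subsingleton
  have h3 := subsingleton_H'_of_iso e i ⊤ h2
  exact (HHTopEquiv N i).toEquiv.subsingleton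

/-- Vanishing above degree `d` is stable under base change. -/
theorem isZero_rpushAb_baseChange {X' Y' : Scheme.{u}} (f : X ⟶ Y) [CompactSpace X] [QuasiSeparatedSpace X]
    [QuasiSeparatedSpace Y] [QuasiSeparated f] (i : ℕ)
    (hvan : ∀ M : X.Modules, Coh.IsQCoh M → IsZero ((Coh.RpushAb f i).obj (Coh.toAb M)))
    (g : Y' ⟶ Y) (f' : X' ⟶ Y') (g' : X' ⟶ X) (sq : IsPullback g' f' f g) (M' : X'.Modules) [Coh.IsQCoh M'] :
    IsZero ((Coh.RpushAb f' i).obj (Coh.toAb M')) := by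
  refine isZero_rpushAb_of_basis f'
    {V' : Y'.Opens | IsAffineOpen V' ∧ ∃ V : Y.Opens, IsAffineOpen V ∧ V' ≤ g ⁻¹ᵁ V} ?_ (Coh.toAb M') i ?_
  · rw [Opens.isBasis_iff_nbhd]
    intro U y hy
    obtain ⟨V, hV, hgyV, -⟩ := exists_isAffineOpen_mem_and_subset (X := Y) (x := g y) (U := ⊤) trivial
    obtain ⟨V', hV', hyV', hle⟩ := exists_isAffineOpen_mem_and_subset (X := Y') (x := y) (U := U ⊓ g ⁻¹ᵁ V) ⟨hy, hgyV⟩
    exact ⟨V', ⟨hV', V, hV, fun z hz => (hle hz).2⟩, hyV', fun z hz => (hle hz).1⟩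
  rintro V' ⟨hV', V, hV, hle⟩
  let g₁ : V'.toScheme ⟶ V.toScheme := g.resLE V V' hle
  have hle' : f' ⁻¹ᵁ V' ≤ g' ⁻¹ᵁ (f ⁻¹ᵁ V) := by
    rw [← Scheme.Hom.comp_preimage, sq.w, Scheme.Hom.comp_preimage]
    exact fun z hz => hle hz
  let h : (f' ⁻¹ᵁ V').toScheme ⟶ (f ⁻¹ᵁ V).toScheme := g'.resLE _ _ hle'
  haveI : IsAffine V.toScheme := hV
  haveI : IsAffine V'.toScheme := hV'
  haveI : IsAffineHom g₁ := inferInstance
  have hsq : IsPullback h (f' ∣_ V') (f ∣_ V) g₁ := by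
    have h1 : IsPullback ((f' ⁻¹ᵁ V').ι ≫ g') (f' ∣_ V') f (V'.ι ≫ g) :=
      (isPullback_morphismRestrict f' V').flip.paste_horiz sq
    refine IsPullback.of_right (h₁₁ := h) (by
      rw [show h ≫ (f ⁻¹ᵁ V).ι = (f' ⁻¹ᵁ V').ι ≫ g' from Scheme.Hom.resLE_comp_ι _ _,
        show g₁ ≫ V.ι = V'.ι ≫ g from Scheme.Hom.resLE_comp_ι _ _]
      exact h1) ?_ (isPullback_morphismRestrict f V).flip
    rw [← cancel_mono V.ι, Category.assoc, Category.assoc, morphismRestrict_ι,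
      show g₁ ≫ V.ι = V'.ι ≫ g from Scheme.Hom.resLE_comp_ι _ _,
      ← Category.assoc, show h ≫ (f ⁻¹ᵁ V).ι = (f' ⁻¹ᵁ V').ι ≫ g' from Scheme.Hom.resLE_comp_ι _ _,
      morphismRestrict_ι_assoc, Category.assoc, sq.w]
  haveI : IsAffineHom h := MorphismProperty.of_isPullback hsq.flip (inferInstance : IsAffineHom g₁)
  let N' := M'.restrict (f' ⁻¹ᵁ V').ι
  haveI : Coh.IsQCoh N' := isQCoh_restrictOpen _ M'
  haveI : Coh.IsQCoh ((Coh.push h).obj N') := isQCoh_push h N'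
  have := subsingleton_HH_preimage f i hvan hV ((Coh.push h).obj N')
  have h1 : Subsingleton (Coh.HH (f' ⁻¹ᵁ V').toScheme N' i) := (HHAffinePushEquiv h N' i).toEquiv.subsingleton
  have h2 : Subsingleton (Sheaf.H' (Coh.toAb N') i (⊤ : (f' ⁻¹ᵁ V').toScheme.Opens)) :=
    (HHTopEquiv N' i).symm.toEquiv.subsingleton
  have h3 : Subsingleton (Sheaf.H' (Coh.toAb M') i ((f' ⁻¹ᵁ V').ι ''ᵁ ⊤)) :=
    (H'ModRestrictEquiv (f' ⁻¹ᵁ V').ι M' ⊤ i).symm.toEquiv.subsingleton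
  rwa [Scheme.Opens.ι_image_top] at h3

end Groth.Agent.H8Coh
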