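import Groth.Agent.H8Coh.TwistBCGlobal
import Groth.Prelude.Def_KRR

/-!
# `KRR.bcMap` on pulled back sections
-/

set_option autoImplicit false
set_option backward.isDefEq.respectTransparency false

universe u

open CategoryTheory CategoryTheory.Limits AlgebraicGeometry Opposite TopologicalSpace
open Groth.Agent.Coherent Groth.Agent.PicLib

namespace Groth.Agent.H8Coh

variable {X Y : Scheme.{u}} (f : X ⟶ Y)

/-- The counit on pulled back sections of a direct image. -/
theorem counit_app_pullSec (M : X.Modules) {V : Y.Opens} (m : Γ(M, f ⁻¹ᵁ V)) :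
    ((Scheme.Modules.pullbackPushforwardAdjunction f).counit.app M).app (f ⁻¹ᵁ V)
      (pullSec f (L := (Scheme.Modules.pushforward f).obj M) (U := V) m) = m :=
  congr(($((Scheme.Modules.pullbackPushforwardAdjunction f).right_triangle_components M)).app V m)

variable {Z T : Scheme.{u}} {πT : Z ⟶ T} {φ : T ⟶ Y} {g : Z ⟶ X}

/-- The adjoint base change map of a square, on pulled back sections. -/
theorem adjointBC_app_pullSec (hsq : g ≫ f = πT ≫ φ) (M : X.Modules) {V : Y.Opens} (m : Γ(M, f ⁻¹ᵁ V)) :
    (((Scheme.Modules.pullbackPushforwardAdjunction πT).homEquiv _ _)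
      ((Scheme.Modules.pullbackComp πT φ).hom.app _ ≫ (Scheme.Modules.pullbackCongr hsq.symm).hom.app _ ≫
        (Scheme.Modules.pullbackComp g f).inv.app _ ≫
          (Scheme.Modules.pullback g).map ((Scheme.Modules.pullbackPushforwardAdjunction f).counit.app M))).app
      (φ ⁻¹ᵁ V) (pullSec φ (L := (Scheme.Modules.pushforward f).obj M) (U := V) m) =
      resM ((Scheme.Modules.pullback g).obj M) (show πT ⁻¹ᵁ (φ ⁻¹ᵁ V) ≤ g ⁻¹ᵁ (f ⁻¹ᵁ V) from fun x hx => by
        show (g ≫ f) x ∈ V
        rw [hsq]; exact hx) (pullSec g m) := by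
  let G := (Scheme.Modules.pushforward f).obj M
  let sq := (Scheme.Modules.pullbackComp πT φ).hom.app G ≫ (Scheme.Modules.pullbackCongr hsq.symm).hom.app G ≫
    (Scheme.Modules.pullbackComp g f).inv.app G
  rw [Adjunction.homEquiv_unit]
  show ((Scheme.Modules.pullback g).map ((Scheme.Modules.pullbackPushforwardAdjunction f).counit.app M)).app _
    (sq.app (πT ⁻¹ᵁ (φ ⁻¹ᵁ V)) (pullSec πT (pullSec φ (L := G) (U := V) m))) = _
  refine (congrArg (((Scheme.Modules.pullback g).map _).app _) (sq_app_pullSec πT φ g f hsq G m)).trans ?_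
  refine (app_resM ((Scheme.Modules.pullback g).map _) _ _).trans ?_
  refine congrArg (resM _ _) ?_
  refine (H8Lim.map_app_pullSec g _ _).trans ?_
  exact congrArg (pullSec g) (counit_app_pullSec f M m)

/-- The base change map of projective space is compatible with pulling back sections. -/
theorem isBCMap_bcMap (n : ℕ) {S T : Scheme.{u}} (φ : T ⟶ S)
    (hsq : KRR.projSpaceMap n φ ≫ KRR.pr n S = KRR.pr n T ≫ φ)
    (hP : IsPullback (KRR.projSpaceMap n φ) (KRR.pr n T) (KRR.pr n S) φ) (F : (KRR.PY n S).Modules) :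
    IsBCMap (KRR.pr n S) φ hP (KRR.bcMap n φ hsq F) := fun V m =>
  adjointBC_app_pullSec (KRR.pr n S) hsq F m

end Groth.Agent.H8Coh
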