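import Groth.Agent.EGA43.Cons.FibFlatScheme
import Groth.Agent.FlatMor12.FreeLocusBC
import Groth.Agent.FlatMor12.FittSheaf
import Groth.Agent.FlatMorAdm.LocFreeApps
import Groth.Agent.Props12.FinLocFree
import Groth.Agent.Desc19b.ModStFibGrpd
import Groth.Agent.S9805
import Groth.Agent.Coherent.CohBC.LocalModules

/-!
# Modules locally free on the fibres (EGA IV 9.4.7)
-/

set_option autoImplicit false
set_option backward.isDefEq.respectTransparency.types false
set_option linter.style.haveILetI false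

universe u

open CategoryTheory AlgebraicGeometry Topology TopologicalSpace TensorProduct

namespace Groth.Agent.H8Coh.FibreFree

/-- Flatness of a base change along a surjection. -/
theorem flat_tensor_iff {R R' : Type u} [CommRing R] [CommRing R'] [Algebra R R']
    (hs : Function.Surjective (algebraMap R R')) (I : Ideal R)
    (hk : RingHom.ker (algebraMap R R') = I) (M : Type u) [AddCommGroup M]
    (inst' : Module R M) [inst : Module R M] (h : inst' = inst) :
    Module.Flat R' (R' ⊗[R] M) ↔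
      (letI := inst'; Module.Flat (R ⧸ I) (M ⧸ (I • ⊤ : Submodule R M))) := by
  subst h
  let e : (R ⧸ I) ≃+* R' :=
    (Ideal.quotEquivOfEq hk.symm).trans (RingHom.quotientKerEquivOfSurjective hs)
  let _ : Algebra (R ⧸ I) R' := e.toRingHom.toAlgebra
  have : IsScalarTower R (R ⧸ I) R' := .of_algebraMap_eq fun _ => rfl
  have : Module.FaithfullyFlat (R ⧸ I) R' :=
    Module.FaithfullyFlat.of_linearEquiv _ _
      (LinearEquiv.ofBijective (Algebra.linearMap (R ⧸ I) R') e.bijective).symm
  let c := AlgebraTensorModule.cancelBaseChange R (R ⧸ I) R' R' M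
  let q : ((R ⧸ I) ⊗[R] M) ≃ₗ[R ⧸ I] M ⧸ (I • ⊤ : Submodule R M) :=
    (TensorProduct.quotTensorEquivQuotSMul M I).extendScalarsOfSurjective Ideal.Quotient.mk_surjective
  rw [← Module.Flat.equiv_iff q, ← Module.Flat.equiv_iff c]
  exact ⟨fun h => haveI := h; Module.Flat.of_flat_tensorProduct (R ⧸ I) _ R',
    fun h => haveI := h; inferInstance⟩

variable {X S : Scheme.{u}} (f : X ⟶ S) (F : X.Modules)

/-- Flatness of the fibre module at a point of the fibre. -/
theorem isFlatAt_fibre_iff (s : S) (z : ↥(f.fiber s)) :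
    FlatMod.IsFlatAt ((Scheme.Modules.pullback (f.fiberι s)).obj F) z ↔
      EGA43.Cons.IsFibFlatAt (𝟙 X) f F (f.fiberι s z) := by
  set x := f.fiberι s z
  have key : FlatMod.moduleStalkOver (𝟙 X) F x = FlatMod.moduleStalk F x :=
    Module.ext (funext fun r => funext fun m => by
      show ((𝟙 X : X ⟶ X).stalkMap x).hom r • m = (FlatMod.moduleStalk F x).smul r m
      rw [Scheme.Hom.stalkMap_id]; rfl)
  let _ := ((f.fiberι s).stalkMap z).hom.toAlgebra
  obtain ⟨hs, hk⟩ := Props12.stalkMap_fiberι f s z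
  unfold EGA43.Cons.IsFibFlatAt
  unfold FlatMod.IsFlatAt
  rw [Module.Flat.equiv_iff (FlatMor12.FreeLocusBC.stalkTensor (f.fiberι s) F z)]
  exact flat_tensor_iff hs _ hk _ _ key

variable [Coh.IsQCoh F]

theorem isFinLocFree_fibre_iff (hF : CohB1.IsFP F) (s : S) :
    FlatMod.IsFinLocFree ((Scheme.Modules.pullback (f.fiberι s)).obj F) ↔
      ∀ x : X, (𝟙 X ≫ f) x = s → EGA43.Cons.IsFibFlatAt (𝟙 X) f F x := by
  rw [← S9805.result _ _ (EGA43.InjFibre.isQCoh_pullback (f.fiberι s) F),
    and_iff_left (Desc19b.ModStFib.isFP_pullback (f.fiberι s) F hF)]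
  constructor
  · intro h x hx
    obtain ⟨z, rfl⟩ := (f.range_fiberι s).ge (show f x = s from hx)
    exact (isFlatAt_fibre_iff f F s z).1 (h z)
  · exact fun h z => (isFlatAt_fibre_iff f F s z).2 (h _ ((f.range_fiberι s).le ⟨z, rfl⟩))

theorem isLocallyConstructible_setOf_fibre_isFinLocFree [LocallyOfFinitePresentation f]
    [QuasiCompact f] (hF : CohB1.IsFP F) :
    IsLocallyConstructible
      {s : S | FlatMod.IsFinLocFree ((Scheme.Modules.pullback (f.fiberι s)).obj F)} := by
  simp only [isFinLocFree_fibre_iff f F hF]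
  exact EGA43.Cons.isLocallyConstructible_setOf_forall_fibre_isFibFlatAt (𝟙 X) f F hF

/-- Supports of ideal sheaves of finite type are locally constructible. -/
theorem isLocallyConstructible_support (I : X.IdealSheafData) (hI : ∀ U, (I.ideal U).FG) :
    IsLocallyConstructible (I.support : Set X) := by
  refine EGA43.Cons.isLocallyConstructible_of_forall_fromSpec fun x => ?_
  obtain ⟨U, hU, hxU, -⟩ := exists_isAffineOpen_mem_and_subset (x := x) (U := ⊤) trivial
  refine ⟨U, hU, hxU, ?_⟩
  have he : (hU.fromSpec ⁻¹' (I.support : Set X) : Set (PrimeSpectrum Γ(X, U))) =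
      PrimeSpectrum.zeroLocus (I.ideal ⟨U, hU⟩) := by
    ext q
    have hy : hU.fromSpec q ∈ U := hU.range_fromSpec.le ⟨q, rfl⟩
    rw [Set.mem_preimage, SetLike.mem_coe,
      Scheme.IdealSheafData.mem_support_iff_of_mem (U := ⟨U, hU⟩) hy,
      ← hU.fromSpec_preimage_zeroLocus]
    rfl
  exact (congrArg (IsConstructible (X := PrimeSpectrum Γ(X, U))) he).mpr
    (isConstructible_compl.1 ((PrimeSpectrum.isRetrocompact_zeroLocus_compl_of_fg
      (hI ⟨U, hU⟩)).isConstructible (PrimeSpectrum.isClosed_zeroLocus _).isOpen_compl))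

theorem isFT_of_isFP (hF : CohB1.IsFP F) : CohB1.IsFT F := by
  haveI : SheafOfModules.IsFinitePresentation (R := X.ringCatSheaf) F := hF
  exact inferInstanceAs (SheafOfModules.IsFiniteType (R := X.ringCatSheaf) F)

/-- The rank of a pullback is read on the supports of the Fitting ideals. -/
theorem mem_support_iff_of_rank (hF : CohB1.IsFT F) {T : Scheme.{u}} (g : T ⟶ X) (r : ℕ)
    (h : FlatMod.IsFinLocFreeOfRank r ((Scheme.Modules.pullback g).obj F)) (t : T) (k : ℕ) :
    g t ∈ (Fitt.sheafIdeal F k).support ↔ k < r := by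
  haveI := EGA43.InjFibre.isQCoh_pullback g F
  have hT := Coherent.isFT_pullback_qcoh g (F := F) inferInstance hF
  obtain ⟨h0, h1⟩ := (FlatMor12.FittSheaf.isFinLocFreeOfRank_iff _ hT r).1 h
  have hs : t ∈ ((Fitt.sheafIdeal F k).comap g).support ↔ g t ∈ (Fitt.sheafIdeal F k).support := by
    rw [Scheme.IdealSheafData.support_comap]; rfl
  rw [← hs, FlatMor12.FittSheaf.comap_eq F g hF]
  rcases lt_or_ge k r with hk | hk
  · rw [h0 k hk, Scheme.IdealSheafData.support_bot]
    exact iff_of_true trivial hk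
  · rw [h1 k hk, Scheme.IdealSheafData.support_top]
    exact iff_of_false (fun h => h) (not_lt.2 hk)

/-- The points where `F` has fibre rank `n`. -/
def rankSet (n : ℕ) : Set X :=
  {x | ∀ k ≤ n, (x ∈ (Fitt.sheafIdeal F k).support ↔ k < n)}

theorem isFinLocFreeOfRank_pullback_iff (hF : CohB1.IsFT F) {T : Scheme.{u}} (g : T ⟶ X) (n : ℕ) :
    FlatMod.IsFinLocFreeOfRank n ((Scheme.Modules.pullback g).obj F) ↔
      FlatMod.IsFinLocFree ((Scheme.Modules.pullback g).obj F) ∧ ∀ t, g t ∈ rankSet F n := by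
  constructor
  · refine fun h => ⟨fun t => ?_, fun t k _ => mem_support_iff_of_rank F hF g n h t k⟩
    obtain ⟨U, ht, e⟩ := h t
    exact ⟨U, n, ht, e⟩
  · rintro ⟨h, hn⟩ t
    obtain ⟨U, r, ht, ⟨e⟩⟩ := h t
    suffices r = n by exact ⟨U, ht, this ▸ ⟨e⟩⟩
    have hU : FlatMod.IsFinLocFreeOfRank r ((Scheme.Modules.pullback (U.ι ≫ g)).obj F) := fun y =>
      ⟨⊤, trivial, ⟨(Scheme.Modules.restrictFunctor _).mapIso
        (((Scheme.Modules.pullbackComp U.ι g).app F).symm ≪≫
          ((Scheme.Modules.restrictFunctorIsoPullback U.ι).app _).symm ≪≫ e) ≪≫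
        Coherent.CohBC.freeModRestrictIso (⊤ : U.toScheme.Opens).ι r⟩⟩
    have key := mem_support_iff_of_rank F hF (U.ι ≫ g) r hU ⟨t, ht⟩
    have h1 := hn t
    rcases lt_trichotomy r n with hrn | rfl | hrn
    · exact absurd ((key r).1 (((h1 r hrn.le).2 hrn))) (lt_irrefl r)
    · rfl
    · exact absurd ((h1 n le_rfl).1 ((key n).2 hrn)) (lt_irrefl n)

theorem isLocallyConstructible_rankSet (hF : CohB1.IsFP F) (n : ℕ) :
    IsLocallyConstructible (rankSet F n) := by
  have hc : ∀ k, IsLocallyConstructible ((Fitt.sheafIdeal F k).support : Set X) := fun k =>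
    isLocallyConstructible_support _ (FlatMor12.FittSheaf.isFiniteTypeIdeal F hF k)
  have hT := isFT_of_isFP F hF
  rcases n with _ | m
  · have he : rankSet F 0 = ((Fitt.sheafIdeal F 0).support : Set X)ᶜ := by
      ext x
      exact ⟨fun h hx => lt_irrefl 0 ((h 0 le_rfl).1 hx),
        fun h k hk => by obtain rfl := Nat.le_zero.1 hk; exact iff_of_false h (lt_irrefl 0)⟩
    rw [he]
    exact EGA43.Cons.isLocallyConstructible_compl (hc 0)
  · have he : rankSet F (m + 1) = ((Fitt.sheafIdeal F m).support : Set X) ∩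
        ((Fitt.sheafIdeal F (m + 1)).support : Set X)ᶜ := by
      ext x
      refine ⟨fun h => ⟨(h m m.le_succ).2 m.lt_succ_self,
        fun hx => lt_irrefl _ ((h (m + 1) le_rfl).1 hx)⟩, fun h k hk => ?_⟩
      rcases hk.lt_or_eq with hk' | rfl
      · exact iff_of_true (Scheme.IdealSheafData.support_antitone
          (FlatMor12.FittSheaf.sheafIdeal_mono F hT (Nat.lt_succ_iff.1 hk')) h.1) hk'
      · exact iff_of_false h.2 (lt_irrefl _)
    rw [he]
    exact (hc m).inter (EGA43.Cons.isLocallyConstructible_compl (hc (m + 1)))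

theorem isLocallyConstructible_setOf_fibre_isFinLocFreeOfRank [LocallyOfFinitePresentation f]
    [QuasiCompact f] (hF : CohB1.IsFP F) (n : ℕ) :
    IsLocallyConstructible
      {s : S | FlatMod.IsFinLocFreeOfRank n ((Scheme.Modules.pullback (f.fiberι s)).obj F)} := by
  have he : {s : S | FlatMod.IsFinLocFreeOfRank n ((Scheme.Modules.pullback (f.fiberι s)).obj F)} =
      {s : S | FlatMod.IsFinLocFree ((Scheme.Modules.pullback (f.fiberι s)).obj F)} ∩
        (f '' (rankSet F n)ᶜ)ᶜ := by
    ext s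
    simp only [Set.mem_inter_iff, Set.mem_ofPred_eq, Set.mem_compl_iff,
      isFinLocFreeOfRank_pullback_iff F (isFT_of_isFP F hF)]
    refine and_congr_right fun _ => ⟨?_, fun h t => ?_⟩
    · rintro h ⟨x, hx, hxs⟩
      obtain ⟨z, rfl⟩ := (f.range_fiberι s).ge hxs
      exact hx (h z)
    · exact not_not.1 fun hn => h ⟨_, hn, (f.range_fiberι s).le ⟨t, rfl⟩⟩
  rw [he]
  exact (isLocallyConstructible_setOf_fibre_isFinLocFree f F hF).inter
    (EGA43.Cons.isLocallyConstructible_compl (f.isLocallyConstructible_image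
      (EGA43.Cons.isLocallyConstructible_compl (isLocallyConstructible_rankSet F hF n))))

end Groth.Agent.H8Coh.FibreFree
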