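import Groth.Agent.PicLib.PicMonoid
import Groth.Agent.PicLib.CocycleGlue
import Groth.Agent.PicLib.PullbackGen

/-!
# Classes of invertible modules through transition functions
-/

set_option autoImplicit false
set_option backward.isDefEq.respectTransparency.types false
set_option linter.style.haveILetI false

universe u

open CategoryTheory CategoryTheory.Limits AlgebraicGeometry Opposite TopologicalSpace
open Groth.Agent.Coherent Groth.Agent.PicLib Groth.Agent.AmpleLib Groth.Agent.VarietyLib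

namespace Groth.Agent.H8Coh.TransClass

variable {Y : Scheme.{u}} {ι : Type u} {U : ι → Y.Opens}

/-- The class has generators on the members of the covering with the given transition functions. -/
def HasTrans (U : ι → Y.Opens) (a : PicM Y) (η : ∀ i j, Γ(Y, U i ⊓ U j)) : Prop :=
  ∃ (L : Y.Modules) (hL : PicF.IsInvertible L) (s : ∀ i, Γ(L, U i)), a = PicM.of hL ∧
    (∀ i, IsGen L (U i) (s i)) ∧
    ∀ i j, resM L (inf_le_left : U i ⊓ U j ≤ U i) (s i) =
      η i j • resM L (inf_le_right : U i ⊓ U j ≤ U j) (s j)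

theorem trans_res {L : Y.Modules} {s : ∀ i, Γ(L, U i)} {η : ∀ i j, Γ(Y, U i ⊓ U j)}
    (h : ∀ i j, resM L (inf_le_left : U i ⊓ U j ≤ U i) (s i) = η i j • resM L (inf_le_right : U i ⊓ U j ≤ U j) (s j))
    (i j : ι) {V : Y.Opens} (hi : V ≤ U i) (hj : V ≤ U j) :
    resM L hi (s i) = PicLib.res (le_inf hi hj) (η i j) • resM L hj (s j) := by
  have h1 := congrArg (resM L (le_inf hi hj)) (h i j)
  rw [resM_smul, resM_resM, resM_resM] at h1
  exact h1

theorem HasTrans.congr {a : PicM Y} {η η' : ∀ i j, Γ(Y, U i ⊓ U j)} (ha : HasTrans U a η)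
    (h : ∀ i j, η i j = η' i j) : HasTrans U a η' := by
  rwa [← show η = η' from funext fun i => funext fun j => h i j]

/-- The transition functions determine the class. -/
theorem HasTrans.unique (hU : iSup U = ⊤) {a b : PicM Y} {η : ∀ i j, Γ(Y, U i ⊓ U j)}
    (ha : HasTrans U a η) (hb : HasTrans U b η) : a = b := by
  obtain ⟨L, hL, s, rfl, hs, hsη⟩ := ha
  obtain ⟨L', hL', t, rfl, ht, htη⟩ := hb
  obtain ⟨φ, hφ⟩ := exists_hom_of_gen U hU s hs t fun i j V hi hj c hc => by
    have hd : c = PicLib.res (le_inf hi hj) (η i j) :=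
      ((hs j V hj).1 (hc.symm.trans (trans_res hsη i j hi hj)) :)
    rw [trans_res htη i j hi hj, hd]
  haveI : IsIso φ := isIso_of_gens φ U hU s hs fun i => by rw [hφ i]; exact ht i
  exact (PicM.of_eq_iff _ _).2 ⟨asIso φ⟩

/-- Pullback of transition functions. -/
theorem HasTrans.pull {Y' : Scheme.{u}} (h : Y' ⟶ Y) {a : PicM Y} {η : ∀ i j, Γ(Y, U i ⊓ U j)}
    (ha : HasTrans U a η) :
    HasTrans (fun i => h ⁻¹ᵁ U i) (PicM.pull h a) (fun i j => h.app (U i ⊓ U j) (η i j)) := by
  obtain ⟨L, hL, s, rfl, hs, hsη⟩ := ha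
  refine ⟨_, PicLoc.isInvertible_pullback h hL, fun i => pullSec h (s i), PicM.pull_of h hL,
    fun i => isGen_pullSec h (hs i) hL, fun i j => ?_⟩
  refine (resM_pullSec h (inf_le_left : U i ⊓ U j ≤ U i) (s i)).trans ?_
  rw [hsη i j, pullSec_smul]
  exact congrArg (_ • ·) (resM_pullSec h (inf_le_right : U i ⊓ U j ≤ U j) (s j)).symm

/-- The sections of the structure module. -/
theorem isGen_one (V : Y.Opens) : IsGen (Coh.structureModule Y) V (1 : Γ(Y, V)) := by
  intro W hW
  have : (fun r : Γ(Y, W) => r • resM (Coh.structureModule Y) hW (1 : Γ(Y, V))) = fun r => r := funext fun r => by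
    show r * PicLib.res hW (1 : Γ(Y, V)) = r
    rw [map_one, mul_one]
  rw [this]
  exact Function.bijective_id

/-- The trivial class. -/
theorem trans_one : HasTrans U (1 : PicM Y) (fun _ _ => 1) :=
  ⟨_, isInvertible_structureModule, fun i => (1 : Γ(Y, U i)), rfl, fun i => isGen_one (U i), fun i j => by
    show PicLib.res (inf_le_left : U i ⊓ U j ≤ U i) (1 : Γ(Y, U i)) =
      (1 : Γ(Y, U i ⊓ U j)) * PicLib.res (inf_le_right : U i ⊓ U j ≤ U j) (1 : Γ(Y, U j))
    rw [map_one, map_one, mul_one]⟩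

/-- Transition functions of a trivial class form a coboundary. -/
theorem HasTrans.exists_units {η : ∀ i j, Γ(Y, U i ⊓ U j)} (ha : HasTrans U 1 η) :
    ∃ u : ∀ i, Γ(Y, U i), (∀ i, IsUnit (u i)) ∧ ∀ i j,
      PicLib.res (inf_le_left : U i ⊓ U j ≤ U i) (u i) = η i j * PicLib.res (inf_le_right : U i ⊓ U j ≤ U j) (u j) := by
  obtain ⟨L, hL, s, h1, hs, hsη⟩ := ha
  obtain ⟨e⟩ := (PicM.of_eq_one_iff hL).1 h1.symm
  refine ⟨fun i => (show Γ(Y, U i) from e.hom.app (U i) (s i)), fun i => ?_, fun i j => ?_⟩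
  · have hg : IsGen (Coh.structureModule Y) (U i) (e.hom.app (U i) (s i)) := by
      intro V hV
      have hb := ConcreteCategory.bijective_of_isIso (e.hom.app V)
      convert hb.comp (hs i V hV) using 1
      funext r
      show r • resM (Coh.structureModule Y) hV _ = e.hom.app V (r • _)
      rw [← app_resM, Scheme.Modules.Hom.app_smul]
    obtain ⟨r, hr⟩ := (hg (U i) le_rfl).2 (1 : Γ(Y, U i))
    rw [resM_self] at hr
    exact IsUnit.of_mul_eq_one r ((mul_comm _ _).trans hr)
  · have h2 := congrArg (e.hom.app (U i ⊓ U j)) (hsη i j)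
    rw [Scheme.Modules.Hom.app_smul, app_resM, app_resM] at h2
    exact h2

/-- A multiplicative cocycle of units defines a class. -/
theorem exists_trans (hU : iSup U = ⊤) (η : ∀ i j, Γ(Y, U i ⊓ U j)) (hu : ∀ i j, IsUnit (η i j))
    (hη : ∀ i j k (V : Y.Opens) (hi : V ≤ U i) (hj : V ≤ U j) (hk : V ≤ U k),
      PicLib.res (le_inf hi hk) (η i k) = PicLib.res (le_inf hi hj) (η i j) * PicLib.res (le_inf hj hk) (η j k)) :
    ∃ a, HasTrans U a η := by
  obtain ⟨L, s, hL, hs, hsη⟩ := CocycleGlue.exists_invertible U (fun i j => (hu i j).unit) (fun x i j k => by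
    have hx : x ∈ U i.1 ⊓ U j.1 ⊓ U k.1 := ⟨⟨i.2, j.2⟩, k.2⟩
    have hi : U i.1 ⊓ U j.1 ⊓ U k.1 ≤ U i.1 := inf_le_left.trans inf_le_left
    have hj : U i.1 ⊓ U j.1 ⊓ U k.1 ≤ U j.1 := inf_le_left.trans inf_le_right
    have hk : U i.1 ⊓ U j.1 ⊓ U k.1 ≤ U k.1 := inf_le_right
    show Y.presheaf.germ _ x _ _ = Y.presheaf.germ _ x _ _ * Y.presheaf.germ _ x _ _
    simp only [IsUnit.unit_spec]
    rw [← StarGlue.germ_resO (le_inf hi hk) hx, ← StarGlue.germ_resO (le_inf hi hj) hx,
      ← StarGlue.germ_resO (le_inf hj hk) hx, ← map_mul]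
    exact congrArg _ (hη _ _ _ _ hi hj hk)) hU
  exact ⟨PicM.of hL, L, hL, s, rfl, hs, hsη⟩

end Groth.Agent.H8Coh.TransClass
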