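import Groth.Agent.ConsPropLib.PairExists
import Groth.Agent.ConsPropLib.Locus
import Groth.Agent.ConsPropLib.Examples
import Groth.Agent.Et18.Descent

/-!
# Descending properties of morphisms are ind-constructible (EGA IV 9.6.2)
-/

set_option autoImplicit false
set_option maxHeartbeats 800000
set_option backward.isDefEq.respectTransparency.types false

universe u

open CategoryTheory Limits AlgebraicGeometry
open Groth.Agent.ConsPropLib

namespace Groth.Agent.H8Coh.MorSpread

theorem flat_of_point {T T' : Scheme.{u}} [IsIntegral T] [Subsingleton T] (h : T' ⟶ T) : Flat h := by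
  rw [Flat.iff_flat_stalkMap]
  intro x
  have e : h x = genericPoint T := Subsingleton.elim _ _
  have hF : IsField (T.presheaf.stalk (h x)) := by
    rw [e]
    exact Field.toIsField T.functionField
  let _ := hF.toField
  let _ := (h.stalkMap x).hom.toAlgebra
  exact RingHom.flat_algebraMap_iff.2 (inferInstance : Module.Flat _ _)

variable (Q : MorphismProperty Scheme.{u}) [Q.IsStableUnderBaseChange]

theorem isFieldStableMor [Q.DescendsAlong Et18.FPQC.{u}] :
    ConsProp.IsFieldStableMor (fun X Y T f _ => Q f) := by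
  intro X X' Y Y' T T' f g f' g' eX eY h _ _ _ _ _ _ _ _ hY hX
  have hqcT : QuasiCompact h := by
    have : IsField Γ(T, ⊤) := isField_of_isIntegral_of_subsingleton T
    infer_instance
  have hh : Et18.FPQC.{u} h :=
    ⟨⟨⟨fun t => ⟨Classical.arbitrary T', Subsingleton.elim _ _⟩⟩, flat_of_point h⟩, hqcT⟩
  have heY : Et18.FPQC.{u} eY := MorphismProperty.of_isPullback hY.flip hh
  exact ⟨fun hf => Q.of_isPullback hX hf,
    fun hf => MorphismProperty.of_isPullback_of_descendsAlong hX.flip heY hf⟩

theorem isIndConsMor [Q.DescendsAlong Et18.FPQC.{u}] (hQd : DescendsNoeth Q) :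
    ConsProp.IsIndConsMor (fun X Y T f _ => Q f) := by
  refine ⟨isFieldStableMor Q, fun X Y S f g _ _ _ _ _ _ hη => ?_⟩
  set η := genericPoint S
  obtain ⟨U, hU, hηU, -⟩ := exists_isAffineOpen_mem_and_subset (x := η) (U := ⊤) trivial
  have hk : Set.range (S.fromSpecResidueField η) ⊆ Set.range U.ι := by
    rintro _ ⟨p, rfl⟩
    rw [Scheme.Opens.range_ι, S.fromSpecResidueField_apply η]
    exact hηU
  obtain ⟨φ, hφ⟩ := Spec.map_surjective (IsOpenImmersion.lift U.ι _ hk ≫ hU.isoSpec.hom)
  have hφ' : Spec.map φ ≫ hU.fromSpec = S.fromSpecResidueField η := by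
    rw [hφ, ← hU.isoSpec_inv_ι, Category.assoc, Iso.hom_inv_id_assoc, IsOpenImmersion.lift_fac]
  let _ : Algebra Γ(S, U) (S.residueField η) := φ.hom.toAlgebra
  have : IsNoetherianRing Γ(S, U) := IsLocallyNoetherian.component_noetherian ⟨U, hU⟩
  obtain ⟨I, _, _, D, c, hc, e, t₀, he, hobj, htπ₀, htm₀⟩ := exists_fp_system Γ(S, U) (S.residueField η)
  let t : ∀ i, D.obj i ⟶ S := fun i => t₀ i ≫ hU.fromSpec
  have htπ : ∀ i, c.π.app i ≫ t i = e ≫ S.fromSpecResidueField η := fun i => by
    simp only [t, ← hφ']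
    rw [← Category.assoc, htπ₀, Category.assoc]
    rfl
  have htm : ∀ {i j} (a : i ⟶ j), D.map a ≫ t j = t i := fun {i j} a => by
    simp only [t]
    rw [← Category.assoc, htm₀]
  have haff : ∀ (i j : I) (a : i ⟶ j), IsAffineHom (D.map a) := fun i j a => by
    have := (hobj i).1
    have := (hobj j).1
    infer_instance
  obtain ⟨i⟩ := IsCofiltered.nonempty (C := I)
  have := (hobj i).1
  have := (hobj i).2.1
  -- the stage
  have hY₀ := IsPullback.of_hasPullback g (t i)
  have hX₀ := isPullback_fst_comp f g (t i)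
  set Y₀ := pullback g (t i)
  set f₀ := pullback.snd f (pullback.fst g (t i))
  set g₀ := pullback.snd g (t i)
  have : LocallyOfFiniteType (f₀ ≫ g₀) :=
    MorphismProperty.of_isPullback (hX₀.paste_vert hY₀) ‹LocallyOfFiniteType (f ≫ g)›
  have : QuasiCompact (f₀ ≫ g₀) :=
    MorphismProperty.of_isPullback (hX₀.paste_vert hY₀) ‹QuasiCompact (f ≫ g)›
  have : IsNoetherian Y₀ := isNoetherian_of_lft g₀
  have : IsNoetherian (pullback f (pullback.fst g (t i))) := isNoetherian_of_lft (f₀ ≫ g₀)
  have : LocallyOfFiniteType f₀ := locallyOfFiniteType_of_comp f₀ g₀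
  have : LocallyOfFinitePresentation f₀ :=
    LocallyOfFinitePresentation.iff_locallyOfFiniteType.2 inferInstance
  -- the limit
  have hYc := IsPullback.of_hasPullback g₀ (c.π.app i)
  have hXc := IsPullback.of_hasPullback f₀ (pullback.fst g₀ (c.π.app i))
  set f' := pullback.snd f₀ (pullback.fst g₀ (c.π.app i))
  have hQc : Q f' := by
    have bY := hYc.paste_horiz hY₀
    have bX := hXc.paste_horiz hX₀
    rw [htπ] at bY
    obtain ⟨l, hlsq, hl⟩ := exists_lift_square bY
    refine Q.of_isPullback (IsPullback.of_right (h₂₁ := l) (v₁₁ := f') (h₁₁ := pullback.lift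
      (pullback.fst f₀ (pullback.fst g₀ (c.π.app i)) ≫ pullback.fst f (pullback.fst g (t i)))
      (f' ≫ pullback.snd g₀ (c.π.app i) ≫ e) ?_) ?_ ?_ (fiberMap_isPullback f g η)) hη
    · have e1 := congrArg (· ≫ g) bX.w
      have e2 := congrArg (f' ≫ ·) bY.w
      simp only [Category.assoc] at e1 e2 ⊢
      exact e1.trans e2
    · convert bX using 1
      all_goals first | exact pullback.lift_fst _ _ _ | exact hl
    · apply pullback.hom_ext
      · show (pullback.lift _ _ _ ≫ MoreMor.fiberMap f g η) ≫ g.fiberι η = (f' ≫ l) ≫ g.fiberι η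
        refine (Category.assoc _ _ _).trans (Eq.trans ?_ (Category.assoc f' l _).symm)
        refine (congrArg (pullback.lift _ _ _ ≫ ·) (fiberMap_isPullback f g η).w.symm).trans
          ((Category.assoc _ _ _).symm.trans ?_)
        refine (congrArg (· ≫ f) (pullback.lift_fst _ _ _)).trans (bX.w.trans ?_)
        exact congrArg (f' ≫ ·) hl.symm
      · show (pullback.lift _ _ _ ≫ MoreMor.fiberMap f g η) ≫ g.fiberToSpecResidueField η =
          (f' ≫ l) ≫ g.fiberToSpecResidueField η
        refine (Category.assoc _ _ _).trans (Eq.trans ?_ (Category.assoc f' l _).symm)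
        refine (congrArg (pullback.lift _ _ _ ≫ ·) (fiberMap_comp f g η)).trans ?_
        exact (pullback.lift_snd _ _ _).trans (congrArg (f' ≫ ·) hlsq.w.symm)
  obtain ⟨j, ψ, Xl, Yl, fl, gl, pY, pX, hYl, hXl, hQl⟩ :=
    hQd D c hc i f₀ g₀ f' _ _ _ hYc hXc hQc
  have wY : IsPullback (pY ≫ pullback.fst g (t i)) gl g (t j) := by
    have h2 := hYl.paste_horiz hY₀
    rwa [htm] at h2
  have wX : IsPullback (pX ≫ pullback.fst f (pullback.fst g (t i))) fl f (pY ≫ pullback.fst g (t i)) :=
    hXl.paste_horiz hX₀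
  have := (hobj j).2.2
  have : LocallyOfFinitePresentation (t j) := inferInstanceAs (LocallyOfFinitePresentation (_ ≫ _))
  have : QuasiCompact (t j) := by
    have := (hobj j).2.1
    infer_instance
  have hsub : Set.range (t j) ⊆ ConsProp.locusMor (fun X Y T f _ => Q f) f g := by
    rintro _ ⟨w, rfl⟩
    have h1 := locusMor_preimage (isFieldStableMor Q) wY wX
    have hw : w ∈ ConsProp.locusMor (fun X Y T f _ => Q f) fl gl :=
      Q.of_isPullback (fiberMap_isPullback fl gl w) hQl
    rw [h1] at hw
    exact hw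
  have hmem : η ∈ Set.range (t j) := by
    refine ⟨c.π.app j (inv e (default : Spec (CommRingCat.of (S.residueField η)))), ?_⟩
    rw [← Scheme.Hom.comp_apply, htπ]
    exact S.fromSpecResidueField_apply η _
  refine ⟨η, interior_mono hsub ?_⟩
  rw [H8ProCons.mem_interior_iff
    (H8ProCons.isLocallyConstructible_iff_ind_and_pro.1
      (by rw [← Set.image_univ]
          exact (t j).isLocallyConstructible_image Topology.IsLocallyConstructible.univ)).1]
  intro x hx
  rwa [show η = x from (hx.antisymm (genericPoint_specializes x)).eq.symm] at hmem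

/-- The locus where the map of fibres has `Q` is ind-constructible. -/
theorem isIndConstructible_locusMor [Q.DescendsAlong Et18.FPQC.{u}] (hQd : DescendsNoeth Q)
    {X Y S : Scheme.{u}} (f : X ⟶ Y) (g : Y ⟶ S)
    [LocallyOfFinitePresentation g] [QuasiCompact g] [QuasiSeparated g]
    [LocallyOfFinitePresentation (f ≫ g)] [QuasiCompact (f ≫ g)] [QuasiSeparated (f ≫ g)] :
    ProCons.IsIndConstructible {s : S | Q (MoreMor.fiberMap f g s)} :=
  isIndConstructible_locusMor_general (isIndConsMor Q hQd) f g

end Groth.Agent.H8Coh.MorSpread
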