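import Groth.Agent.H8Lim.ResidueSystem
import Groth.Agent.H8Lim.RelAmpleStage
import Groth.Agent.H8Coh.MorSpread
import Groth.Agent.S1152

/-!
# The locus of fibrewise relative ampleness is ind-constructible (EGA IV 9.6.4)
-/

set_option autoImplicit false
set_option maxHeartbeats 800000
set_option backward.isDefEq.respectTransparency.types false
set_option linter.style.haveILetI false

universe u

open CategoryTheory CategoryTheory.Limits AlgebraicGeometry
open Groth.Agent.AmpleLib Groth.Agent.ConsPropLib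

namespace Groth.Agent.H8Coh.AmpleLocus

theorem isRelAmple_of_iso {X Y : Scheme.{u}} (f : X ⟶ Y) {L M : X.Modules} (e : L ≅ M)
    (h : RelAmple.IsRelAmple f L) : RelAmple.IsRelAmple f M := by
  rw [AmpleLib.isRelAmple_iff] at h ⊢
  exact ⟨h.1, fun V => isAmple_of_iso ((Scheme.Modules.pullback (f ⁻¹ᵁ V.1).ι).mapIso e) (h.2 V)⟩

/-- Relative ampleness of a pullback moves along a cartesian square. -/
theorem isRelAmple_of_isPullback {X₀ X Y X' Y' : Scheme.{u}} {rX : X' ⟶ X} {f' : X' ⟶ Y'} {f : X ⟶ Y}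
    {rY : Y' ⟶ Y} (sq : IsPullback rX f' f rY) (σ : X ⟶ X₀) (L : X₀.Modules) {q : X' ⟶ X₀}
    (hq : rX ≫ σ = q) (h : RelAmple.IsRelAmple f ((Scheme.Modules.pullback σ).obj L)) :
    RelAmple.IsRelAmple f' ((Scheme.Modules.pullback q).obj L) := by
  have : QuasiCompact f := h.1
  have hb := AmpleLib.isRelAmple_baseChange f rY h
  rw [AmpleLib.isRelAmple_iff] at hb ⊢
  refine ⟨MorphismProperty.of_isPullback sq this, fun V => ?_⟩
  let e := sq.isoPullback
  have h1 := hb.2 V
  rw [isAmple_pullback_comp_iff, isAmple_pullback_comp_iff] at h1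
  rw [isAmple_pullback_comp_iff]
  have hle : f' ⁻¹ᵁ V.1 = e.hom ⁻¹ᵁ (pullback.snd f rY ⁻¹ᵁ V.1) := by
    rw [← Scheme.Hom.comp_preimage, sq.isoPullback_hom_snd]
  rw [hle]
  have h2 := isAmple_pullback_of_isAffineHom (e.hom ∣_ (pullback.snd f rY ⁻¹ᵁ V.1)) h1
  rw [isAmple_pullback_comp_iff] at h2
  refine isAmple_pullback_congr ?_ h2
  simp only [Category.assoc, morphismRestrict_ι_assoc, e, sq.isoPullback_hom_fst_assoc, hq]

/-- Descent of relative ampleness along a cartesian square over a faithfully flat quasi-compact map. -/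
theorem isRelAmple_descend {X₀ X Y X' Y' : Scheme.{u}} {rX : X' ⟶ X} {f' : X' ⟶ Y'} {f : X ⟶ Y}
    {rY : Y' ⟶ Y} (sq : IsPullback rX f' f rY) [QuasiCompact rY] [Flat rY] [Surjective rY]
    (σ : X ⟶ X₀) (L : X₀.Modules) (hL : PicF.IsInvertible L) {q : X' ⟶ X₀}
    (hq : rX ≫ σ = q) (h : RelAmple.IsRelAmple f' ((Scheme.Modules.pullback q).obj L)) :
    RelAmple.IsRelAmple f ((Scheme.Modules.pullback σ).obj L) := by
  refine S1152.result f _ (PicLoc.isInvertible_pullback σ hL) rY ?_
  refine isRelAmple_of_iso _ ((Scheme.Modules.pullbackComp (pullback.fst f rY) σ).app L).symm ?_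
  exact isRelAmple_of_isPullback (IsPullback.of_horiz_isIso ⟨by simp⟩ :
    IsPullback sq.isoPullback.inv (pullback.snd f rY) f' (𝟙 Y')) q L
    (by rw [← hq, sq.isoPullback_inv_fst_assoc]) h

/-- The square of the maps induced on fibres. -/
theorem exists_fiberMap_square {X Y S X' Y' S' : Scheme.{u}} {f : X ⟶ Y} {g : Y ⟶ S} {f' : X' ⟶ Y'}
    {g' : Y' ⟶ S'} {qY : Y' ⟶ Y} {qX : X' ⟶ X} {r : S' ⟶ S}
    (hY : IsPullback qY g' g r) (hX : IsPullback qX f' f qY) (s' : S') :
    ∃ (lX : (f' ≫ g').fiber s' ⟶ (f ≫ g).fiber (r s')) (lY : g'.fiber s' ⟶ g.fiber (r s')),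
      IsPullback lX (MoreMor.fiberMap f' g' s') (MoreMor.fiberMap f g (r s')) lY ∧
        lX ≫ (f ≫ g).fiberι (r s') = (f' ≫ g').fiberι s' ≫ qX ∧
        QuasiCompact lY ∧ Flat lY ∧ Surjective lY := by
  obtain ⟨lY, hlY, eY⟩ := exists_fibre_square hY s'
  obtain ⟨lX, hlX, eX⟩ := exists_fibre_square (hX.paste_vert hY) s'
  have w : MoreMor.fiberMap f' g' s' ≫ lY = lX ≫ MoreMor.fiberMap f g (r s') := by
    apply pullback.hom_ext
    · show (MoreMor.fiberMap f' g' s' ≫ lY) ≫ g.fiberι (r s') =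
        (lX ≫ MoreMor.fiberMap f g (r s')) ≫ g.fiberι (r s')
      rw [Category.assoc, eY, Category.assoc, ← (fiberMap_isPullback f g (r s')).w,
        ← Category.assoc, ← (fiberMap_isPullback f' g' s').w, Category.assoc, hX.w.symm,
        reassoc_of% eX]
    · show (MoreMor.fiberMap f' g' s' ≫ lY) ≫ g.fiberToSpecResidueField (r s') =
        (lX ≫ MoreMor.fiberMap f g (r s')) ≫ g.fiberToSpecResidueField (r s')
      rw [Category.assoc, hlY.w, reassoc_of% (fiberMap_comp f' g' s'), Category.assoc,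
        fiberMap_comp, hlX.w]
  refine ⟨lX, lY, IsPullback.of_bot (by rw [fiberMap_comp, fiberMap_comp]; exact hlX) w.symm hlY, eX, ?_⟩
  have h1 : Flat (Spec.map (r.residueFieldMap s')) := MorSpread.flat_of_point _
  have h2 : QuasiCompact (Spec.map (r.residueFieldMap s')) := inferInstance
  have h3 : Surjective (Spec.map (r.residueFieldMap s')) :=
    ⟨fun t => ⟨Classical.arbitrary _, Subsingleton.elim _ _⟩⟩
  exact ⟨MorphismProperty.of_isPullback hlY.flip h2, MorphismProperty.of_isPullback hlY.flip h1,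
    MorphismProperty.of_isPullback hlY.flip h3⟩

/-- The set of `s` over which `L_s` is ample relative to `f_s` is ind-constructible. -/
theorem isIndConstructible_setOf_fibre_isRelAmple {X Y S : Scheme.{u}} (f : X ⟶ Y) (g : Y ⟶ S)
    [QuasiCompact g] [QuasiCompact f] [QuasiSeparated f] (L : X.Modules) (hL : PicF.IsInvertible L) :
    ProCons.IsIndConstructible {s : S | RelAmple.IsRelAmple (MoreMor.fiberMap f g s)
      ((Scheme.Modules.pullback ((f ≫ g).fiberι s)).obj L)} := by
  refine H8Lim.isIndConstructible_of_spread fun s hs => ?_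
  obtain ⟨I, _, _, D, c, hc, _, e, U, t, he, hU, hobj, htπ, htm⟩ := H8Lim.exists_residue_system s
  obtain ⟨i⟩ := IsCofiltered.nonempty (C := I)
  have := (hobj i).1
  let tS : ∀ i, D.obj i ⟶ S := fun i => t i ≫ U.ι
  have hY₀ := IsPullback.of_hasPullback g (tS i)
  have hX₀ := isPullback_fst_comp f g (tS i)
  set f₀ := pullback.snd f (pullback.fst g (tS i))
  set g₀ := pullback.snd g (tS i)
  have : QuasiCompact g₀ := MorphismProperty.of_isPullback hY₀ ‹QuasiCompact g›
  have : QuasiCompact f₀ := MorphismProperty.of_isPullback hX₀ ‹QuasiCompact f›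
  have : QuasiSeparated f₀ := MorphismProperty.of_isPullback hX₀ ‹QuasiSeparated f›
  let L₀ := (Scheme.Modules.pullback (pullback.fst f (pullback.fst g (tS i)))).obj L
  have hYc := IsPullback.of_hasPullback g₀ (c.π.app i)
  have hXc := IsPullback.of_hasPullback f₀ (pullback.fst g₀ (c.π.app i))
  set f' := pullback.snd f₀ (pullback.fst g₀ (c.π.app i))
  have hc' : RelAmple.IsRelAmple f'
      ((Scheme.Modules.pullback (pullback.fst f₀ (pullback.fst g₀ (c.π.app i)))).obj L₀) := by
    refine isRelAmple_of_iso _ ((Scheme.Modules.pullbackComp _ _).app L).symm ?_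
    have bY := hYc.paste_horiz hY₀
    have bX := hXc.paste_horiz hX₀
    rw [show c.π.app i ≫ tS i = e ≫ S.fromSpecResidueField s from htπ i] at bY
    obtain ⟨l, hlsq, hl⟩ := exists_lift_square bY
    let lX : _ ⟶ (f ≫ g).fiber s := pullback.lift
      (pullback.fst f₀ (pullback.fst g₀ (c.π.app i)) ≫ pullback.fst f (pullback.fst g (tS i)))
      (f' ≫ pullback.snd g₀ (c.π.app i) ≫ e) (by
        have e1 := congrArg (· ≫ g) bX.w
        have e2 := congrArg (f' ≫ ·) bY.w
        simp only [Category.assoc] at e1 e2 ⊢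
        exact e1.trans e2)
    have hlX : lX ≫ (f ≫ g).fiberι s =
        pullback.fst f₀ (pullback.fst g₀ (c.π.app i)) ≫ pullback.fst f (pullback.fst g (tS i)) :=
      pullback.lift_fst _ _ _
    refine isRelAmple_of_isPullback (rX := lX) (rY := l) (IsPullback.of_right ?_ ?_
      (fiberMap_isPullback f g s)) ((f ≫ g).fiberι s) L hlX hs
    · rw [hlX]
      convert bX using 1
      all_goals exact hl
    · apply pullback.hom_ext
      · show (lX ≫ MoreMor.fiberMap f g s) ≫ g.fiberι s = (f' ≫ l) ≫ g.fiberι s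
        refine (Category.assoc _ _ _).trans (Eq.trans ?_ (Category.assoc f' l _).symm)
        refine (congrArg (lX ≫ ·) (fiberMap_isPullback f g s).w.symm).trans
          ((Category.assoc _ _ _).symm.trans ?_)
        refine (congrArg (· ≫ f) hlX).trans (bX.w.trans ?_)
        exact congrArg (f' ≫ ·) hl.symm
      · show (lX ≫ MoreMor.fiberMap f g s) ≫ g.fiberToSpecResidueField s =
          (f' ≫ l) ≫ g.fiberToSpecResidueField s
        refine (Category.assoc _ _ _).trans (Eq.trans ?_ (Category.assoc f' l _).symm)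
        refine (congrArg (lX ≫ ·) (fiberMap_comp f g s)).trans ?_
        exact (pullback.lift_snd _ _ _).trans (congrArg (f' ≫ ·) hlsq.w.symm)
  obtain ⟨j, φ, hj⟩ := H8Lim.exists_stage_isRelAmple hc f₀ g₀ L₀ (PicLoc.isInvertible_pullback _ hL)
    f' _ _ _ hYc hXc hc'
  have hYj := IsPullback.of_hasPullback g₀ (D.map φ)
  have hXj := IsPullback.of_hasPullback f₀ (pullback.fst g₀ (D.map φ))
  have hA := hj j (𝟙 j) _ _ _ _ (by rw [Category.id_comp]; exact hYj) hXj
  replace hA := isRelAmple_of_iso _ ((Scheme.Modules.pullbackComp _ _).app L) hA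
  have wY := hYj.paste_horiz hY₀
  rw [show D.map φ ≫ tS i = tS j by simp only [tS]; rw [← Category.assoc, htm]] at wY
  have wX := hXj.paste_horiz hX₀
  refine ⟨U, D.obj j, t j, hU, (hobj j).1, (hobj j).2,
    ⟨c.π.app j (inv e (default : Spec (CommRingCat.of (S.residueField s)))), ?_⟩, ?_⟩
  · rw [← Scheme.Hom.comp_apply, htπ]
    exact S.fromSpecResidueField_apply s _
  · rintro _ ⟨w, rfl⟩
    obtain ⟨lX, lY, hsq, hlX, _, _, _⟩ := exists_fiberMap_square wY wX w
    refine isRelAmple_descend hsq _ L hL hlX ?_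
    exact isRelAmple_of_isPullback (fiberMap_isPullback _ _ w) _ L rfl hA

end Groth.Agent.H8Coh.AmpleLocus
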