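import Groth.Agent.ConsPropLib.LocusMod
import Groth.Agent.H8Lim.DescentProper
import Groth.Agent.H8Lim.ModLocFree
import Groth.Agent.H8Lim.AmpleStage
import Groth.Agent.PicLib.FiniteSetTriv
import Groth.Agent.KRRPBLib.Basic
import Groth.Agent.KLLib.Basic
import Groth.Agent.Desc19b.AmpleFpqc
import Groth.Agent.H8Coh.AmpleLocus
import Groth.Agent.S0054

/-!
# Ampleness on the fibres of a proper morphism of finite presentation (EGA IV 9.6.4)
-/

set_option autoImplicit false
set_option maxHeartbeats 800000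
set_option backward.isDefEq.respectTransparency.types false
set_option linter.style.haveILetI false

universe u

open CategoryTheory CategoryTheory.Limits AlgebraicGeometry TopologicalSpace
open Groth.Agent.AmpleLib Groth.Agent.ConsPropLib

namespace Groth.Agent.H8Coh.FibreAmple

theorem isQCoh_of_invertible {X : Scheme.{u}} {L : X.Modules} (hL : PicF.IsInvertible L) :
    Coh.IsQCoh L := AmpleLib.isQCoh_of_isInvertible hL

theorem isFP_of_invertible {X : Scheme.{u}} {L : X.Modules} (hL : PicF.IsInvertible L) :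
    CohB1.IsFP L := by
  have := isQCoh_of_invertible hL
  refine Props12.isFP_of_isFinLocFree L fun x => ?_
  obtain ⟨U, hxU, h⟩ := PicLib.isFinLocFreeOfRank_one hL x
  exact ⟨U, 1, hxU, h⟩

theorem exists_model_aux {I : Type u} [SmallCategory I] [IsCofiltered I] {D : I ⥤ Scheme.{u}}
    {c : Cone D} (hc : IsLimit c) [∀ {i j : I} (a : i ⟶ j), IsAffineHom (D.map a)]
    (hN : ∀ i, IsNoetherian (D.obj i)) {l : I} {X₀ : Scheme.{u}} (u₀ : X₀ ⟶ D.obj l)
    [LocallyOfFiniteType u₀] [QuasiCompact u₀] (F₀ : X₀.Modules) (hF₀ : CohB1.IsFP F₀)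
    {X : Scheme.{u}} {q : X ⟶ X₀} {u : X ⟶ c.pt} (sq : IsPullback q u u₀ (c.π.app l)) [IsProper u]
    (hinv : PicF.IsInvertible ((Scheme.Modules.pullback q).obj F₀)) :
    ∃ (m : I) (X₁ : Scheme.{u}) (u₁ : X₁ ⟶ D.obj m) (q₁ : X ⟶ X₁) (L₁ : X₁.Modules),
      IsProper u₁ ∧ IsPullback q₁ u u₁ (c.π.app m) ∧ PicF.IsInvertible L₁ ∧
        Nonempty ((Scheme.Modules.pullback q).obj F₀ ≅ (Scheme.Modules.pullback q₁).obj L₁) := by
  have := hN l
  have : IsLocallyNoetherian X₀ := LocallyOfFiniteType.isLocallyNoetherian u₀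
  have : CompactSpace X₀ := QuasiCompact.compactSpace_of_compactSpace u₀
  have : Coh.IsQCoh F₀ := EGA43.FibDepth.isQCoh_of_isFP _ hF₀
  obtain ⟨i₁, φ₁, hp⟩ := H8Lim.descends_isProper D c hc (fun φ => inferInstance)
    l u₀ ‹LocallyOfFiniteType u₀› u q sq ‹IsProper u›
  have := fun {j k : Over l} (g : j ⟶ k) =>
    (inferInstance : IsAffineHom ((H8Lim.stage D u₀).map g))
  let top : Over l := Over.mk (𝟙 l)
  let F' := (Scheme.Modules.pullback (H8Lim.stageFst D u₀ top)).obj F₀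
  have : Coh.IsQCoh F' := EGA43.InjFibre.isQCoh_pullback _ F₀
  have : CompactSpace ((H8Lim.stage D u₀).obj top) :=
    QuasiCompact.compactSpace_of_compactSpace (H8Lim.stageFst D u₀ top)
  let π' := (H8Lim.stageCone u₀ c q u sq).π.app top
  have h1 : FlatMod.IsFinLocFreeOfRank 1 ((Scheme.Modules.pullback π').obj F') :=
    PicLib.isFinLocFreeOfRank_one (KLLib.isInvertible_of_iso
      (((Scheme.Modules.pullbackCongr (H8Lim.stageProj_fst u₀ c q u sq top)).app F₀).symm ≪≫
      ((Scheme.Modules.pullbackComp π' (H8Lim.stageFst D u₀ top)).app F₀).symm) hinv)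
  obtain ⟨i₂, g₂, hr⟩ := (H8Lim.isFinLocFreeOfRank_iff_eventually
    (H8Lim.isLimitStageCone u₀ q u sq hc) F' (Desc19b.ModStFib.isFP_pullback _ F₀ hF₀) 1).1 h1
  have hr' : PicF.IsInvertible ((Scheme.Modules.pullback (H8Lim.stageFst D u₀ i₂)).obj F₀) :=
    KLLib.isInvertible_of_iso ((Scheme.Modules.pullbackComp _ _).app F₀ ≪≫
      (Scheme.Modules.pullbackCongr (H8Lim.stageMap_fst D u₀ g₂)).app F₀)
      (KRRPBLib.isInvertible_of_rankOne hr)
  obtain ⟨m, a₁, a₂, ha⟩ := IsCofiltered.cospan φ₁ i₂.hom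
  let o : Over l := Over.mk (a₁ ≫ φ₁)
  let o₂ : o ⟶ i₂ := Over.homMk a₂ ha.symm
  refine ⟨m, (H8Lim.stage D u₀).obj o, H8Lim.stageSnd D u₀ o, H8Lim.stageProj u₀ c q u sq o,
    (Scheme.Modules.pullback (H8Lim.stageFst D u₀ o)).obj F₀, ?_, ?_, ?_, ⟨?_⟩⟩
  · exact H8Lim.prop_snd_map_comp hp a₁
  · exact IsPullback.of_right (by rw [H8Lim.stageProj_fst, c.w]; exact sq)
      (H8Lim.stageProj_snd u₀ _ q u sq o) (H8Lim.isPullback_stage D u₀ o)
  · exact KLLib.isInvertible_of_iso ((Scheme.Modules.pullbackComp _ _).app F₀ ≪≫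
      (Scheme.Modules.pullbackCongr (H8Lim.stageMap_fst D u₀ o₂)).app F₀)
      (PicLoc.isInvertible_pullback ((H8Lim.stage D u₀).map o₂) hr')
  · exact ((Scheme.Modules.pullbackCongr (H8Lim.stageProj_fst u₀ c q u sq o)).app F₀).symm ≪≫
      ((Scheme.Modules.pullbackComp _ _).app F₀).symm

/-- A proper morphism of finite presentation over an affine base, with an invertible module, comes
from one over a Noetherian base. -/
theorem exists_model {R : CommRingCat.{u}} {X : Scheme.{u}} (u : X ⟶ Spec R) [IsProper u]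
    [LocallyOfFinitePresentation u] (L : X.Modules) (hL : PicF.IsInvertible L) :
    ∃ (S₀ X₀ : Scheme.{u}) (r : Spec R ⟶ S₀) (u₀ : X₀ ⟶ S₀) (q : X ⟶ X₀) (L₀ : X₀.Modules),
      IsAffine S₀ ∧ IsNoetherian S₀ ∧ IsProper u₀ ∧ IsPullback q u u₀ r ∧ PicF.IsInvertible L₀ ∧
        Nonempty (L ≅ (Scheme.Modules.pullback q).obj L₀) := by
  obtain ⟨j, X₁, h₁, q₁, _, _, _, sX⟩ := H8Lim.exists_stage_spec (R := R) u
  have hN : ∀ i, IsNoetherian ((H8Lim.fgSpecDiagram R).obj i) := fun i =>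
    inferInstanceAs (IsNoetherian (Spec (CommRingCat.of (H8Lim.fgSub R i.unop))))
  obtain ⟨l, X₀, u₀, q, F₀, _, _, sq, hF₀, ⟨e⟩⟩ :=
    exists_model_mod_aux (H8Lim.isLimitFgSpecCone R) hN u sX L (isFP_of_invertible hL)
  have : IsProper (Y := (H8Lim.fgSpecCone R).pt) u := ‹IsProper u›
  obtain ⟨m, X₂, u₂, q₂, L₂, hp, sq₂, hL₂, ⟨e₂⟩⟩ := exists_model_aux (H8Lim.isLimitFgSpecCone R) hN
    u₀ F₀ hF₀ sq (KLLib.isInvertible_of_iso e hL)
  exact ⟨_, X₂, _, u₂, q₂, L₂, inferInstanceAs (IsAffine (Spec _)), hN m, hp, sq₂, hL₂, ⟨e ≪≫ e₂⟩⟩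

variable {X Y : Scheme.{u}} (f : X ⟶ Y) (L : X.Modules)

/-- The points with ample fibre. -/
def locus : Set Y := {y | CohB1.IsAmple ((Scheme.Modules.pullback (f.fiberι y)).obj L)}

variable {f L}

theorem locus_preimage {X' Y' : Scheme.{u}} {f' : X' ⟶ Y'} {q : X' ⟶ X} {r : Y' ⟶ Y}
    [QuasiCompact f] (hL : PicF.IsInvertible L) (sq : IsPullback q f' f r) :
    locus f' ((Scheme.Modules.pullback q).obj L) = r ⁻¹' locus f L := by
  ext y'
  show CohB1.IsAmple ((Scheme.Modules.pullback (f'.fiberι y')).obj _) ↔ _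
  rw [isAmple_pullback_comp_iff]
  obtain ⟨l, hl, el⟩ := exists_fibre_square sq y'
  have : IsAffineHom l := MorphismProperty.of_isPullback hl.flip inferInstance
  constructor
  · intro h
    have h1 := isAmple_pullback_congr el.symm h
    rw [← isAmple_pullback_comp_iff] at h1
    have : Flat (Spec.map (r.residueFieldMap y')) := MorSpread.flat_of_point _
    have : Surjective (Spec.map (r.residueFieldMap y')) :=
      ⟨fun t => ⟨Classical.arbitrary _, Subsingleton.elim _ _⟩⟩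
    have : QuasiCompact (f.fiberToSpecResidueField (r y')) :=
      inferInstanceAs (QuasiCompact (pullback.snd _ _))
    refine Desc19b.isAmple_of_pullback (f.fiberToSpecResidueField (r y'))
      (Spec.map (r.residueFieldMap y')) (PicLoc.isInvertible_pullback _ hL) ?_
    have h2 := isAmple_pullback_of_isAffineHom hl.isoPullback.inv h1
    rw [isAmple_pullback_comp_iff] at h2
    exact isAmple_pullback_congr hl.isoPullback_inv_fst h2
  · intro h
    have h1 := isAmple_pullback_of_isAffineHom l (show CohB1.IsAmple _ from h)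
    rw [isAmple_pullback_comp_iff] at h1
    exact isAmple_pullback_congr el h1

theorem mem_locus_of_ample {V : Y.Opens} (hV : IsAffineOpen V)
    (h : CohB1.IsAmple ((Scheme.Modules.pullback (f ⁻¹ᵁ V).ι).obj L)) {y : Y} (hy : y ∈ V) :
    y ∈ locus f L := by
  let v : (V : Scheme.{u}) := ⟨y, hy⟩
  have : IsAffine (V : Scheme.{u}) := hV
  obtain ⟨l, hl, el⟩ := exists_fibre_square (IsPullback.of_hasPullback f V.ι) v
  have : IsAffineHom ((pullback.snd f V.ι).fiberι v) :=
    MorphismProperty.pullback_fst _ _ inferInstance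
  have h0 : CohB1.IsAmple ((Scheme.Modules.pullback (pullback.fst f V.ι)).obj L) := by
    let e := pullbackRestrictIsoRestrict f V
    have := isAmple_pullback_of_isAffineHom e.hom h
    rw [isAmple_pullback_comp_iff] at this
    exact isAmple_pullback_congr (pullbackRestrictIsoRestrict_hom_ι f V) this
  have h1 := isAmple_pullback_of_isAffineHom ((pullback.snd f V.ι).fiberι v) h0
  rw [isAmple_pullback_comp_iff] at h1
  have h2 := isAmple_pullback_congr el.symm h1
  rw [← isAmple_pullback_comp_iff] at h2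
  have : IsIso (Spec.map (V.ι.residueFieldMap v)) := inferInstance
  have : IsIso l := hl.isIso_fst_of_isIso
  have h3 := isAmple_pullback_of_isAffineHom (inv l) h2
  rw [isAmple_pullback_comp_iff, isAmple_pullback_comp_iff] at h3
  exact isAmple_pullback_congr (show (inv l ≫ l) ≫ _ = f.fiberι y by simp [v]) h3

/-- Over a locally Noetherian base the locus is open. -/
theorem isOpen_locus_noetherian [IsNoetherian Y] [IsProper f] (hL : PicF.IsInvertible L) :
    IsOpen (locus f L) := by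
  refine isOpen_iff_forall_mem_open.2 fun y hy => ?_
  obtain ⟨V, hyV, hV⟩ := S0054.result f L hL y hy
  obtain ⟨W, hW, hyW, hWV⟩ := exists_isAffineOpen_mem_and_subset hyV
  exact ⟨W, fun z hz => mem_locus_of_ample hW
    (isAmple_of_iso (restrictIsoPullback (f ⁻¹ᵁ W).ι L) (hV W hWV hW)) hz, W.2, hyW⟩

variable [IsProper f] [LocallyOfFinitePresentation f]

/-- The locus seen in an affine model. -/
theorem exists_locus_model (hL : PicF.IsInvertible L) {A : CommRingCat.{u}} (j : Spec A ⟶ Y) :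
    ∃ (S₀ X₀ : Scheme.{u}) (r : Spec A ⟶ S₀) (u₀ : X₀ ⟶ S₀) (q : pullback f j ⟶ X₀) (L₀ : X₀.Modules),
      IsAffine S₀ ∧ IsNoetherian S₀ ∧ IsProper u₀ ∧ IsPullback q (pullback.snd f j) u₀ r ∧
        PicF.IsInvertible L₀ ∧ j ⁻¹' locus f L = r ⁻¹' locus u₀ L₀ ∧
        Nonempty ((Scheme.Modules.pullback (pullback.fst f j)).obj L ≅
          (Scheme.Modules.pullback q).obj L₀) := by
  obtain ⟨S₀, X₀, r, u₀, q, L₀, hA, hS₀, hp, sq₀, hL₀, ⟨e⟩⟩ :=
    exists_model (pullback.snd f j) ((Scheme.Modules.pullback (pullback.fst f j)).obj L)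
      (PicLoc.isInvertible_pullback _ hL)
  refine ⟨S₀, X₀, r, u₀, q, L₀, hA, hS₀, hp, sq₀, hL₀, ?_, ⟨e⟩⟩
  rw [← locus_preimage hL (IsPullback.of_hasPullback f j), ← locus_preimage hL₀ sq₀]
  ext z
  exact ⟨fun h => isAmple_of_iso ((Scheme.Modules.pullback _).mapIso e) h,
    fun h => isAmple_of_iso ((Scheme.Modules.pullback _).mapIso e.symm) h⟩

theorem isLocallyConstructible_locus (hL : PicF.IsInvertible L) :
    Topology.IsLocallyConstructible (locus f L) :=
  ConsPropLib.isLocallyConstructible_of_models _ fun A j _ => by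
    obtain ⟨S₀, X₀, r, u₀, q, L₀, _, hS₀, _, -, hL₀, he, -⟩ := exists_locus_model (f := f) hL j
    have hU := isOpen_locus_noetherian (f := u₀) hL₀
    exact ⟨S₀, r, _, (IsRetrocompact.isConstructible hU
      (fun U _ _ => NoetherianSpace.isCompact _)).isLocallyConstructible, he⟩

/-- Ampleness on a fibre spreads to an affine neighbourhood. -/
theorem exists_nhd_isAmple (hL : PicF.IsInvertible L) {y : Y} (hy : y ∈ locus f L) :
    ∃ W : Y.Opens, IsAffineOpen W ∧ y ∈ W ∧
      CohB1.IsAmple ((Scheme.Modules.pullback (f ⁻¹ᵁ W).ι).obj L) := by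
  obtain ⟨V, hV, hyV, -⟩ := exists_isAffineOpen_mem_and_subset (x := y) (U := ⊤) trivial
  let u := pullback.snd f hV.fromSpec
  let p := pullback.fst f hV.fromSpec
  have sq := IsPullback.of_hasPullback f hV.fromSpec
  obtain ⟨S₀, X₀, r, u₀, q, L₀, _, hS₀, _, sq₀, hL₀, he, ⟨e⟩⟩ := exists_locus_model (f := f) hL hV.fromSpec
  let v := hV.primeIdealOf ⟨y, hyV⟩
  have hv : hV.fromSpec v = y := hV.fromSpec_primeIdealOf ⟨y, hyV⟩
  have hr : r v ∈ locus u₀ L₀ := by
    show v ∈ r ⁻¹' locus u₀ L₀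
    rw [← he]
    show hV.fromSpec v ∈ locus f L
    rw [hv]; exact hy
  obtain ⟨W₀, hrW, hW₀⟩ := S0054.result u₀ L₀ hL₀ _ hr
  obtain ⟨W₁, hW₁, hrW₁, hle⟩ := exists_isAffineOpen_mem_and_subset hrW
  obtain ⟨b, hbW, hvb⟩ := hV.exists_basicOpen_le (V := hV.fromSpec ''ᵁ (r ⁻¹ᵁ W₁))
    ⟨y, ⟨v, hrW₁, hv⟩⟩ hyV
  refine ⟨Y.basicOpen b, hV.basicOpen b, hvb, ?_⟩
  have hA : CohB1.IsAmple ((Scheme.Modules.pullback (u₀ ⁻¹ᵁ W₁).ι).obj L₀) :=
    isAmple_of_iso (restrictIsoPullback _ L₀) (hW₀ W₁ hle hW₁)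
  let B := hV.fromSpec ⁻¹ᵁ Y.basicOpen b
  have hBW : B ≤ r ⁻¹ᵁ W₁ := by
    intro z hz
    obtain ⟨z', hz', hzz⟩ := hbW hz
    exact hV.fromSpec.isOpenEmbedding.injective hzz ▸ hz'
  have hB : IsAffineOpen B := by
    rw [show B = _ from hV.fromSpec_preimage_basicOpen b]
    exact IsAffineOpen.Spec_basicOpen b
  have : CompactSpace (u ⁻¹ᵁ B : Scheme.{u}) :=
    isCompact_iff_compactSpace.1 (u.isCompact_preimage hB.isCompact)
  have hq : IsAffineHom (q ∣_ (u₀ ⁻¹ᵁ W₁)) :=
    MorphismProperty.of_isPullback (isPullback_morphismRestrict q (u₀ ⁻¹ᵁ W₁)).flip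
      (MorphismProperty.of_isPullback sq₀.flip (isAffineHom_of_isAffine r))
  have h1 := isAmple_pullback_of_isAffineHom (q ∣_ (u₀ ⁻¹ᵁ W₁)) hA
  rw [isAmple_pullback_comp_iff] at h1
  have h2 := isAmple_pullback_congr (morphismRestrict_ι q (u₀ ⁻¹ᵁ W₁)) h1
  rw [← isAmple_pullback_comp_iff] at h2
  have h3 : CohB1.IsAmple ((Scheme.Modules.pullback (u ⁻¹ᵁ B).ι).obj
      ((Scheme.Modules.pullback q).obj L₀)) := by
    refine isAmple_pullback_of_range_subset (u ⁻¹ᵁ B).ι (u ⁻¹ᵁ B).ι.isOpenEmbedding.isEmbedding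
      (q ⁻¹ᵁ (u₀ ⁻¹ᵁ W₁)) ?_ h2
    rintro _ ⟨z, rfl⟩
    rw [SetLike.mem_coe, ← Scheme.Hom.comp_preimage, sq₀.w, Scheme.Hom.comp_preimage]
    exact hBW z.2
  have h4 := isAmple_of_iso ((Scheme.Modules.pullback (u ⁻¹ᵁ B).ι).mapIso e.symm) h3
  -- move to the open of `X`
  have : IsOpenImmersion p := inferInstance
  have hrange : Set.range (f ⁻¹ᵁ Y.basicOpen b).ι ⊆ Set.range p := by
    rintro _ ⟨z, rfl⟩
    obtain ⟨w, hw⟩ := hV.range_fromSpec.ge (Y.basicOpen_le b z.2)
    obtain ⟨t, ht, -⟩ := Scheme.Pullback.exists_preimage_pullback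
      (f := f) (g := hV.fromSpec) ((f ⁻¹ᵁ Y.basicOpen b).ι z) w hw.symm
    exact ⟨t, ht⟩
  let k := IsOpenImmersion.lift p (f ⁻¹ᵁ Y.basicOpen b).ι hrange
  have hk : k ≫ p = (f ⁻¹ᵁ Y.basicOpen b).ι := IsOpenImmersion.lift_fac _ _ _
  have : IsOpenImmersion (k ≫ p) := hk ▸ inferInstance
  have : IsOpenImmersion k := IsOpenImmersion.of_comp k p
  have : CompactSpace (f ⁻¹ᵁ Y.basicOpen b : Scheme.{u}) :=
    isCompact_iff_compactSpace.1 (f.isCompact_preimage (hV.basicOpen b).isCompact)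
  have h5 : CohB1.IsAmple ((Scheme.Modules.pullback k).obj ((Scheme.Modules.pullback p).obj L)) := by
    refine isAmple_pullback_of_range_subset k k.isOpenEmbedding.isEmbedding (u ⁻¹ᵁ B) ?_ h4
    rintro _ ⟨z, rfl⟩
    show hV.fromSpec (u (k z)) ∈ Y.basicOpen b
    rw [← Scheme.Hom.comp_apply u, ← sq.w, Scheme.Hom.comp_apply, ← Scheme.Hom.comp_apply k, hk]
    exact z.2
  rw [isAmple_pullback_comp_iff] at h5
  exact isAmple_pullback_congr hk h5

theorem isRelAmple_iff_locus (hL : PicF.IsInvertible L) :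
    RelAmple.IsRelAmple f L ↔ locus f L = Set.univ := by
  constructor
  · intro h
    rw [AmpleLib.isRelAmple_iff] at h
    refine Set.eq_univ_of_forall fun y => ?_
    obtain ⟨V, hV, hy, -⟩ := exists_isAffineOpen_mem_and_subset (x := y) (U := ⊤) trivial
    exact mem_locus_of_ample hV (h.2 ⟨V, hV⟩) hy
  · intro h
    refine isRelAmple_of_affine_cover f hL fun y => ?_
    obtain ⟨W, hW, hyW, hA⟩ := exists_nhd_isAmple hL (h.ge (Set.mem_univ y))
    exact ⟨⟨W, hW⟩, hyW, hA⟩

/-- The points of the base over which the module is relatively ample on the fibre. -/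
theorem isLocallyConstructible_setOf_fibre_isRelAmple {S : Scheme.{u}} (g : Y ⟶ S)
    [LocallyOfFinitePresentation g] [QuasiCompact g] (hL : PicF.IsInvertible L) :
    Topology.IsLocallyConstructible {s : S | RelAmple.IsRelAmple (MoreMor.fiberMap f g s)
      ((Scheme.Modules.pullback ((f ≫ g).fiberι s)).obj L)} := by
  have he : {s : S | RelAmple.IsRelAmple (MoreMor.fiberMap f g s)
      ((Scheme.Modules.pullback ((f ≫ g).fiberι s)).obj L)} = (g '' (locus f L)ᶜ)ᶜ := by
    ext s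
    have sq := fiberMap_isPullback f g s
    have : IsProper (MoreMor.fiberMap f g s) := MorphismProperty.of_isPullback sq ‹IsProper f›
    have : LocallyOfFinitePresentation (MoreMor.fiberMap f g s) :=
      MorphismProperty.of_isPullback sq ‹LocallyOfFinitePresentation f›
    show RelAmple.IsRelAmple _ _ ↔ _
    rw [isRelAmple_iff_locus (PicLoc.isInvertible_pullback _ hL), locus_preimage hL sq,
      Set.preimage_eq_univ_iff, g.range_fiberι, Set.mem_compl_iff, Set.mem_image]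
    constructor
    · rintro h ⟨y, hy, hys⟩
      exact hy (h hys)
    · intro h y hy
      by_contra hy'
      exact h ⟨y, hy', hy⟩
  rw [he]
  exact EGA43.Cons.isLocallyConstructible_compl (g.isLocallyConstructible_image
    (EGA43.Cons.isLocallyConstructible_compl (isLocallyConstructible_locus (f := f) hL)))

end Groth.Agent.H8Coh.FibreAmple
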