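import Groth.Agent.H8Coh.DualThickening
import Groth.Agent.PicDef15.Cech

/-!
# Additive cocycles of the structure sheaf and the Čech complex
-/

set_option autoImplicit false
set_option backward.isDefEq.respectTransparency.types false
set_option linter.style.haveILetI false

universe u

open CategoryTheory CategoryTheory.Limits AlgebraicGeometry Opposite TopologicalSpace
open Groth.Agent.Coherent Groth.Agent.Coherent.CohBC Groth.Agent.PicLib Groth.Agent.PicDef15
open Groth.Agent.H8Coh.TransClass Groth.Agent.H8Coh.DualThickening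

namespace Groth.Agent.H8Coh.CechCocycle

variable {A : Type u} [CommRing A] {Z : Scheme.{u}} [Z.Over (Spec (CommRingCat.of A))]
variable {ι : Type u} {W : ι → Z.Opens}

/-- The cochains of the structure sheaf. -/
abbrev C (p : ℕ) (W : ι → Z.Opens) : Type u := ∀ a : Fin (p + 1) → ι, Γ(Coh.structureModule Z, cinter W a)

theorem le2 (x y : ι) : W x ⊓ W y ≤ cinter W ![x, y] := le_iInf fun l => by
  fin_cases l
  exacts [inf_le_left, inf_le_right]

theorem le2' (a : Fin 2 → ι) : cinter W a ≤ W (a 0) ⊓ W (a 1) :=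
  le_inf (iInf_le (fun l => W (a l)) 0) (iInf_le (fun l => W (a l)) 1)

theorem res_congr {p : ℕ} (v : C p W) {a b : Fin (p + 1) → ι} (h : a = b) {V : Z.Opens} (ha : V ≤ cinter W a)
    (hb : V ≤ cinter W b) :
    PicLib.res ha (v a : Γ(Z, cinter W a)) = PicLib.res hb (v b : Γ(Z, cinter W b)) := by
  subst h
  rfl

/-- A cochain as a family of functions on double overlaps. -/
noncomputable def cc (v : C 1 W) (x y : ι) : Γ(Z, W x ⊓ W y) :=
  PicLib.res (le2 x y) (v ![x, y] : Γ(Z, cinter W ![x, y]))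

theorem toΓ_eq (V : Z.Opens) (t : A) :
    toΓ A V t = phi (Z ↘ Spec (CommRingCat.of A)) V t := by
  show (Z.presheaf.map (homOfLE le_top).op) ((Z ↘ Spec (CommRingCat.of A)).appTop ((Scheme.ΓSpecIso (CommRingCat.of A)).inv t)) =
    (Z ↘ Spec (CommRingCat.of A)).appLE ⊤ V le_top ((Scheme.ΓSpecIso (CommRingCat.of A)).inv t)
  rfl

theorem cc_lin (t u : A) (v w : C 1 W) (x y : ι) :
    cc (t • v + u • w) x y = phi (Z ↘ Spec (CommRingCat.of A)) (W x ⊓ W y) t * cc v x y +
      phi (Z ↘ Spec (CommRingCat.of A)) (W x ⊓ W y) u * cc w x y := by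
  show PicLib.res (le2 x y) ((toΓ A (cinter W ![x, y]) t : Γ(Z, cinter W ![x, y])) * (show Γ(Z, cinter W ![x, y]) from v ![x, y]) +
    (toΓ A (cinter W ![x, y]) u : Γ(Z, cinter W ![x, y])) * (show Γ(Z, cinter W ![x, y]) from w ![x, y])) = _
  rw [map_add, map_mul, map_mul, toΓ_eq, toΓ_eq, res_phi, res_phi]
  rfl

theorem isCocycle_cc {v : C 1 W} (hv : cxD A W (Coh.structureModule Z) 1 v = 0) : IsCocycle W (cc v) := by
  intro x y z V hx hy hz
  have hV : V ≤ cinter W ![x, y, z] := le_iInf fun l => by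
    fin_cases l
    exacts [hx, hy, hz]
  have h : PicLib.res hV ((∑ l : Fin 3, (-1 : ℤ) ^ (l : ℕ) •
      (PicLib.res (cinter_face W ![x, y, z] l) (v (![x, y, z] ∘ l.succAbove) : Γ(Z, cinter W (![x, y, z] ∘ l.succAbove))))) :
        Γ(Z, cinter W ![x, y, z])) = PicLib.res hV 0 :=
    congrArg (PicLib.res hV) (congrFun hv ![x, y, z])
  simp only [Fin.sum_univ_three, map_zero, map_add, map_zsmul] at h
  norm_num at h
  simp only [PicLib.res_res] at h
  simp only [cc, PicLib.res_res]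
  rw [res_congr v (b := ![x, y, z] ∘ (0 : Fin 3).succAbove) (funext fun l => by fin_cases l <;> rfl) _
      (hV.trans (cinter_face W _ 0)),
    res_congr v (a := ![x, z]) (b := ![x, y, z] ∘ (1 : Fin 3).succAbove) (funext fun l => by fin_cases l <;> rfl) _
      (hV.trans (cinter_face W _ 1)),
    res_congr v (a := ![x, y]) (b := ![x, y, z] ∘ (2 : Fin 3).succAbove) (funext fun l => by fin_cases l <;> rfl) _
      (hV.trans (cinter_face W _ 2))]
  rw [sub_eq_add_neg]
  exact h

theorem exists_of_cocycle {c : ∀ x y, Γ(Z, W x ⊓ W y)} (hc : IsCocycle W c) :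
    ∃ v : C 1 W, cxD A W (Coh.structureModule Z) 1 v = 0 ∧ cc v = c := by
  refine ⟨fun b => (PicLib.res (le2' b) (c (b 0) (b 1)) : Γ(Z, cinter W b)), ?_, funext fun x => funext fun y => ?_⟩
  · funext b
    show (∑ l : Fin 3, (-1 : ℤ) ^ (l : ℕ) • (PicLib.res (cinter_face W b l)
      (PicLib.res (le2' (b ∘ l.succAbove)) (c ((b ∘ l.succAbove) 0) ((b ∘ l.succAbove) 1))))) = (0 : Γ(Z, cinter W b))
    simp only [Fin.sum_univ_three]
    norm_num
    have h := hc (b 0) (b 1) (b 2) (cinter W b) (iInf_le (fun l => W (b l)) 0) (iInf_le (fun l => W (b l)) 1)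
      (iInf_le (fun l => W (b l)) 2)
    rw [sub_eq_add_neg] at h
    refine Eq.trans ?_ h
    simp only [PicLib.res_res]
    rfl
  · show PicLib.res (le2 x y) (PicLib.res _ (c x y)) = c x y
    rw [PicLib.res_res]
    exact ConcreteCategory.congr_hom (Z.presheaf.map_id _) _

/-- The coboundaries. -/
theorem cc_cxD_zero (y : C 0 W) (x z : ι) :
    cc (cxD A W (Coh.structureModule Z) 0 y) x z =
      PicLib.res inf_le_right (PicLib.res (le_iInf fun _ => le_rfl) (y fun _ => z : Γ(Z, cinter W fun _ => z)) : Γ(Z, W z)) -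
        PicLib.res inf_le_left (PicLib.res (le_iInf fun _ => le_rfl) (y fun _ => x : Γ(Z, cinter W fun _ => x)) : Γ(Z, W x)) := by
  show PicLib.res (le2 x z) ((∑ l : Fin 2, (-1 : ℤ) ^ (l : ℕ) •
    (PicLib.res (cinter_face W ![x, z] l) (y (![x, z] ∘ l.succAbove) : Γ(Z, cinter W (![x, z] ∘ l.succAbove))))) :
      Γ(Z, cinter W ![x, z])) = _
  simp only [Fin.sum_univ_two, map_add, map_zsmul]
  norm_num
  simp only [PicLib.res_res]
  rw [res_congr y (a := ![x, z] ∘ (0 : Fin 2).succAbove) (b := fun _ => z) (funext fun l => by fin_cases l; rfl) _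
      ((inf_le_right).trans (le_iInf fun _ => le_rfl)),
    res_congr y (a := ![x, z] ∘ (1 : Fin 2).succAbove) (b := fun _ => x) (funext fun l => by fin_cases l; rfl) _
      ((inf_le_left).trans (le_iInf fun _ => le_rfl)), sub_eq_add_neg]

theorem exists_eq_cxD {v : C 1 W} (b : ∀ x, Γ(Z, W x))
    (hb : ∀ x y, cc v x y = PicLib.res inf_le_right (b y) - PicLib.res inf_le_left (b x)) :
    ∃ y : C 0 W, cxD A W (Coh.structureModule Z) 0 y = v := by
  refine ⟨fun a => (PicLib.res (iInf_le (fun l => W (a l)) 0) (b (a 0)) : Γ(Z, cinter W a)), funext fun a => ?_⟩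
  show ((∑ l : Fin 2, (-1 : ℤ) ^ (l : ℕ) • (PicLib.res (cinter_face W a l)
    (PicLib.res (iInf_le (fun m => W ((a ∘ l.succAbove) m)) 0) (b ((a ∘ l.succAbove) 0))))) : Γ(Z, cinter W a)) = _
  simp only [Fin.sum_univ_two]
  norm_num
  have h' := congrArg (PicLib.res (le2' a)) (hb (a 0) (a 1))
  simp only [cc, map_sub, PicLib.res_res] at h'
  rw [res_congr v (a := ![a 0, a 1]) (b := a) (funext fun l => by fin_cases l <;> rfl) _ le_rfl, sub_eq_add_neg] at h'
  simp only [PicLib.res_res]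
  refine h'.symm.trans ?_
  exact ConcreteCategory.congr_hom (Z.presheaf.map_id _) _

section One

variable {K : Type u} [Field K] {Y : Scheme.{u}} {g : Y ⟶ Spec (CommRingCat.of (DualNumber K))} {π : Y ⟶ Z}
omit [Z.Over (Spec (CommRingCat.of A))]

/-- A class given by a coboundary is trivial. -/
theorem class_eq_one {a : PicM Y} {c : ∀ x y, Γ(Z, W x ⊓ W y)} (hW : iSup W = ⊤) (b : ∀ x, Γ(Z, W x))
    (hb : ∀ x y, c x y = PicLib.res inf_le_right (b y) - PicLib.res inf_le_left (b x))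
    (ha : HasTrans (fun x => π ⁻¹ᵁ W x) a (eta g π (fun _ : Fin 1 => (1 : K)) fun _ => c)) : a = 1 := by
  obtain ⟨L, hL, s, rfl, hgen, hsη⟩ := ha
  let ee : ∀ x, Γ(Y, π ⁻¹ᵁ W x) := fun x =>
    phi g (π ⁻¹ᵁ W x) (TrivSqZeroExt.inr (1 : K)) * π.app (W x) (b x)
  have hee : ∀ x, ee x * ee x = 0 := fun x => by
    simp only [ee]
    rw [mul_mul_mul_comm, ← map_mul, TrivSqZeroExt.inr_mul_inr, map_zero, zero_mul]
  have hgen' : ∀ x, IsGen L (π ⁻¹ᵁ W x) ((1 + ee x) • s x) := fun x =>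
    (hgen x).smul_unit (IsUnit.of_mul_eq_one (1 - ee x) (by linear_combination -(hee x))).unit
  refine HasTrans.unique (iSup_preimage hW) ⟨L, hL, _, rfl, hgen', fun x z => ?_⟩ trans_one
  rw [one_smul]
  show resM L (π.preimage_mono (inf_le_left : W x ⊓ W z ≤ W x)) _ =
    resM L (π.preimage_mono (inf_le_right : W x ⊓ W z ≤ W z)) _
  have h1 : resM L (π.preimage_mono (inf_le_left : W x ⊓ W z ≤ W x)) (s x) =
      ((1 + phi g (π ⁻¹ᵁ (W x ⊓ W z)) (TrivSqZeroExt.inr (1 : K)) * π.app (W x ⊓ W z) (c x z) : Γ(Y, π ⁻¹ᵁ (W x ⊓ W z)))) •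
        resM L (π.preimage_mono (inf_le_right : W x ⊓ W z ≤ W z)) (s z) := by
    refine (trans_res hsη x z (π.preimage_mono inf_le_left) (π.preimage_mono inf_le_right)).trans ?_
    refine congrArg (· • _) ?_
    refine (res_eta _ _ x z inf_le_left inf_le_right).trans ?_
    rw [Fin.sum_univ_one]
    congr 3
    exact ConcreteCategory.congr_hom (Z.presheaf.map_id _) _
  rw [resM_smul, resM_smul, h1, ← mul_smul]
  refine congrArg (· • _) ?_
  simp only [ee, map_add, map_one, map_mul, res_phi]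
  erw [res_app (π := π) (inf_le_left : W x ⊓ W z ≤ W x) (b x), res_app (π := π) (inf_le_right : W x ⊓ W z ≤ W z) (b z)]
  rw [hb, map_sub]
  have hεε : phi g (π ⁻¹ᵁ (W x ⊓ W z)) (TrivSqZeroExt.inr (1 : K)) *
      phi g (π ⁻¹ᵁ (W x ⊓ W z)) (TrivSqZeroExt.inr (1 : K)) = 0 := by
    rw [← map_mul, TrivSqZeroExt.inr_mul_inr, map_zero]
  linear_combination (π.app (W x ⊓ W z) (PicLib.res inf_le_left (b x)) *
    (π.app (W x ⊓ W z) (PicLib.res inf_le_right (b z)) -
      π.app (W x ⊓ W z) (PicLib.res inf_le_left (b x)))) * hεε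

end One

end Groth.Agent.H8Coh.CechCocycle
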