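import Groth.Agent.H8Coh.FibreAss
import Groth.Agent.DimLib.Sub
import Groth.Agent.EGA43.FibDepth.ConsAffine

/-!
# Dimensions of the components of the fibres of a constructible set (EGA IV 9.8.5)
-/

set_option autoImplicit false
set_option maxHeartbeats 1600000
set_option backward.isDefEq.respectTransparency.types false
set_option linter.style.haveILetI false

universe u

open CategoryTheory AlgebraicGeometry Topology TopologicalSpace Function
open Groth.Agent.EGA43 Groth.Agent.EGA43.FibDepth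

namespace Groth.Agent.H8Coh.ComponentDims

variable {X S : Scheme.{u}} (f : X ⟶ S) (Z : Set X)

/-- The dimension of a point of a fibre. -/
noncomputable def dimPt (s : S) (z : f.fiber s) : ℕ :=
  DimLib.ptDim (k := S.residueField s) (f.fiberToSpecResidueField s) z

/-- A point of `Z` of dimension at least `n`. -/
def PtP (n : ℕ) (s : S) (z : f.fiber s) : Prop := f.fiberι s z ∈ Z ∧ n ≤ dimPt f s z

/-- A point of `Z` of dimension at least `n` generises the point in its fibre. -/
def GeP (n : ℕ) (s : S) (z : f.fiber s) : Prop := ∃ z', z' ⤳ z ∧ PtP f Z n s z'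

/-- The largest dimension of a point of `Z` generising the point is `n`. -/
def MaxP (n : ℕ) (s : S) (z : f.fiber s) : Prop :=
  f.fiberι s z ∈ Z ∧ GeP f Z n s z ∧ ¬ GeP f Z (n + 1) s z

variable [LocallyOfFinitePresentation f] (hZ : IsLocallyConstructible Z)

include hZ in
theorem isLocallyConstructible_geP (n : ℕ) :
    IsLocallyConstructible {x | GeP f Z n (f x) (f.asFiber x)} := by
  have key : {x | GeP f Z n (f x) (f.asFiber x)} =
      Cons.fibreClosureSch f {x | PtP f Z n (f x) (f.asFiber x)} := by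
    ext x
    have := FibreAss.mem_fibreClosureSch_iff f (PtP f Z n) (f x) (f.asFiber x)
    rw [f.fiberι_asFiber] at this
    exact this.symm
  rw [key]
  obtain _ | m := n
  · refine Cons.isLocallyConstructible_fibreClosureSch f ?_
    convert hZ using 1
    ext x
    simp [PtP]
  refine Cons.isLocallyConstructible_of_forall_fromSpec fun x => ?_
  obtain ⟨V, hV, hfx, -⟩ := exists_isAffineOpen_mem_and_subset (x := f x) (U := ⊤) trivial
  obtain ⟨U, hU, hxU, e⟩ := exists_isAffineOpen_mem_and_subset (U := f ⁻¹ᵁ V) hfx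
  refine ⟨U, hU, hxU, ?_⟩
  let _ := (f.appLE V U e).hom.toAlgebra
  have : Algebra.FinitePresentation Γ(S, V) Γ(X, U) := f.finitePresentation_appLE hV hU e
  rw [Cons.preimage_fibreClosureSch f _ hV hU e]
  have hZ' := Cons.isConstructible_preimage_fromSpec hZ hU
  have he : Cons.fibreClosure Γ(S, V)
      (hU.fromSpec ⁻¹' {x | PtP f Z (m + 1) (f x) (f.asFiber x)} : Set (PrimeSpectrum Γ(X, U))) =
      (trdLocus Γ(S, V) (hU.fromSpec ⁻¹' Z : Set (PrimeSpectrum Γ(X, U))) m)ᶜ := by
    have hpt : ∀ q : PrimeSpectrum Γ(X, U),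
        PtP f Z (m + 1) (f (hU.fromSpec q)) (f.asFiber (hU.fromSpec q)) ↔
          hU.fromSpec q ∈ Z ∧ m < trd Γ(S, V) q := fun q => by
      have hy : hU.fromSpec q ∈ U := hU.range_fromSpec.le ⟨q, rfl⟩
      have hpr : hU.primeIdealOf ⟨_, hy⟩ = q :=
        hU.fromSpec.isOpenEmbedding.injective (hU.fromSpec_primeIdealOf _)
      rw [PtP, dimPt, ptDim_fiber, f.fiberι_asFiber, trdegHom_residueFieldMap f hV hU e hy, hpr,
        Nat.add_one_le_iff]
    ext q
    simp only [Set.mem_compl_iff, trdLocus, Cons.fibreClosure, Set.mem_ofPred_eq, not_forall,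
      not_le, exists_prop]
    constructor
    · rintro ⟨r, hr, hle, heq⟩
      exact ⟨r, hle, congrArg PrimeSpectrum.asIdeal heq, ((hpt r).1 hr).1, ((hpt r).1 hr).2⟩
    · rintro ⟨r, hle, heq, hr1, hr2⟩
      exact ⟨r, (hpt r).2 ⟨hr1, hr2⟩, hle, PrimeSpectrum.ext heq⟩
  rw [he]
  exact (isConstructible_trdLocus hZ' m).compl

include hZ in
theorem isLocallyConstructible_maxP (n : ℕ) :
    IsLocallyConstructible {x | MaxP f Z n (f x) (f.asFiber x)} := by
  convert hZ.inter ((isLocallyConstructible_geP f Z hZ n).inter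
    (Cons.isLocallyConstructible_compl (isLocallyConstructible_geP f Z hZ (n + 1)))) using 1
  ext x
  simp only [MaxP, f.fiberι_asFiber, Set.mem_inter_iff, Set.mem_ofPred_eq, Set.mem_compl_iff]

omit [LocallyOfFinitePresentation f] in
theorem dimPt_le [LocallyOfFiniteType f] {s : S} {w z : f.fiber s} (h : w ⤳ z) :
    dimPt f s z ≤ dimPt f s w :=
  have : LocallyOfFiniteType (f.fiberToSpecResidueField s) :=
    inferInstanceAs (LocallyOfFiniteType (Limits.pullback.snd f (S.fromSpecResidueField s)))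
  DimLib.ptDim_le_of_specializes _ h

variable [QuasiCompact f]

/-- The maximal points are detected by `MaxP`. -/
theorem exists_maximal_iff (s : S) (n : ℕ) :
    (∃ η, f.fiberι s η ∈ Z ∧ (∀ w, f.fiberι s w ∈ Z → w ⤳ η → η = w) ∧ dimPt f s η = n) ↔
      ∃ z, MaxP f Z n s z := by
  have : LocallyOfFiniteType (f.fiberToSpecResidueField s) :=
    inferInstanceAs (LocallyOfFiniteType (Limits.pullback.snd f (S.fromSpecResidueField s)))
  constructor
  · rintro ⟨η, hη, hmax, rfl⟩
    refine ⟨η, hη, ⟨η, specializes_rfl, hη, le_rfl⟩, ?_⟩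
    rintro ⟨w, hw, hwZ, hd⟩
    rw [← hmax w hwZ hw] at hd
    omega
  · rintro ⟨z, -, ⟨z', hz', hz'Z, hd⟩, hno⟩
    classical
    let P : ℕ → Prop := fun m => ∃ w, f.fiberι s w ∈ Z ∧ w ⤳ z' ∧ dimPt f s w = m
    have hb : ∀ m, P m → m ≤ n := by
      rintro m ⟨w, hw, hwz, rfl⟩
      by_contra hlt
      exact hno ⟨w, hwz.trans hz', hw, by omega⟩
    have h0 : P (dimPt f s z') := ⟨z', hz'Z, specializes_rfl, rfl⟩
    obtain ⟨η, hη, hηz, hηd⟩ := Nat.findGreatest_spec (P := P) (hb _ h0) h0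
    have hle : ∀ m, P m → m ≤ dimPt f s η := fun m hm => hηd ▸ Nat.le_findGreatest (hb _ hm) hm
    refine ⟨η, hη, fun w hw hwη => ?_, le_antisymm (hb _ ⟨η, hη, hηz, rfl⟩)
      (hd.trans (dimPt_le f hηz))⟩
    exact (DimLib.eq_of_specializes_of_ptDim_le _ hwη (hle _ ⟨w, hw, hwη.trans hηz, rfl⟩)).symm

theorem exists_maxP (s : S) (z : f.fiber s) (hz : f.fiberι s z ∈ Z) :
    ∃ η, η ⤳ z ∧ f.fiberι s η ∈ Z ∧ ∀ w, f.fiberι s w ∈ Z → w ⤳ η → η = w := by
  have : LocallyOfFiniteType (f.fiberToSpecResidueField s) :=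
    inferInstanceAs (LocallyOfFiniteType (Limits.pullback.snd f (S.fromSpecResidueField s)))
  obtain ⟨ξ, hξ, hmax⟩ := DimLib.exists_maximal_specializes z
  classical
  have : QuasiCompact (f.fiberToSpecResidueField s) :=
    inferInstanceAs (QuasiCompact (Limits.pullback.snd f (S.fromSpecResidueField s)))
  have : IsLocallyNoetherian (f.fiber s) :=
    LocallyOfFiniteType.isLocallyNoetherian (f.fiberToSpecResidueField s)
  have : CompactSpace (f.fiber s) :=
    QuasiCompact.compactSpace_of_compactSpace (f.fiberToSpecResidueField s)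
  have : IsNoetherian (f.fiber s) := {}
  let P : ℕ → Prop := fun m => ∃ w, f.fiberι s w ∈ Z ∧ w ⤳ z ∧ dimPt f s w = m
  obtain ⟨N, hN⟩ : ∃ N, ∀ w : f.fiber s, dimPt f s w ≤ N := by
    have hfin := NoetherianSpace.finite_irreducibleComponents (α := f.fiber s)
    refine ⟨hfin.toFinset.sup fun C =>
      if h : ∃ η, IsGenericPoint η C then dimPt f s h.choose else 0, fun w => ?_⟩
    obtain ⟨η, hη, hηmax⟩ := DimLib.exists_maximal_specializes w
    refine (dimPt_le f hη).trans (le_trans ?_ (Finset.le_sup (hfin.mem_toFinset.2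
      (DimLib.closure_mem_components hηmax))))
    have hex : ∃ ξ, IsGenericPoint ξ (closure {η}) := ⟨η, isGenericPoint_closure⟩
    rw [dif_pos hex, hex.choose_spec.eq isGenericPoint_closure]
  have h0 : P (dimPt f s z) := ⟨z, hz, specializes_rfl, rfl⟩
  obtain ⟨η, hη, hηz, hηd⟩ := Nat.findGreatest_spec (P := P) (hN z) h0
  have hle : ∀ m, P m → m ≤ N → m ≤ dimPt f s η := fun m hm hm' => hηd ▸ Nat.le_findGreatest hm' hm
  exact ⟨η, hηz, hη, fun w hw hwη => (DimLib.eq_of_specializes_of_ptDim_le _ hwη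
    (hle _ ⟨w, hw, hwη.trans hηz, rfl⟩ (hN w))).symm⟩

/-- The dimensions of the components of `Z_s`. -/
theorem mem_dims_iff (s : S) (hs : IsLocallyClosed {z : f.fiber s | f.fiberι s z ∈ Z}) (d : WithBot ℕ∞) :
    d ∈ (fun T : Set ↥(Z ∩ ⇑f ⁻¹' {s}) => topologicalKrullDim ↥T) ''
        irreducibleComponents ↥(Z ∩ ⇑f ⁻¹' {s}) ↔
      ∃ η, f.fiberι s η ∈ Z ∧ (∀ w, f.fiberι s w ∈ Z → w ⤳ η → η = w) ∧
        ((dimPt f s η : ℕ) : WithBot ℕ∞) = d := by
  have : LocallyOfFiniteType (f.fiberToSpecResidueField s) :=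
    inferInstanceAs (LocallyOfFiniteType (Limits.pullback.snd f (S.fromSpecResidueField s)))
  let A : Set (f.fiber s) := {z | f.fiberι s z ∈ Z}
  have hemb : IsEmbedding (fun a : A => f.fiberι s a.1) :=
    (f.fiberι s).isEmbedding.comp IsEmbedding.subtypeVal
  have hr : Set.range (fun a : A => f.fiberι s a.1) = Z ∩ ⇑f ⁻¹' {s} := by
    ext x
    constructor
    · rintro ⟨a, rfl⟩
      exact ⟨a.2, (f.range_fiberι s).le ⟨a.1, rfl⟩⟩
    · rintro ⟨hx, hxs⟩
      obtain ⟨z, rfl⟩ := (f.range_fiberι s).ge hxs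
      exact ⟨⟨z, hx⟩, rfl⟩
  let e : A ≃ₜ ↥(Z ∩ ⇑f ⁻¹' {s}) := hemb.toHomeomorph.trans (Homeomorph.setCongr hr)
  have hd : d ∈ (fun T : Set ↥(Z ∩ ⇑f ⁻¹' {s}) => topologicalKrullDim ↥T) ''
      irreducibleComponents ↥(Z ∩ ⇑f ⁻¹' {s}) ↔ ¬ ∀ Q ∈ irreducibleComponents A, topologicalKrullDim Q ≠ d := by
    simp only [not_forall, not_not, Set.mem_image, exists_prop]
    constructor
    · rintro ⟨T, hT, hd⟩
      refine ⟨e ⁻¹' T, preimage_mem_irreducibleComponents hT e.isOpenEmbedding
        (by simpa using hT.1.1), ?_⟩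
      rw [(e.image (e ⁻¹' T)).isHomeomorph.topologicalKrullDim_eq, e.image_preimage]
      exact hd
    · rintro ⟨Q, hQ, hd⟩
      exact ⟨_, image_mem_irreducibleComponents_of_isPreirreducible_fiber e e.continuous e.isOpenMap
        (fun _ => (Set.subsingleton_singleton.preimage e.injective).isPreirreducible) e.surjective hQ,
        ((e.image Q).isHomeomorph.topologicalKrullDim_eq).symm.trans hd⟩
  rw [hd, DimLib.forall_components_subset_iff (k := S.residueField s) (f.fiberToSpecResidueField s) hs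
    (fun x => x ≠ d)]
  simp only [not_forall, not_not, exists_prop]
  exact ⟨fun ⟨η, h1, h2, h3⟩ => ⟨η, h1, fun w hw hwη => h2 w hw hwη, h3⟩,
    fun ⟨η, h1, h2, h3⟩ => ⟨η, h1, fun w hw hwη => h2 w hw hwη, h3⟩⟩

include hZ in
/-- The level sets of the dimensions of the components are locally constructible. -/
theorem isLocallyConstructible_setOf_dims_eq
    (hs : ∀ s : S, IsLocallyClosed {z : f.fiber s | f.fiberι s z ∈ Z}) (Φ : Set (WithBot ℕ∞)) :
    IsLocallyConstructible {s : S |
      (fun T : Set ↥(Z ∩ ⇑f ⁻¹' {s}) => topologicalKrullDim ↥T) ''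
        irreducibleComponents ↥(Z ∩ ⇑f ⁻¹' {s}) = Φ} := by
  classical
  let D := fun s : S => (fun T : Set ↥(Z ∩ ⇑f ⁻¹' {s}) => topologicalKrullDim ↥T) ''
        irreducibleComponents ↥(Z ∩ ⇑f ⁻¹' {s})
  have hmem : ∀ s d, d ∈ D s ↔ ∃ n : ℕ, (n : WithBot ℕ∞) = d ∧ ∃ z, MaxP f Z n s z := fun s d => by
    rw [mem_dims_iff f Z s (hs s) d]
    constructor
    · rintro ⟨η, h1, h2, h3⟩
      exact ⟨_, h3, (exists_maximal_iff f Z s _).1 ⟨η, h1, h2, rfl⟩⟩
    · rintro ⟨n, rfl, hn⟩
      obtain ⟨η, h1, h2, h3⟩ := (exists_maximal_iff f Z s n).2 hn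
      exact ⟨η, h1, h2, by rw [h3]⟩
  have hfin : ∀ s, (D s).Finite := fun s => by
    have : LocallyOfFiniteType (f.fiberToSpecResidueField s) :=
      inferInstanceAs (LocallyOfFiniteType (Limits.pullback.snd f (S.fromSpecResidueField s)))
    have : QuasiCompact (f.fiberToSpecResidueField s) :=
      inferInstanceAs (QuasiCompact (Limits.pullback.snd f (S.fromSpecResidueField s)))
    have : IsLocallyNoetherian (f.fiber s) :=
      LocallyOfFiniteType.isLocallyNoetherian (f.fiberToSpecResidueField s)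
    have : CompactSpace (f.fiber s) :=
      QuasiCompact.compactSpace_of_compactSpace (f.fiberToSpecResidueField s)
    have : IsNoetherian (f.fiber s) := {}
    have : NoetherianSpace ↥(⇑f ⁻¹' {s}) :=
      (noetherianSpace_iff_of_homeomorph ((f.fiberι s).isEmbedding.toHomeomorph.trans
        (Homeomorph.setCongr (f.range_fiberι s)))).1 inferInstance
    have : NoetherianSpace ↥(Z ∩ ⇑f ⁻¹' {s}) :=
      (IsEmbedding.inclusion (Set.inter_subset_right : Z ∩ ⇑f ⁻¹' {s} ⊆ _)).isInducing.noetherianSpace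
    exact NoetherianSpace.finite_irreducibleComponents.image _
  by_cases hΦ : ∃ Φ' : Finset ℕ, Φ = (fun n : ℕ => (n : WithBot ℕ∞)) '' (Φ' : Set ℕ)
  · obtain ⟨Φ', rfl⟩ := hΦ
    have he : {s : S | D s = (fun n : ℕ => (n : WithBot ℕ∞)) '' (Φ' : Set ℕ)} =
        {s | ∀ z, f.fiberι s z ∈ Z → ∃ n ∈ Φ', MaxP f Z n s z} ∩ ⋂ n ∈ Φ', {s | ∃ z, MaxP f Z n s z} := by
      ext s
      simp only [Set.mem_ofPred_eq, Set.mem_inter_iff, Set.mem_iInter]
      constructor
      · intro h
        refine ⟨fun z hz => ?_, fun n hn => ?_⟩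
        · obtain ⟨η, hηz, hη, hmax⟩ := exists_maxP f Z s z hz
          let P : ℕ → Prop := fun m => GeP f Z m s z
          have h0 : P (dimPt f s η) := ⟨η, hηz, hη, le_rfl⟩
          have hbd : ∀ m, P m → m ≤ Φ'.sup id := by
            rintro m ⟨w, hw, hwZ, hd⟩
            obtain ⟨η', hη'w, hη', hmax'⟩ := exists_maxP f Z s w hwZ
            obtain ⟨k, hk, hkd⟩ := h.le ((mem_dims_iff f Z s (hs s) _).2 ⟨η', hη', hmax', rfl⟩)
            have hk' : k = dimPt f s η' := Nat.cast_injective hkd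
            exact (hd.trans (dimPt_le f hη'w)).trans (hk' ▸ Finset.le_sup (f := id) hk)
          have hM : MaxP f Z (Nat.findGreatest P (Φ'.sup id)) s z := by
            refine ⟨hz, Nat.findGreatest_spec (hbd _ h0) h0, fun hM => ?_⟩
            have := Nat.le_findGreatest (P := P) (hbd _ hM) hM
            omega
          obtain ⟨k, hk, hkd⟩ := h.le ((hmem s _).2 ⟨_, rfl, z, hM⟩)
          exact ⟨k, hk, (Nat.cast_injective hkd : k = _) ▸ hM⟩
        · obtain ⟨k, hk, hz⟩ := (hmem s _).1 (h.ge ⟨n, hn, rfl⟩)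
          exact (Nat.cast_injective hk : k = n) ▸ hz
      · rintro ⟨h1, h2⟩
        refine Set.Subset.antisymm ?_ ?_
        · intro d hd
          obtain ⟨η, hη, hmax, rfl⟩ := (mem_dims_iff f Z s (hs s) d).1 hd
          obtain ⟨n, hn, -, ⟨w, hw, hwZ, hwd⟩, hno⟩ := h1 η hη
          obtain rfl := hmax w hwZ hw
          refine ⟨n, hn, ?_⟩
          have : dimPt f s η = n :=
            le_antisymm (by by_contra hlt; exact hno ⟨η, specializes_rfl, hη, by omega⟩) hwd
          rw [this]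
        · rintro _ ⟨n, hn, rfl⟩
          exact (hmem s _).2 ⟨n, rfl, h2 n hn⟩
    show IsLocallyConstructible {s : S | D s = _}
    rw [he]
    refine (FibreAss.isLocallyConstructible_forall f
      (fun s z => f.fiberι s z ∈ Z → ∃ n ∈ Φ', MaxP f Z n s z) ?_).inter
      (FibreAss.isLocallyConstructible_biInter Φ' fun n _ =>
        FibreAss.isLocallyConstructible_exists f _ (isLocallyConstructible_maxP f Z hZ n))
    have h' : {x | f.fiberι (f x) (f.asFiber x) ∈ Z → ∃ n ∈ Φ', MaxP f Z n (f x) (f.asFiber x)} =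
        (Z \ ⋃ n ∈ Φ', {x | MaxP f Z n (f x) (f.asFiber x)})ᶜ := by
      ext x
      simp only [f.fiberι_asFiber, Set.mem_ofPred_eq, Set.mem_compl_iff, Set.mem_sdiff, Set.mem_iUnion,
        not_and, not_not, exists_prop]
    rw [h']
    refine Cons.isLocallyConstructible_compl (hZ.inter ?_)
    have := FibreAss.isLocallyConstructible_biInter Φ' fun n _ =>
      Cons.isLocallyConstructible_compl (isLocallyConstructible_maxP f Z hZ n)
    convert this using 1
    ext x
    simp only [Set.mem_iUnion, Set.mem_iInter, Set.mem_compl_iff]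
    exact ⟨fun h i hi hx => h ⟨i, hi, hx⟩, fun h hx =>
      let ⟨i, hi, hx'⟩ := hx; h i hi hx'⟩
  · have he : {s : S | D s = Φ} = ∅ := by
      refine Set.eq_empty_iff_forall_notMem.2 fun s h => hΦ ?_
      have hf := hfin s
      have hsub : D s ⊆ Set.range (fun n : ℕ => (n : WithBot ℕ∞)) := fun d hd => by
        obtain ⟨n, hn, -⟩ := (hmem s d).1 hd
        exact ⟨n, hn⟩
      refine ⟨(hf.preimage Nat.cast_injective.injOn).toFinset, ?_⟩
      rw [Set.Finite.coe_toFinset, Set.image_preimage_eq_of_subset hsub]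
      exact h.symm
    show IsLocallyConstructible {s : S | D s = Φ}
    rw [he]
    exact IsConstructible.empty.isLocallyConstructible

end Groth.Agent.H8Coh.ComponentDims
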