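import Groth.Agent.EGA43.FiniteCrit.DvrExt
import Groth.Agent.ValExtLib.Closure
import Mathlib.AlgebraicGeometry.Morphisms.ClosedImmersion
import Mathlib.AlgebraicGeometry.Stalk

/-!
# Points with values in extensions of discrete valuation rings
-/

set_option autoImplicit false
set_option backward.isDefEq.respectTransparency.types false
set_option linter.style.haveILetI false

universe u

open CategoryTheory CategoryTheory.Limits AlgebraicGeometry IsLocalRing

namespace Groth.Agent.H8Coh.DVRPoints

/-- A complete DVR with algebraically closed residue field dominating a DVR. -/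
theorem exists_complete (A : Type u) [CommRing A] [IsDomain A] [IsDiscreteValuationRing A] :
    ∃ (C : Type u) (_ : CommRing C) (_ : IsDomain C) (_ : IsDiscreteValuationRing C)
      (_ : IsAdicComplete (maximalIdeal C) C) (_ : IsAlgClosed (ResidueField C)) (φ : A →+* C),
      IsLocalHom φ ∧ Function.Injective φ := by
  obtain ⟨C, _, _, _, _, _, φ, -, h, hinj, -⟩ :=
    EGA43.FiniteCrit.exists_completeDvr (residue A) ker_residue
  exact ⟨C, inferInstance, inferInstance, inferInstance, inferInstance, inferInstance, φ, h, hinj⟩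

/-- Over a DVR and a finite extension of its fraction field there is a complete one with algebraically
closed residue field whose fraction field contains the extension. -/
theorem exists_complete_ext {C L : Type u} [CommRing C] [IsDomain C] [IsDiscreteValuationRing C] [Field L]
    (e : FractionRing C →+* L) (he : e.Finite) :
    ∃ (C' : Type u) (_ : CommRing C') (_ : IsDomain C') (_ : IsDiscreteValuationRing C')
      (_ : IsAdicComplete (maximalIdeal C') C') (_ : IsAlgClosed (ResidueField C')) (φ : C →+* C')
      (ψ : L →+* FractionRing C'), IsLocalHom φ ∧ Function.Injective φ ∧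
        ∀ c, ψ (e (algebraMap C (FractionRing C) c)) = algebraMap C' (FractionRing C') (φ c) := by
  classical
  letI : Algebra (FractionRing C) L := e.toAlgebra
  haveI : Module.Finite (FractionRing C) L := he
  letI : Algebra C L := (e.comp (algebraMap C (FractionRing C))).toAlgebra
  have hinj : Function.Injective (algebraMap C L) := e.injective.comp (IsFractionRing.injective C (FractionRing C))
  obtain ⟨s, hs⟩ := (Module.Finite.fg_top : (⊤ : Submodule (FractionRing C) L).FG)
  obtain ⟨R, hR, hCR, hmR⟩ := ValExtLib.exists_dvr_dominating' (IsDiscreteValuationRing.not_isField C) hinj s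
    (fun G hG hsG z => by
      have hF : ∀ q, e q ∈ G := fun q => by
        obtain ⟨a, b, -, rfl⟩ := IsFractionRing.div_surjective C q
        rw [map_div₀]
        exact G.div_mem (hG a) (hG b)
      have hz : z ∈ Submodule.span (FractionRing C) (s : Set L) := hs ▸ trivial
      induction hz using Submodule.span_induction with
      | mem x hx => exact hsG hx
      | zero => exact G.zero_mem
      | add x y _ _ hx hy => exact G.add_mem hx hy
      | smul a x _ hx => exact G.mul_mem (hF a) hx)
  let φ₁ : C →+* R := (algebraMap C L).codRestrict R.toSubring hCR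
  have hφ₁ : IsLocalHom φ₁ := ⟨fun a ha => by
    by_contra h
    have hlt := hmR a ((mem_maximalIdeal a).2 h)
    have := (R.valuation_eq_one_iff (φ₁ a)).1 ha
    exact hlt.ne this⟩
  obtain ⟨C', _, _, _, _, _, φ₂, hφ₂, hφ₂i⟩ := exists_complete R
  let ψ : L →+* FractionRing C' := IsFractionRing.lift (A := R)
    (g := (algebraMap C' (FractionRing C')).comp φ₂) ((IsFractionRing.injective C' (FractionRing C')).comp hφ₂i)
  refine ⟨C', inferInstance, inferInstance, inferInstance, inferInstance, inferInstance, φ₂.comp φ₁, ψ,
    RingHom.isLocalHom_comp _ _, hφ₂i.comp fun a b h => hinj (congrArg Subtype.val h), fun c => ?_⟩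
  exact IsFractionRing.lift_algebraMap (A := R) (K := L)
    (g := (algebraMap C' (FractionRing C')).comp φ₂) _ (φ₁ c)

variable {A : Type u} [CommRing A] [IsLocalRing A] {P : Scheme.{u}}

theorem range_subset {U : P.Opens} (s : Spec (CommRingCat.of A) ⟶ P) (h : s (closedPoint A) ∈ U) :
    Set.range s ⊆ U := by
  rintro _ ⟨y, rfl⟩
  exact ((specializes_closedPoint y).map s.continuous).mem_open U.isOpen h

theorem exists_factor {U : P.Opens} (hU : IsAffineOpen U) (s : Spec (CommRingCat.of A) ⟶ P)
    (h : s (closedPoint A) ∈ U) : ∃ α : Γ(P, U) →+* A, Spec.map (CommRingCat.ofHom α) ≫ hU.fromSpec = s := by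
  obtain ⟨α, hα⟩ := Spec.map_surjective (IsOpenImmersion.lift hU.fromSpec s
    ((range_subset s h).trans hU.range_fromSpec.ge))
  exact ⟨α.hom, by rw [CommRingCat.ofHom_hom, hα, IsOpenImmersion.lift_fac]⟩

/-- Points with values in a local ring are determined in any extension by a local injective map. -/
theorem eq_of_comp_eq {C : Type u} [CommRing C] [IsLocalRing C] (φ : A →+* C) [IsLocalHom φ]
    (hφ : Function.Injective φ) {g₁ g₂ : Spec (CommRingCat.of A) ⟶ P}
    (h : Spec.map (CommRingCat.ofHom φ) ≫ g₁ = Spec.map (CommRingCat.ofHom φ) ≫ g₂) : g₁ = g₂ := by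
  obtain ⟨U, hU, hx, -⟩ := exists_isAffineOpen_mem_and_subset (x := g₁ (closedPoint A)) (U := ⊤) trivial
  have hc : Spec.map (CommRingCat.ofHom φ) (closedPoint C) = closedPoint A := comap_closedPoint φ
  have hx₂ : g₂ (closedPoint A) ∈ U := by
    rw [← hc, ← Scheme.Hom.comp_apply, ← h, Scheme.Hom.comp_apply, hc]
    exact hx
  obtain ⟨α₁, rfl⟩ := exists_factor hU g₁ hx
  obtain ⟨α₂, rfl⟩ := exists_factor hU g₂ hx₂
  rw [← Category.assoc, ← Category.assoc, cancel_mono, ← Spec.map_comp, ← Spec.map_comp] at h
  have h' := congrArg CommRingCat.Hom.hom (Spec.map_injective h)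
  rw [show α₁ = α₂ from RingHom.ext fun a => hφ (RingHom.congr_fun h' a)]

/-- The generic point of a domain. -/
noncomputable abbrev gen (A : Type u) [CommRing A] :
    Spec (CommRingCat.of (FractionRing A)) ⟶ Spec (CommRingCat.of A) :=
  Spec.map (CommRingCat.ofHom (algebraMap A (FractionRing A)))

/-- An integral point with values in an extension descends if its generic point does. -/
theorem exists_lift_of_extension {A : Type u} [CommRing A] [IsDomain A] [IsDiscreteValuationRing A]
    {C : Type u} [CommRing C] [IsDomain C] [IsLocalRing C] (φ : A →+* C) [IsLocalHom φ]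
    (hφ : Function.Injective φ) {M : Type u} [Field M] (jC : C →+* M) (hjC : Function.Injective jC)
    (jK : FractionRing A →+* M) (hcompat : ∀ a, jK (algebraMap A (FractionRing A) a) = jC (φ a))
    (x : Spec (CommRingCat.of (FractionRing A)) ⟶ P) (l : Spec (CommRingCat.of C) ⟶ P)
    (h : Spec.map (CommRingCat.ofHom jK) ≫ x = Spec.map (CommRingCat.ofHom jC) ≫ l) :
    ∃ lA : Spec (CommRingCat.of A) ⟶ P, gen A ≫ lA = x ∧ Spec.map (CommRingCat.ofHom φ) ≫ lA = l := by
  obtain ⟨U, hU, hx, -⟩ := exists_isAffineOpen_mem_and_subset (x := l (closedPoint C)) (U := ⊤) trivial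
  have hxU : x (closedPoint (FractionRing A)) ∈ U := by
    have e := congrArg (fun g => g (closedPoint M)) h
    simp only [Scheme.Hom.comp_apply] at e
    rw [Subsingleton.elim (α := PrimeSpectrum (FractionRing A)) (closedPoint (FractionRing A))
      (Spec.map (CommRingCat.ofHom jK) (closedPoint M)), e]
    exact range_subset l hx ⟨_, rfl⟩
  obtain ⟨α, rfl⟩ := exists_factor hU l hx
  obtain ⟨β, rfl⟩ := exists_factor hU x hxU
  rw [← Category.assoc, ← Category.assoc, cancel_mono, ← Spec.map_comp, ← Spec.map_comp] at h
  have h' : ∀ b, jK (β b) = jC (α b) := RingHom.congr_fun (congrArg CommRingCat.Hom.hom (Spec.map_injective h))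
  have hmem : ∀ b, β b ∈ (algebraMap A (FractionRing A)).range := fun b => by
    rcases ValuationRing.isInteger_or_isInteger A (β b) with ⟨a, ha⟩ | ⟨a, ha⟩
    · exact ⟨a, ha⟩
    · by_cases hu : IsUnit a
      · refine ⟨↑hu.unit⁻¹, ?_⟩
        rw [map_units_inv, hu.unit_spec, ha, inv_inv]
      · by_cases hb : β b = 0
        · exact ⟨0, by rw [hb, map_zero]⟩
        · exfalso
          have h1 : jC (α b * φ a) = jC 1 := by
            rw [map_mul, ← h', ← hcompat, ← map_mul, ha, mul_inv_cancel₀ hb, map_one, map_one]
          exact hu ((isUnit_map_iff φ a).1 (IsUnit.of_mul_eq_one_right _ (hjC h1)))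
  let e := RingEquiv.ofBijective (algebraMap A (FractionRing A)).rangeRestrict
    ⟨fun a b hab => IsFractionRing.injective A (FractionRing A) (congrArg Subtype.val hab),
      RingHom.rangeRestrict_surjective _⟩
  let γ : Γ(P, U) →+* A := e.symm.toRingHom.comp (β.codRestrict _ hmem)
  have hγ : ∀ b, algebraMap A (FractionRing A) (γ b) = β b := fun b =>
    congrArg Subtype.val (e.apply_symm_apply (β.codRestrict _ hmem b))
  refine ⟨Spec.map (CommRingCat.ofHom γ) ≫ hU.fromSpec, ?_, ?_⟩
  · rw [← Category.assoc, ← Spec.map_comp, ← CommRingCat.ofHom_comp]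
    congr 3
    exact RingHom.ext hγ
  · rw [← Category.assoc, ← Spec.map_comp, ← CommRingCat.ofHom_comp]
    congr 3
    exact RingHom.ext fun b => hjC (by rw [RingHom.comp_apply, ← hcompat, hγ, h'])

/-- An integral point whose generic point lies in a closed subscheme lies in it. -/
theorem exists_lift_closed {A : Type u} [CommRing A] [IsDomain A] {Z : Scheme.{u}} (i : Z ⟶ P)
    [IsClosedImmersion i] (l : Spec (CommRingCat.of A) ⟶ P) (x : Spec (CommRingCat.of (FractionRing A)) ⟶ Z)
    (h : gen A ≫ l = x ≫ i) : ∃ l' : Spec (CommRingCat.of A) ⟶ Z, l' ≫ i = l ∧ gen A ≫ l' = x := by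
  haveI : IsClosedImmersion (pullback.snd i l) :=
    MorphismProperty.pullback_snd (P := @IsClosedImmersion) _ _ inferInstance
  let η : Spec (CommRingCat.of (FractionRing A)) ⟶ pullback i l := pullback.lift x (gen A) h.symm
  haveI : Surjective (pullback.snd i l) := by
    refine ⟨fun q => ?_⟩
    have hcl := (pullback.snd i l).isClosedEmbedding.isClosed_range
    have hgen : gen A (closedPoint (FractionRing A)) ∈ Set.range (pullback.snd i l) :=
      ⟨η (closedPoint (FractionRing A)), by rw [← Scheme.Hom.comp_apply, pullback.lift_snd]⟩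
    have hsp : gen A (closedPoint (FractionRing A)) ⤳ q := by
      refine (PrimeSpectrum.le_iff_specializes (gen A (closedPoint (FractionRing A))) q).1 ?_
      show Ideal.comap (algebraMap A (FractionRing A)) (maximalIdeal (FractionRing A)) ≤ _
      rw [maximalIdeal_eq_bot, ← RingHom.ker_eq_comap_bot,
        (RingHom.injective_iff_ker_eq_bot _).1 (IsFractionRing.injective A (FractionRing A))]
      exact bot_le
    exact hsp.mem_closed hcl hgen
  haveI : IsReduced (Spec (CommRingCat.of A)) := inferInstance
  haveI := isIso_of_isClosedImmersion_of_surjective (pullback.snd i l)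
  let l' := inv (pullback.snd i l) ≫ pullback.fst i l
  have hl' : l' ≫ i = l := by
    rw [Category.assoc, pullback.condition, IsIso.inv_hom_id_assoc]
  refine ⟨l', hl', ?_⟩
  rw [← cancel_mono i, Category.assoc, hl', h]

end Groth.Agent.H8Coh.DVRPoints
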