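import Groth.Agent.H8Coh.TransClass
import Groth.Agent.PicLib.LiftGen
import Groth.Agent.PicDef15.Adic
import Groth.Agent.PicDef15.StepCoh
import Groth.Agent.Coherent.CechCompare
import Groth.Agent.DimLib.BaseChange
import Mathlib.Algebra.TrivSqZeroExt.Basic
import Mathlib.Algebra.DualNumber

/-!
# Deformations of the trivial class over square-zero extensions of a field

For `q : Z ⟶ Spec K` and the base change `Y` of `Z` to `K ⊕ M`: classes of `Y` given by the transition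
functions `1 + ∑ m_l c_l` for additive cocycles `c_l` of the structure sheaf of `Z`, and for `M = K` all
classes trivial on `Z` are of this form, uniquely up to coboundaries.
-/

set_option autoImplicit false
set_option backward.isDefEq.respectTransparency.types false
set_option linter.style.haveILetI false
set_option maxHeartbeats 800000

universe u

open CategoryTheory CategoryTheory.Limits AlgebraicGeometry Opposite TopologicalSpace
open Groth.Agent.Coherent Groth.Agent.PicLib Groth.Agent.H8Coh.TransClass Groth.Agent.AmpleLib Groth.Agent.PicDef15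

namespace Groth.Agent.H8Coh.DualThickening

variable {Z : Scheme.{u}} {ι : Type u}

/-- The additive cocycle condition. -/
def IsCocycle (W : ι → Z.Opens) (c : ∀ i j, Γ(Z, W i ⊓ W j)) : Prop :=
  ∀ i j k (V : Z.Opens) (hi : V ≤ W i) (hj : V ≤ W j) (hk : V ≤ W k),
    PicLib.res (le_inf hj hk) (c j k) - PicLib.res (le_inf hi hk) (c i k) + PicLib.res (le_inf hi hj) (c i j) = 0

/-- Compatibility of base rings along a commutative square. -/
theorem app_phi {R R' : Type u} [CommRing R] [CommRing R'] (ψ : R →+* R') {Y Y' : Scheme.{u}}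
    (g : Y ⟶ Spec (CommRingCat.of R)) (g' : Y' ⟶ Spec (CommRingCat.of R')) (h : Y' ⟶ Y)
    (hh : h ≫ g = g' ≫ Spec.map (CommRingCat.ofHom ψ)) (V : Y.Opens) (r : R) :
    h.app V (phi g V r) = phi g' (h ⁻¹ᵁ V) (ψ r) := by
  suffices H : (Scheme.ΓSpecIso (CommRingCat.of R)).inv ≫ g.appLE ⊤ V le_top ≫ h.app V =
      CommRingCat.ofHom ψ ≫ (Scheme.ΓSpecIso (CommRingCat.of R')).inv ≫ g'.appLE ⊤ (h ⁻¹ᵁ V) le_top from
    congr($H r)
  rw [← Category.assoc (CommRingCat.ofHom ψ), Scheme.ΓSpecIso_inv_naturality, Category.assoc,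
    Scheme.Hom.app_eq_appLE, Scheme.Hom.appLE_comp_appLE]
  simp only [hh]
  rw [← Scheme.Hom.appLE_comp_appLE g' (Spec.map (CommRingCat.ofHom ψ)) ⊤ ⊤ (h ⁻¹ᵁ V) le_rfl le_top]
  rw [show (Spec.map (CommRingCat.ofHom ψ)).appLE ⊤ ⊤ le_rfl = (Spec.map (CommRingCat.ofHom ψ)).appTop from
    Scheme.Hom.appLE_eq_app _]

theorem app_app_of_eq {Y Y' : Scheme.{u}} {h : Y' ⟶ Y} {π : Y ⟶ Z} {π' : Y' ⟶ Z} (e : h ≫ π = π') (V : Z.Opens)
    (x : Γ(Z, V)) :
    h.app (π ⁻¹ᵁ V) (π.app V x) = PicLib.res (show h ⁻¹ᵁ (π ⁻¹ᵁ V) ≤ π' ⁻¹ᵁ V by subst e; exact le_rfl) (π'.app V x) := by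
  subst e
  show _ = PicLib.res le_rfl _
  simp [Scheme.Hom.comp_app, PicLib.res]
  rfl

section Ext

variable {K : Type u} [Field K] {M : Type u} [AddCommGroup M] [Module K M] [Module Kᵐᵒᵖ M] [IsCentralScalar K M]
  {Y : Scheme.{u}}
  (g : Y ⟶ Spec (CommRingCat.of (TrivSqZeroExt K M))) (π : Y ⟶ Z)
  {n : ℕ} (m : Fin n → M) {W : ι → Z.Opens} (c : Fin n → ∀ i j, Γ(Z, W i ⊓ W j))

/-- The deviation from `1` of the transition functions. -/
noncomputable def nu (i j : ι) : Γ(Y, π ⁻¹ᵁ (W i ⊓ W j)) :=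
  ∑ l, phi g (π ⁻¹ᵁ (W i ⊓ W j)) (TrivSqZeroExt.inr (m l)) * π.app (W i ⊓ W j) (c l i j)

/-- The transition functions. -/
noncomputable def eta (i j : ι) : Γ(Y, π ⁻¹ᵁ W i ⊓ π ⁻¹ᵁ W j) :=
  (1 + nu g π m c i j : Γ(Y, π ⁻¹ᵁ (W i ⊓ W j)))

variable {g π}

theorem res_app {U V : Z.Opens} (h : V ≤ U) (x : Γ(Z, U)) :
    PicLib.res (π.preimage_mono h) (π.app U x) = π.app V (PicLib.res h x) :=
  (ConcreteCategory.congr_hom (π.naturality (homOfLE h).op) x).symm

theorem res_eta (i j : ι) {V : Z.Opens} (hi : V ≤ W i) (hj : V ≤ W j) :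
    PicLib.res (π.preimage_mono (le_inf hi hj)) (eta g π m c i j) =
      1 + ∑ l, phi g (π ⁻¹ᵁ V) (TrivSqZeroExt.inr (m l)) * π.app V (PicLib.res (le_inf hi hj) (c l i j)) := by
  have h1 : PicLib.res (π.preimage_mono (le_inf hi hj)) (eta g π m c i j) =
      PicLib.res (π.preimage_mono (le_inf hi hj)) (1 + nu g π m c i j) := rfl
  rw [h1, map_add, map_one, nu, map_sum]
  refine congrArg (1 + ·) (Finset.sum_congr rfl fun l _ => ?_)
  rw [map_mul, res_phi, res_app]

theorem isUnit_eta (i j : ι) : IsUnit (eta g π m c i j) := by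
  show IsUnit (1 + nu g π m c i j : Γ(Y, π ⁻¹ᵁ (W i ⊓ W j)))
  have h : nu g π m c i j * nu g π m c i j = 0 := by
    simp only [nu, Finset.sum_mul, Finset.mul_sum]
    refine Finset.sum_eq_zero fun l _ => Finset.sum_eq_zero fun l' _ => ?_
    rw [mul_mul_mul_comm, ← map_mul, TrivSqZeroExt.inr_mul_inr, map_zero, zero_mul]
  exact IsUnit.of_mul_eq_one (1 - nu g π m c i j) (by linear_combination -h)

variable {m c}

theorem eta_cocycle (hc : ∀ l, IsCocycle W (c l)) (i j k : ι) (V : Y.Opens) (hi : V ≤ π ⁻¹ᵁ W i)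
    (hj : V ≤ π ⁻¹ᵁ W j) (hk : V ≤ π ⁻¹ᵁ W k) :
    PicLib.res (le_inf hi hk) (eta g π m c i k) =
      PicLib.res (le_inf hi hj) (eta g π m c i j) * PicLib.res (le_inf hj hk) (eta g π m c j k) := by
  let V₀ : Z.Opens := W i ⊓ W j ⊓ W k
  have li : V₀ ≤ W i := inf_le_left.trans inf_le_left
  have lj : V₀ ≤ W j := inf_le_left.trans inf_le_right
  have lk : V₀ ≤ W k := inf_le_right
  have hV : V ≤ π ⁻¹ᵁ V₀ := le_inf (le_inf hi hj) hk
  suffices H : PicLib.res (π.preimage_mono (le_inf li lk)) (eta g π m c i k) =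
      PicLib.res (π.preimage_mono (le_inf li lj)) (eta g π m c i j) *
        PicLib.res (π.preimage_mono (le_inf lj lk)) (eta g π m c j k) by
    have := congrArg (PicLib.res hV) H
    rwa [map_mul, PicLib.res_res, PicLib.res_res, PicLib.res_res] at this
  rw [res_eta m c i k li lk, res_eta m c i j li lj, res_eta m c j k lj lk]
  have hz : ∀ l, π.app V₀ (PicLib.res (le_inf li lk) (c l i k)) =
      π.app V₀ (PicLib.res (le_inf li lj) (c l i j)) + π.app V₀ (PicLib.res (le_inf lj lk) (c l j k)) := fun l => by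
    rw [← map_add]
    refine congrArg _ ?_
    linear_combination -(hc l i j k V₀ li lj lk)
  have h0 : ∀ a b : Fin n → Γ(Y, π ⁻¹ᵁ V₀),
      (∑ l, phi g (π ⁻¹ᵁ V₀) (TrivSqZeroExt.inr (m l)) * a l) *
        (∑ l, phi g (π ⁻¹ᵁ V₀) (TrivSqZeroExt.inr (m l)) * b l) = 0 := fun a b => by
    simp only [Finset.sum_mul, Finset.mul_sum]
    refine Finset.sum_eq_zero fun l _ => Finset.sum_eq_zero fun l' _ => ?_
    rw [mul_mul_mul_comm, ← map_mul, TrivSqZeroExt.inr_mul_inr, map_zero, zero_mul]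
  simp only [hz, mul_add, Finset.sum_add_distrib]
  linear_combination -(h0 (fun l => π.app V₀ (PicLib.res (le_inf li lj) (c l i j)))
    (fun l => π.app V₀ (PicLib.res (le_inf lj lk) (c l j k))))

theorem iSup_preimage (hW : iSup W = ⊤) : (⨆ i, π ⁻¹ᵁ W i) = ⊤ := by
  rw [← Scheme.Hom.preimage_iSup, hW, Scheme.Hom.preimage_top]

theorem exists_class (hW : iSup W = ⊤) (hc : ∀ l, IsCocycle W (c l)) :
    ∃ a, HasTrans (fun i => π ⁻¹ᵁ W i) a (eta g π m c) :=
  exists_trans (iSup_preimage hW) _ (isUnit_eta m c) (eta_cocycle hc)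

/-- Base change of the transition functions along a map of extensions. -/
theorem pull_class {N : Type u} [AddCommGroup N] [Module K N] [Module Kᵐᵒᵖ N] [IsCentralScalar K N]
    {Y' : Scheme.{u}} {g' : Y' ⟶ Spec (CommRingCat.of (TrivSqZeroExt K N))} {π' : Y' ⟶ Z}
    (q : Z ⟶ Spec (CommRingCat.of K)) (hπ' : π' ≫ q = g' ≫ Spec.map (CommRingCat.ofHom (algebraMap K (TrivSqZeroExt K N))))
    (ℓ : M →ₗ[K] N) (h : Y' ⟶ Y) (h₁ : h ≫ π = π')
    (h₂ : h ≫ g = g' ≫ Spec.map (CommRingCat.ofHom (TrivSqZeroExt.map ℓ).toRingHom))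
    (n₀ : N) (t : Fin n → K) (hℓ : ∀ l, ℓ (m l) = t l • n₀)
    (d : ∀ i j, Γ(Z, W i ⊓ W j)) (hd : ∀ i j, d i j = ∑ l, phi q (W i ⊓ W j) (t l) * c l i j)
    {a : PicM Y} (ha : HasTrans (fun i => π ⁻¹ᵁ W i) a (eta g π m c)) :
    HasTrans (fun i => π' ⁻¹ᵁ W i) (PicM.pull h a) (eta g' π' (fun _ : Fin 1 => n₀) fun _ => d) := by
  subst h₁
  refine (ha.pull h).congr fun i j => ?_
  show h.app (π ⁻¹ᵁ (W i ⊓ W j)) (1 + nu g π m c i j) =
    (1 + nu g' (h ≫ π) (fun _ : Fin 1 => n₀) (fun _ => d) i j : Γ(Y', (h ≫ π) ⁻¹ᵁ (W i ⊓ W j)))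
  rw [map_add, map_one]
  refine congrArg (1 + ·) ?_
  rw [nu, nu, map_sum, Fin.sum_univ_one, hd, map_sum, Finset.mul_sum]
  refine Finset.sum_congr rfl fun l _ => ?_
  rw [map_mul, app_phi _ g g' h h₂, map_mul, app_phi _ q g' (h ≫ π) hπ']
  show phi g' _ ((TrivSqZeroExt.map ℓ) (TrivSqZeroExt.inr (m l))) * h.app _ (π.app _ _) =
    phi g' _ (TrivSqZeroExt.inr n₀) * (phi g' _ (algebraMap K (TrivSqZeroExt K N) (t l)) * (h ≫ π).app _ _)
  rw [TrivSqZeroExt.map_inr, hℓ, TrivSqZeroExt.algebraMap_eq_inl, Scheme.Hom.comp_app]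
  show phi g' (h ⁻¹ᵁ (π ⁻¹ᵁ (W i ⊓ W j))) (TrivSqZeroExt.inr (t l • n₀)) * h.app _ (π.app _ (c l i j)) =
    phi g' (h ⁻¹ᵁ (π ⁻¹ᵁ (W i ⊓ W j))) (TrivSqZeroExt.inr n₀) *
      (phi g' (h ⁻¹ᵁ (π ⁻¹ᵁ (W i ⊓ W j))) (TrivSqZeroExt.inl (t l)) * h.app _ (π.app _ (c l i j)))
  rw [← mul_assoc, ← map_mul, mul_comm (TrivSqZeroExt.inr n₀), TrivSqZeroExt.inl_mul_inr]

/-- The classes restrict to the trivial class. -/
theorem pull_section_class (hW : iSup W = ⊤) {q : Z ⟶ Spec (CommRingCat.of K)} {i : Z ⟶ Y} (hi : i ≫ π = 𝟙 Z)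
    (hig : i ≫ g = q ≫ Spec.map (CommRingCat.ofHom (TrivSqZeroExt.fstHom K K M).toRingHom))
    {a : PicM Y} (ha : HasTrans (fun x => π ⁻¹ᵁ W x) a (eta g π m c)) : PicM.pull i a = 1 := by
  refine HasTrans.unique ?_ (ha.pull i) (trans_one.congr fun x y => ?_)
  · rw [← Scheme.Hom.preimage_iSup, iSup_preimage hW, Scheme.Hom.preimage_top]
  · show (1 : Γ(Z, i ⁻¹ᵁ (π ⁻¹ᵁ (W x ⊓ W y)))) = i.app (π ⁻¹ᵁ (W x ⊓ W y)) (1 + nu g π m c x y)
    rw [map_add, map_one, nu, map_sum, Finset.sum_eq_zero fun l _ => ?_, add_zero]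
    rw [map_mul, app_phi _ g q i hig]
    show phi q _ (TrivSqZeroExt.fst (TrivSqZeroExt.inr (m l))) * _ = 0
    rw [TrivSqZeroExt.fst_inr, map_zero, zero_mul]

end Ext

section Dual

variable {K : Type u} [Field K] {Y : Scheme.{u}} {g : Y ⟶ Spec (CommRingCat.of (DualNumber K))} {π : Y ⟶ Z}
  {q : Z ⟶ Spec (CommRingCat.of K)}
  (sq : IsPullback π g q (Spec.map (CommRingCat.ofHom (algebraMap K (DualNumber K)))))
  {i : Z ⟶ Y} (hi : i ≫ π = 𝟙 Z)
  (hig : i ≫ g = q ≫ Spec.map (CommRingCat.ofHom (TrivSqZeroExt.fstHom K K K).toRingHom))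
include sq hi hig

theorem isPullback_section :
    IsPullback i q g (Spec.map (CommRingCat.ofHom (TrivSqZeroExt.fstHom K K K).toRingHom)) := by
  refine (IsPullback.of_bot ?_ hig.symm sq.flip).flip
  have h1 : Spec.map (CommRingCat.ofHom (TrivSqZeroExt.fstHom K K K).toRingHom) ≫
      Spec.map (CommRingCat.ofHom (algebraMap K (DualNumber K))) = 𝟙 _ := by
    rw [← Spec.map_comp, ← Spec.map_id]
    congr 1
  rw [hi, h1]
  exact IsPullback.of_vert_isIso ⟨by simp⟩

theorem isClosedImmersion_section : IsClosedImmersion i := by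
  haveI := IsClosedImmersion.spec_of_surjective (CommRingCat.ofHom (TrivSqZeroExt.fstHom K K K).toRingHom)
    fun x => ⟨TrivSqZeroExt.inl x, TrivSqZeroExt.fst_inl K x⟩
  exact MorphismProperty.of_isPullback (P := @IsClosedImmersion) (isPullback_section sq hi hig).flip inferInstance

omit sq hi hig in
theorem ker_fst : RingHom.ker (TrivSqZeroExt.fstHom K K K).toRingHom = Ideal.span {(DualNumber.eps : DualNumber K)} := by
  ext x
  rw [RingHom.mem_ker, Ideal.mem_span_singleton']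
  refine ⟨fun h => ⟨TrivSqZeroExt.inl x.snd, ?_⟩, ?_⟩
  · have h' : x.fst = 0 := h
    refine TrivSqZeroExt.ext ?_ ?_ <;> simp [h']
  · rintro ⟨y, rfl⟩
    simp

/-- The function on `Z` under a function on the thickening. -/
noncomputable def red {V : Z.Opens} (u : Γ(Y, π ⁻¹ᵁ V)) : Γ(Z, V) :=
  PicLib.res (show V ≤ i ⁻¹ᵁ (π ⁻¹ᵁ V) by rw [← Scheme.Hom.comp_preimage, hi]; exact le_rfl) (i.app (π ⁻¹ᵁ V) u)

omit sq hig in
theorem red_app {V : Z.Opens} (x : Γ(Z, V)) : red hi (π.app V x) = x := by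
  rw [red, app_app_of_eq hi, PicLib.res_res]
  simp [PicLib.res]
  exact congr($(Z.presheaf.map_id (op V)) x)

theorem red_eps (V : Z.Opens) : red hi (phi g (π ⁻¹ᵁ V) DualNumber.eps) = 0 := by
  rw [red, app_phi _ g q i hig]
  show PicLib.res _ (phi q _ (TrivSqZeroExt.fst (DualNumber.eps : DualNumber K))) = 0
  rw [DualNumber.fst_eps, map_zero, map_zero]

theorem exists_decomp {V : Z.Opens} (hV : IsAffineOpen V) (u : Γ(Y, π ⁻¹ᵁ V)) :
    ∃ b : Γ(Z, V), u = π.app V (red hi u) + phi g (π ⁻¹ᵁ V) DualNumber.eps * π.app V b := by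
  haveI : IsAffineHom π := MorphismProperty.of_isPullback (P := @IsAffineHom) sq.flip inferInstance
  haveI := isClosedImmersion_section sq hi hig
  have step : ∀ u : Γ(Y, π ⁻¹ᵁ V), red hi u = 0 → ∃ y, y * phi g (π ⁻¹ᵁ V) DualNumber.eps = u := by
    intro u hu
    rw [← Ideal.mem_span_singleton']
    have h1 : u ∈ i.ker.ideal ⟨π ⁻¹ᵁ V, hV.preimage π⟩ := by
      rw [Scheme.Hom.ker_apply, RingHom.mem_ker]
      have e : V = i ⁻¹ᵁ (π ⁻¹ᵁ V) := by rw [← Scheme.Hom.comp_preimage, hi]; rfl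
      have h2 := congrArg (PicLib.res e.ge) hu
      rw [red, PicLib.res_res, map_zero] at h2
      simpa [PicLib.res] using h2
    rw [ideal_ker_of_isPullback _ (fun x => ⟨TrivSqZeroExt.inl x, TrivSqZeroExt.fst_inl K x⟩)
      (isPullback_section sq hi hig), ker_fst, Ideal.map_span, Set.image_singleton] at h1
    exact h1
  obtain ⟨y, hy⟩ := step (u - π.app V (red hi u)) (by
    have : red hi (u - π.app V (red hi u)) = red hi u - red hi (π.app V (red hi u)) := by
      simp only [red, map_sub]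
    rw [this, red_app, sub_self])
  obtain ⟨y', hy'⟩ := step (y - π.app V (red hi y)) (by
    have : red hi (y - π.app V (red hi y)) = red hi y - red hi (π.app V (red hi y)) := by
      simp only [red, map_sub]
    rw [this, red_app, sub_self])
  refine ⟨red hi y, ?_⟩
  have hεε : phi g (π ⁻¹ᵁ V) DualNumber.eps * phi g (π ⁻¹ᵁ V) DualNumber.eps = 0 := by
    rw [← map_mul, DualNumber.eps_mul_eps, map_zero]
  linear_combination -hy - (phi g (π ⁻¹ᵁ V) DualNumber.eps) * hy' + y' * hεε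

theorem eq_zero_of_eps_mul {V : Z.Opens} (hV : IsAffineOpen V) {b : Γ(Z, V)}
    (h : phi g (π ⁻¹ᵁ V) DualNumber.eps * π.app V b = 0) : b = 0 := by
  haveI : IsAffineHom π := MorphismProperty.of_isPullback (P := @IsAffineHom) sq.flip inferInstance
  haveI : Flat q := DimLib.flat_over_field q
  haveI : Flat g := MorphismProperty.of_isPullback (P := @Flat) sq inferInstance
  have h1 := mem_map_of_flat (M := Ideal.span {(DualNumber.eps : DualNumber K)}) (phi g (π ⁻¹ᵁ V))
    (flat_phi g (hV.preimage π)) (r := 1) (fun _ => DualNumber.eps) (fun c hc k => by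
      rw [Ideal.mem_span_singleton']
      refine ⟨TrivSqZeroExt.inl (c k).snd, ?_⟩
      have h0 : (c k).fst = 0 := by
        rw [Fin.sum_univ_one, ← Subsingleton.elim k 0] at hc
        have := congrArg TrivSqZeroExt.snd hc
        simpa using this
      refine TrivSqZeroExt.ext ?_ ?_ <;> simp [h0])
    (fun _ => π.app V b) (by rw [Fin.sum_univ_one, mul_comm]; exact h) 0
  rw [Ideal.map_span, Set.image_singleton, Ideal.mem_span_singleton'] at h1
  obtain ⟨y, hy⟩ := h1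
  rw [← red_app hi b, ← hy]
  show PicLib.res _ (i.app _ (_ * _)) = 0
  rw [map_mul, map_mul]
  refine mul_eq_zero_of_right _ ?_
  exact red_eps sq hi hig V

theorem surjective_section : Surjective i := by
  haveI : Surjective (Spec.map (CommRingCat.ofHom (TrivSqZeroExt.fstHom K K K).toRingHom)) := by
    refine ⟨fun p => ?_⟩
    have : (p : PrimeSpectrum (DualNumber K)) ∈ Set.range (PrimeSpectrum.comap (TrivSqZeroExt.fstHom K K K).toRingHom) := by
      rw [range_comap_of_surjective _ _ fun x => ⟨TrivSqZeroExt.inl x, TrivSqZeroExt.fst_inl K x⟩]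
      intro x hx
      refine p.isPrime.mem_of_pow_mem 2 ?_
      rw [ker_fst, SetLike.mem_coe, Ideal.mem_span_singleton'] at hx
      obtain ⟨y, rfl⟩ := hx
      rw [mul_pow, pow_two DualNumber.eps, DualNumber.eps_mul_eps, mul_zero]
      exact zero_mem _
    exact this
  exact MorphismProperty.of_isPullback (P := @Surjective) (isPullback_section sq hi hig).flip inferInstance

variable {W : ι → Z.Opens}

/-- A class trivial on `Z` has transition functions `1 + ε c`. -/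
theorem exists_cocycle [Z.IsSeparated] (hW : iSup W = ⊤) (hWa : ∀ x, IsAffineOpen (W x)) {a : PicM Y}
    (ha : PicM.pull i a = 1) :
    ∃ c, IsCocycle W c ∧
      HasTrans (fun x => π ⁻¹ᵁ W x) a (eta g π (fun _ : Fin 1 => (1 : K)) fun _ => c) := by
  haveI : IsAffineHom π := MorphismProperty.of_isPullback (P := @IsAffineHom) sq.flip inferInstance
  haveI := isClosedImmersion_section sq hi hig
  haveI := surjective_section sq hi hig
  obtain ⟨L, hL, rfl⟩ := PicM.exists_eq_of a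
  haveI := isQCoh_of_isInvertible hL
  rw [PicM.pull_of] at ha
  obtain ⟨e⟩ := (PicM.of_eq_one_iff _).1 ha
  let one' : ∀ V : Y.Opens, Γ(Coh.structureModule Z, i ⁻¹ᵁ V) := fun V => (1 : Γ(Z, i ⁻¹ᵁ V))
  choose s hs using fun x => surjective_pullSec i (L := L) ((hWa x).preimage π) (e.inv.app _ (one' (π ⁻¹ᵁ W x)))
  have hes : ∀ x (V : Y.Opens) (h : V ≤ π ⁻¹ᵁ W x),
      e.hom.app _ (pullSec i (resM L h (s x))) = one' V := fun x V h => by
    rw [← resM_pullSec i h (s x), app_resM, hs]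
    show resM (Coh.structureModule Z) _ ((e.inv ≫ e.hom).app _ (one' _)) = one' V
    rw [e.inv_hom_id]
    exact map_one (PicLib.res (i.preimage_mono h))
  have hgen : ∀ x, IsGen L (π ⁻¹ᵁ W x) (s x) := fun x => isGen_of_pullSec i hL (by
    intro V hV
    have hb := ConcreteCategory.bijective_of_isIso (e.inv.app V)
    convert hb.comp (isGen_one (i ⁻¹ᵁ (π ⁻¹ᵁ W x)) V hV) using 1
    funext r
    show r • resM _ hV _ = e.inv.app V (r • resM (Coh.structureModule Z) hV (one' (π ⁻¹ᵁ W x)))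
    rw [Scheme.Modules.Hom.app_smul, app_resM, hs])
  let η : ∀ x y, Γ(Y, π ⁻¹ᵁ (W x ⊓ W y)) := fun x y =>
    (hgen y).coef (π.preimage_mono inf_le_right) (resM L (π.preimage_mono inf_le_left) (s x))
  have hη : ∀ x y, η x y • resM L (π.preimage_mono inf_le_right) (s y) =
      resM L (π.preimage_mono (inf_le_left : W x ⊓ W y ≤ W x)) (s x) := fun x y => (hgen y).coef_spec _ _
  have hred : ∀ x y, red hi (η x y) = 1 := fun x y => by
    have h := congrArg (fun z => e.hom.app _ (pullSec i z)) (hη x y)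
    simp only [pullSec_smul, Scheme.Modules.Hom.app_smul, hes] at h
    have h' : i.app _ (η x y) * (1 : Γ(Z, i ⁻¹ᵁ (π ⁻¹ᵁ (W x ⊓ W y)))) = 1 := h
    rw [mul_one] at h'
    rw [red, h', map_one]
  choose c hc using fun x y => exists_decomp sq hi hig ((hWa x).inf (hWa y)) (η x y)
  have hc' : ∀ x y, η x y = eta g π (fun _ : Fin 1 => (1 : K)) (fun _ => c) x y := fun x y => by
    rw [hc x y, hred, map_one]
    show _ = 1 + nu g π _ _ x y
    rw [nu, Fin.sum_univ_one]
    rfl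
  have htr : HasTrans (fun x => π ⁻¹ᵁ W x) (PicM.of hL) (eta g π (fun _ : Fin 1 => (1 : K)) fun _ => c) :=
    HasTrans.congr ⟨L, hL, s, rfl, hgen, fun x y => (hη x y).symm⟩ hc'
  refine ⟨c, fun x y z V hx hy hz => ?_, htr⟩
  let V₀ : Z.Opens := W x ⊓ W y ⊓ W z
  have lx : V₀ ≤ W x := inf_le_left.trans inf_le_left
  have ly : V₀ ≤ W y := inf_le_left.trans inf_le_right
  have lz : V₀ ≤ W z := inf_le_right
  suffices H : PicLib.res (le_inf ly lz) (c y z) - PicLib.res (le_inf lx lz) (c x z) +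
      PicLib.res (le_inf lx ly) (c x y) = 0 by
    have := congrArg (PicLib.res (le_inf (le_inf hx hy) hz : V ≤ V₀)) H
    simpa only [map_add, map_sub, map_zero, PicLib.res_res] using this
  refine eq_zero_of_eps_mul sq hi hig (((hWa x).inf (hWa y)).inf (hWa z)) ?_
  obtain ⟨L', hL', t, -, ht, htη⟩ := htr
  have r1 : ∀ p r (hp : V₀ ≤ W p) (hr : V₀ ≤ W r),
      PicLib.res (le_inf (π.preimage_mono hp) (π.preimage_mono hr)) (eta g π (fun _ : Fin 1 => (1 : K)) (fun _ => c) p r) =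
        1 + phi g (π ⁻¹ᵁ V₀) (TrivSqZeroExt.inr (1 : K)) * π.app V₀ (PicLib.res (le_inf hp hr) (c p r)) :=
    fun p r hp hr => (res_eta _ _ p r hp hr).trans (by rw [Fin.sum_univ_one])
  have e_xz := trans_res htη x z (π.preimage_mono lx) (π.preimage_mono lz)
  have e_xy := trans_res htη x y (π.preimage_mono lx) (π.preimage_mono ly)
  have e_yz := trans_res htη y z (π.preimage_mono ly) (π.preimage_mono lz)
  rw [r1 x z lx lz] at e_xz
  rw [r1 x y lx ly] at e_xy
  rw [r1 y z ly lz] at e_yz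
  have hmul := (ht z _ (π.preimage_mono lz)).1
    ((e_xz.symm.trans (e_xy.trans (congrArg (_ • ·) e_yz))).trans (mul_smul _ _ _).symm)
  have hεε : phi g (π ⁻¹ᵁ V₀) (TrivSqZeroExt.inr (1 : K)) * phi g (π ⁻¹ᵁ V₀) (TrivSqZeroExt.inr (1 : K)) = 0 := by
    rw [← map_mul, TrivSqZeroExt.inr_mul_inr, map_zero]
  simp only [map_add, map_sub]
  show phi g (π ⁻¹ᵁ V₀) (TrivSqZeroExt.inr (1 : K)) * _ = 0
  linear_combination -hmul - (π.app V₀ (PicLib.res (le_inf lx ly) (c x y)) * π.app V₀ (PicLib.res (le_inf ly lz) (c y z))) * hεε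

/-- The cocycle of the trivial class is a coboundary. -/
theorem exists_coboundary [Z.IsSeparated] (hWa : ∀ x, IsAffineOpen (W x)) {c : ∀ x y, Γ(Z, W x ⊓ W y)}
    (ha : HasTrans (fun x => π ⁻¹ᵁ W x) (1 : PicM Y) (eta g π (fun _ : Fin 1 => (1 : K)) fun _ => c)) :
    ∃ b : ∀ x, Γ(Z, W x), ∀ x y,
      c x y = PicLib.res inf_le_right (b y) - PicLib.res inf_le_left (b x) := by
  obtain ⟨u, hu, huη⟩ := ha.exists_units
  choose b hb using fun x => exists_decomp sq hi hig (hWa x) (u x)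
  have hr : ∀ x, IsUnit (red hi (u x)) := fun x => ((hu x).map _).map _
  refine ⟨fun x => -(b x * ((hr x).unit⁻¹ : (Γ(Z, W x))ˣ)), fun x y => ?_⟩
  let V := W x ⊓ W y
  let ε := phi g (π ⁻¹ᵁ V) (TrivSqZeroExt.inr (1 : K))
  have e1 : ∀ (p : ι) (h : V ≤ W p), PicLib.res (π.preimage_mono h) (u p) =
      π.app V (PicLib.res h (red hi (u p))) + ε * π.app V (PicLib.res h (b p)) := fun p h => by
    conv_lhs => rw [hb p]
    rw [map_add, map_mul, res_phi, res_app, res_app]
    rfl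
  have e2 := huη x y
  rw [show eta g π (fun _ : Fin 1 => (1 : K)) (fun _ => c) x y = (1 + ε * π.app V (c x y) : Γ(Y, π ⁻¹ᵁ V)) from by
    show 1 + nu g π _ _ x y = _
    rw [nu, Fin.sum_univ_one]] at e2
  have e3 : PicLib.res (π.preimage_mono (inf_le_left : V ≤ W x)) (u x) =
      (1 + ε * π.app V (c x y)) * PicLib.res (π.preimage_mono (inf_le_right : V ≤ W y)) (u y) := e2
  rw [e1 x inf_le_left, e1 y inf_le_right] at e3
  have hεε : ε * ε = 0 := by
    simp only [ε]
    rw [← map_mul, TrivSqZeroExt.inr_mul_inr, map_zero]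
  set ax := PicLib.res (inf_le_left : V ≤ W x) (red hi (u x))
  set ay := PicLib.res (inf_le_right : V ≤ W y) (red hi (u y))
  set bx := PicLib.res (inf_le_left : V ≤ W x) (b x)
  set b_y := PicLib.res (inf_le_right : V ≤ W y) (b y)
  have hax : ax = ay := by
    have h := congrArg (red hi) e3
    have hε : red hi ε = 0 := red_eps sq hi hig V
    have hadd : ∀ p r : Γ(Y, π ⁻¹ᵁ V), red hi (p + r) = red hi p + red hi r := fun p r => by
      simp only [red, map_add]
    have hmul : ∀ p r : Γ(Y, π ⁻¹ᵁ V), red hi (p * r) = red hi p * red hi r := fun p r => by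
      simp only [red, map_mul]
    have hone : red hi (1 : Γ(Y, π ⁻¹ᵁ V)) = 1 := by simp only [red, map_one]
    simpa [hadd, hmul, hone, hε, red_app] using h
  have hc0 : bx - (c x y * ay + b_y) = 0 := eq_zero_of_eps_mul sq hi hig ((hWa x).inf (hWa y)) (by
    show ε * _ = 0
    rw [map_sub, map_add, map_mul]
    rw [hax] at e3
    linear_combination e3 + (π.app V (c x y) * π.app V b_y) * hεε)
  have hvx := congrArg (PicLib.res (inf_le_left : V ≤ W x)) (hr x).mul_val_inv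
  have hvy := congrArg (PicLib.res (inf_le_right : V ≤ W y)) (hr y).mul_val_inv
  rw [map_mul, map_one] at hvx hvy
  have hvx' : ax * _ = 1 := hvx
  rw [hax] at hvx'
  rw [map_neg, map_neg, map_mul, map_mul]
  linear_combination -(PicLib.res (inf_le_left : V ≤ W x) (((hr x).unit⁻¹ : (Γ(Z, W x))ˣ) : Γ(Z, W x))) * hc0
    - c x y * hvx' + (PicLib.res (inf_le_left : V ≤ W x) (((hr x).unit⁻¹ : (Γ(Z, W x))ˣ) : Γ(Z, W x))) * b_y * hvy
    - (PicLib.res (inf_le_right : V ≤ W y) (((hr y).unit⁻¹ : (Γ(Z, W y))ˣ) : Γ(Z, W y))) * b_y * hvx'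

end Dual

end Groth.Agent.H8Coh.DualThickening
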