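import Groth.Agent.EGA43.FibDepth.ConsLoci
import Groth.Agent.EGA43.Cons.FibreClosureScheme
import Groth.Agent.CycLib28.StalkLocal
import Groth.Agent.CycLib28.StalkGen
import Groth.Agent.CycLib28.FlatDiv
import Mathlib.RingTheory.Ideal.AssociatedPrime.Localization

/-!
# Associated points on the fibres: constructibility (EGA IV 9.8)
-/

set_option autoImplicit false
set_option maxHeartbeats 800000
set_option backward.isDefEq.respectTransparency.types false
set_option linter.style.haveILetI false

universe u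

open CategoryTheory AlgebraicGeometry Topology TopologicalSpace Opposite Function
open Groth.Agent.EGA43 Groth.Agent.EGA43.FibDepth

namespace Groth.Agent.H8Coh.FibreAss

variable {X Y : Scheme.{u}} (f : X ⟶ Y) (F : X.Modules)

/-- The components of the support through a point of a fibre have dimensions in `Φ`. -/
def CompDimP (Φ : Set ℕ) (y : Y) (z : f.fiber y) : Prop := ∀ n, CompP f F n y z → n ∈ Φ

section Chart

variable {V : Y.Opens} (hV : IsAffineOpen V) {U : X.Opens} (hU : IsAffineOpen U) (e : U ≤ f ⁻¹ᵁ V)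
  {P : Type u} [CommRing P] (π : P →+* Γ(X, U)) [Algebra Γ(Y, V) P]
  [Algebra.FinitePresentation Γ(Y, V) P] [Module.Flat Γ(Y, V) P]
  [LocallyOfFinitePresentation f] [Coh.IsQCoh F] (hF : CohB1.IsFP F) (hπ : Surjective π)
  (hc : π.comp (algebraMap Γ(Y, V) P) = (f.appLE V U e).hom)
  {N : ℕ} (hP : HasAffineSpaceFibres Γ(Y, V) P N)
  [mP : Module P Γ(F, U)] (hmod : ∀ (r : P) (m : Γ(F, U)), r • m = π r • m)
  [Module.FinitePresentation P Γ(F, U)] [Module Γ(Y, V) Γ(F, U)]
  [IsScalarTower Γ(Y, V) P Γ(F, U)]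

include hV hU hπ hc hP hmod hF in
theorem isConstructible_preimage (Φ : Set ℕ) :
    IsConstructible (hU.fromSpec ⁻¹' {x | NoEmbP f F (f x) (f.asFiber x)}) ∧
      IsConstructible (hU.fromSpec ⁻¹' {x | AssDimP f F Φ (f x) (f.asFiber x)}) ∧
      IsConstructible (hU.fromSpec ⁻¹' {x | CompDimP f F Φ (f x) (f.asFiber x)}) ∧
      IsConstructible (hU.fromSpec ⁻¹' {x | SuppP f F (f x) (f.asFiber x)}) := by
  classical
  let W : Fin (N + 1) → Set (PrimeSpectrum P) := fun n =>
    if (n : ℕ) ∈ Φ then ∅ else compSet Γ(Y, V) Γ(F, U) n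
  have hW : ∀ n, IsConstructible (W n) := fun n => by
    simp only [W]; split_ifs
    · exact .empty
    · exact isConstructible_compSet (M := Γ(F, U)) hP n
  refine ⟨isConstructible_preimage_of_chart f hU π (NoEmbP f F) _
      (isConstructible_skLocus (M := Γ(F, U)) hP 1)
      fun x hz => noEmbP_iff f F hV hU e π hF hπ hc hP hmod hz,
    isConstructible_preimage_of_chart f hU π (AssDimP f F Φ) _
      (isConstructible_assLocus (M := Γ(F, U)) hP Φ)
      fun x hz => assDimP_iff f F hV hU e π hF hπ hc hP hmod Φ hz,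
    isConstructible_preimage_of_chart f hU π (CompDimP f F Φ) _
      (IsConstructible.iUnion hW).compl fun x hz => ?_,
    isConstructible_preimage_of_chart f hU π (SuppP f F) _ (isConstructible_support (P := P) Γ(F, U))
      fun x hz => (fibre_point_iffs f F hV hU e π hπ hc hF hP hmod hz).1⟩
  have h := fun n => compP_iff f F hV hU e π hF hπ hc hP hmod n hz
  simp only [CompDimP, h, Set.mem_compl_iff, Set.mem_iUnion, not_exists]
  constructor
  · intro h' n hn
    by_cases hn' : (n : ℕ) ∈ Φ
    · simp only [W, if_pos hn', Set.mem_empty_iff_false] at hn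
    · simp only [W, if_neg hn'] at hn
      exact hn' (h' n hn)
  · intro h' n hn
    by_contra hn'
    obtain ⟨w, hw, hws, hwn, hmin⟩ := hn
    obtain ⟨r, -, h1, h2⟩ := exists_rect_eq (M := Γ(F, U)) hP hws
    refine h' ⟨n, by omega⟩ ?_
    simp only [W, if_neg hn']
    exact ⟨w, hw, hws, hwn, hmin⟩

end Chart

theorem isLocallyConstructible_loci [LocallyOfFinitePresentation f] (hF : CohB1.IsFP F) (Φ : Set ℕ) :
    IsLocallyConstructible {x | NoEmbP f F (f x) (f.asFiber x)} ∧
      IsLocallyConstructible {x | AssDimP f F Φ (f x) (f.asFiber x)} ∧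
      IsLocallyConstructible {x | CompDimP f F Φ (f x) (f.asFiber x)} ∧
      IsLocallyConstructible {x | SuppP f F (f x) (f.asFiber x)} := by
  have := isQCoh_of_isFP F hF
  have key : ∀ x : X, ∃ (U : X.Opens) (hU : IsAffineOpen U), x ∈ U ∧
      IsConstructible (hU.fromSpec ⁻¹' {x | NoEmbP f F (f x) (f.asFiber x)}) ∧
      IsConstructible (hU.fromSpec ⁻¹' {x | AssDimP f F Φ (f x) (f.asFiber x)}) ∧
      IsConstructible (hU.fromSpec ⁻¹' {x | CompDimP f F Φ (f x) (f.asFiber x)}) ∧
      IsConstructible (hU.fromSpec ⁻¹' {x | SuppP f F (f x) (f.asFiber x)}) := fun x => by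
    obtain ⟨V, hV, hfx, -⟩ := exists_isAffineOpen_mem_and_subset (x := f x) (U := ⊤) trivial
    obtain ⟨U, hU, hxU, e⟩ := exists_isAffineOpen_mem_and_subset (x := x) (U := f ⁻¹ᵁ V) hfx
    obtain ⟨N, π, hπ, hc⟩ := exists_mvPolynomial_surjective (f.appLE V U e).hom
      (RingHom.FiniteType.of_finitePresentation (f.finitePresentation_appLE hV hU e))
    let _ := Module.compHom Γ(F, U) π
    let _ := QcohFlat.overModule f F V U e
    obtain ⟨h1, h2⟩ := chart_instances f F hF hV hU e π hπ hc
    exact ⟨U, hU, hxU, isConstructible_preimage f F hV hU e π hF hπ hc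
      (hasAffineSpaceFibres_mvPolynomial Γ(Y, V) N) (fun _ _ => rfl) Φ⟩
  refine ⟨?_, ?_, ?_, ?_⟩ <;> refine Cons.isLocallyConstructible_of_forall_fromSpec fun x => ?_ <;>
    obtain ⟨U, hU, hx, h1, h2, h3, h4⟩ := key x
  exacts [⟨U, hU, hx, h1⟩, ⟨U, hU, hx, h2⟩, ⟨U, hU, hx, h3⟩, ⟨U, hU, hx, h4⟩]

/-- The points of `Y` over which a constructible property holds everywhere in the fibre. -/
theorem isLocallyConstructible_forall [LocallyOfFinitePresentation f] [QuasiCompact f]
    (Pr : ∀ y, f.fiber y → Prop) (h : IsLocallyConstructible {x | Pr (f x) (f.asFiber x)}) :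
    IsLocallyConstructible {y | ∀ z, Pr y z} := by
  convert Cons.isLocallyConstructible_compl
    (f.isLocallyConstructible_image (Cons.isLocallyConstructible_compl h)) using 1
  ext y
  simp only [Set.mem_compl_iff, Set.mem_image, not_exists, not_and]
  rw [Set.mem_ofPred_eq, forall_fiber_iff f Pr y]
  exact forall_congr' fun x => ⟨fun h' hx hxy => hx (h' hxy),
    fun h' hxy => by_contra fun hx => h' hx hxy⟩

theorem isLocallyConstructible_exists [LocallyOfFinitePresentation f] [QuasiCompact f]
    (Pr : ∀ y, f.fiber y → Prop) (h : IsLocallyConstructible {x | Pr (f x) (f.asFiber x)}) :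
    IsLocallyConstructible {y | ∃ z, Pr y z} := by
  have := Cons.isLocallyConstructible_compl (isLocallyConstructible_forall f (fun y z => ¬ Pr y z)
    (Cons.isLocallyConstructible_compl h))
  convert this using 1
  ext y
  simp only [Set.mem_compl_iff, Set.mem_ofPred_eq, not_forall, not_not]

theorem isLocallyConstructible_biInter {ι : Type*} {E : ι → Set Y} (s : Finset ι)
    (h : ∀ i ∈ s, IsLocallyConstructible (E i)) : IsLocallyConstructible (⋂ i ∈ s, E i) := by
  classical
  induction s using Finset.induction with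
  | empty =>
    simp only [Finset.notMem_empty, Set.iInter_of_empty, Set.iInter_univ]
    rw [← Set.compl_empty]
    exact Cons.isLocallyConstructible_compl IsConstructible.empty.isLocallyConstructible
  | insert a s has ih =>
    rw [Finset.set_biInter_insert]
    exact (h a (Finset.mem_insert_self a s)).inter (ih fun i hi => h i (Finset.mem_insert_of_mem hi))

theorem exists_nat_dim [LocallyOfFiniteType f] (y : Y) (z : f.fiber y) :
    ∃ n : ℕ, topologicalKrullDim ↥(closure ({z} : Set ↥(f.fiber y))) = (n : WithBot ℕ∞) := by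
  obtain ⟨V, hV, hfx, -⟩ := exists_isAffineOpen_mem_and_subset (x := f (f.fiberι y z)) (U := ⊤) trivial
  obtain ⟨U, hU, hxU, e⟩ :=
    exists_isAffineOpen_mem_and_subset (x := f.fiberι y z) (U := f ⁻¹ᵁ V) hfx
  exact ⟨_, topologicalKrullDim_closure_eq f hV hU e y z hxU⟩

variable [LocallyOfFinitePresentation f] [QuasiCompact f]

theorem noEmbedded_iff (y : Y) :
    AssSch.NoEmbedded ((Scheme.Modules.pullback (f.fiberι y)).obj F) ↔ ∀ z, NoEmbP f F y z :=
  ⟨fun h _ z hz _ z' hz' hcl => (h z hz z' hz' (specializes_iff_mem_closure.2 hcl)).symm,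
    fun h x hx w hw hwx => (h x x hx (subset_closure rfl) w hw hwx.mem_closure).symm⟩

theorem isLocallyConstructible_setOf_fibre_noEmbedded (hF : CohB1.IsFP F) :
    IsLocallyConstructible
      {y : Y | AssSch.NoEmbedded ((Scheme.Modules.pullback (f.fiberι y)).obj F)} := by
  simp only [noEmbedded_iff]
  exact isLocallyConstructible_forall f _ (isLocallyConstructible_loci f F hF ∅).1

theorem isLocallyConstructible_setOf_fibre_assDims_eq (hF : CohB1.IsFP F) (Φ : Finset ℕ) :
    IsLocallyConstructible {y : Y |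
      (fun z : ↥(f.fiber y) => topologicalKrullDim ↥(closure ({z} : Set ↥(f.fiber y)))) ''
          AssSch.Ass ((Scheme.Modules.pullback (f.fiberι y)).obj F) =
        (fun n : ℕ => (n : WithBot ℕ∞)) '' (Φ : Set ℕ)} := by
  have he : {y : Y | (fun z : ↥(f.fiber y) => topologicalKrullDim ↥(closure ({z} : Set ↥(f.fiber y)))) ''
          AssSch.Ass ((Scheme.Modules.pullback (f.fiberι y)).obj F) =
        (fun n : ℕ => (n : WithBot ℕ∞)) '' (Φ : Set ℕ)} =
      {y | ∀ z, AssDimP f F Φ y z} ∩ ⋂ n ∈ Φ, {y | ∃ z, ¬ AssDimP f F {n}ᶜ y z} := by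
    ext y
    simp only [Set.mem_ofPred_eq, Set.mem_inter_iff, Set.mem_iInter]
    constructor
    · intro h
      refine ⟨fun z₀ z hz _ => ?_, fun n hn => ?_⟩
      · obtain ⟨n, hn, hn'⟩ := h.subset ⟨z, hz, rfl⟩
        exact ⟨n, hn, hn'.symm⟩
      · obtain ⟨z, hz, hd⟩ := h.ge ⟨n, hn, rfl⟩
        refine ⟨z, fun hA => ?_⟩
        obtain ⟨m, hm, hm'⟩ := hA z hz (subset_closure rfl)
        exact hm (Nat.cast_injective (hm'.symm.trans hd))
    · rintro ⟨h1, h2⟩
      refine Set.Subset.antisymm ?_ ?_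
      · rintro _ ⟨z, hz, rfl⟩
        obtain ⟨n, hn, hn'⟩ := h1 z z hz (subset_closure rfl)
        exact ⟨n, hn, hn'.symm⟩
      · rintro _ ⟨n, hn, rfl⟩
        obtain ⟨z₀, hz₀⟩ := h2 n hn
        simp only [AssDimP, not_forall, exists_prop, not_exists, not_and] at hz₀
        obtain ⟨z, hz, -, hd⟩ := hz₀
        obtain ⟨m, hm⟩ := exists_nat_dim f y z
        refine ⟨z, hz, ?_⟩
        by_cases hmn : m = n
        · exact hm.trans (by rw [hmn])
        · exact absurd hm (hd m hmn)
  rw [he]
  exact (isLocallyConstructible_forall f _ (isLocallyConstructible_loci f F hF Φ).2.1).inter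
    (isLocallyConstructible_biInter Φ fun n _ => isLocallyConstructible_exists f _
      (Cons.isLocallyConstructible_compl (isLocallyConstructible_loci f F hF {n}ᶜ).2.1))

theorem isLocallyConstructible_setOf_fibre_supportComponentDims_eq (hF : CohB1.IsFP F) (Φ : Finset ℕ) :
    IsLocallyConstructible {y : Y |
      (fun Z : Set ↥(CohB1.support ((Scheme.Modules.pullback (f.fiberι y)).obj F)) => topologicalKrullDim ↥Z) ''
          irreducibleComponents ↥(CohB1.support ((Scheme.Modules.pullback (f.fiberι y)).obj F)) =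
        (fun n : ℕ => (n : WithBot ℕ∞)) '' (Φ : Set ℕ)} := by
  have hs : ∀ y, CohB1.support ((Scheme.Modules.pullback (f.fiberι y)).obj F) =
      {z : ↥(f.fiber y) | SuppP f F y z} := fun y =>
    Set.ext fun z => not_subsingleton_iff_nontrivial
  have hd : ∀ (y : Y) (d : WithBot ℕ∞),
      d ∈ (fun Z : Set ↥(CohB1.support ((Scheme.Modules.pullback (f.fiberι y)).obj F)) => topologicalKrullDim ↥Z) ''
          irreducibleComponents ↥(CohB1.support ((Scheme.Modules.pullback (f.fiberι y)).obj F)) ↔
      ∃ z, MinP f F y z ∧ topologicalKrullDim ↥(closure ({z} : Set ↥(f.fiber y))) = d := fun y d => by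
    rw [← exists_component_iff_minP f F hF y d, hs y]
    rfl
  have he : {y : Y |
      (fun Z : Set ↥(CohB1.support ((Scheme.Modules.pullback (f.fiberι y)).obj F)) => topologicalKrullDim ↥Z) ''
          irreducibleComponents ↥(CohB1.support ((Scheme.Modules.pullback (f.fiberι y)).obj F)) =
        (fun n : ℕ => (n : WithBot ℕ∞)) '' (Φ : Set ℕ)} =
      {y | ∀ z, CompDimP f F Φ y z} ∩ ⋂ n ∈ Φ, {y | ∃ z, ¬ CompDimP f F {n}ᶜ y z} := by
    ext y
    simp only [Set.mem_ofPred_eq, Set.mem_inter_iff, Set.mem_iInter]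
    constructor
    · intro h
      refine ⟨fun z₀ n ⟨z, _, hz, hn⟩ => ?_, fun n hn => ?_⟩
      · obtain ⟨m, hm, hm'⟩ := h.subset ((hd y n).2 ⟨z, hz, hn⟩)
        exact (Nat.cast_injective hm' : m = n) ▸ hm
      · obtain ⟨z, hz, hzd⟩ := (hd y n).1 (h.ge ⟨n, hn, rfl⟩)
        exact ⟨z, fun hC => hC n ⟨z, subset_closure rfl, hz, hzd⟩ rfl⟩
    · rintro ⟨h1, h2⟩
      ext d
      rw [hd]
      constructor
      · rintro ⟨z, hz, rfl⟩
        obtain ⟨m, hm⟩ := exists_nat_dim f y z
        exact ⟨m, h1 z m ⟨z, subset_closure rfl, hz, hm⟩, hm.symm⟩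
      · rintro ⟨n, hn, rfl⟩
        obtain ⟨z₀, hz₀⟩ := h2 n hn
        simp only [CompDimP, not_forall, exists_prop] at hz₀
        obtain ⟨m, ⟨z, -, hz, hzd⟩, hm⟩ := hz₀
        obtain rfl : m = n := not_not.1 hm
        exact ⟨z, hz, hzd⟩
  rw [he]
  exact (isLocallyConstructible_forall f _ (isLocallyConstructible_loci f F hF Φ).2.2.1).inter
    (isLocallyConstructible_biInter Φ fun n _ => isLocallyConstructible_exists f _
      (Cons.isLocallyConstructible_compl (isLocallyConstructible_loci f F hF {n}ᶜ).2.2.1))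

section Torsion

omit [LocallyOfFinitePresentation f] [QuasiCompact f] in
/-- The fibrewise closure, seen in a fibre. -/
theorem mem_fibreClosureSch_iff (Pr : ∀ y, f.fiber y → Prop) (y : Y) (z : f.fiber y) :
    f.fiberι y z ∈ Cons.fibreClosureSch f {x | Pr (f x) (f.asFiber x)} ↔ ∃ z', z' ⤳ z ∧ Pr y z' := by
  have hy : ∀ w : f.fiber y, f (f.fiberι y w) = y := fun w => (f.range_fiberι y).le ⟨w, rfl⟩
  constructor
  · rintro ⟨x, hx, hsp, hfx⟩
    obtain ⟨z', rfl⟩ := (f.range_fiberι y).ge (show f x = y from hfx.trans (hy z))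
    exact ⟨z', (f.fiberι y).isEmbedding.isInducing.specializes_iff.1 hsp, (fiber_pred_iff f Pr y z').2 hx⟩
  · rintro ⟨z', hsp, hz'⟩
    exact ⟨_, (fiber_pred_iff f Pr y z').1 hz', hsp.map (f.fiberι y).continuous,
      (hy z').trans (hy z).symm⟩

/-- No generisation outside the support. -/
def InteriorP (y : Y) (z : f.fiber y) : Prop :=
  SuppP f F y z ∧ ¬ ∃ z', z' ⤳ z ∧ ¬ SuppP f F y z'

theorem isLocallyConstructible_interiorP (hF : CohB1.IsFP F) :
    IsLocallyConstructible {x | InteriorP f F (f x) (f.asFiber x)} := by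
  have hT := (isLocallyConstructible_loci f F hF ∅).2.2.2
  convert hT.inter (Cons.isLocallyConstructible_compl
    (Cons.isLocallyConstructible_fibreClosureSch f (Cons.isLocallyConstructible_compl hT))) using 1
  ext x
  refine and_congr Iff.rfl (not_congr ?_)
  have := mem_fibreClosureSch_iff f (fun y z => ¬ SuppP f F y z) (f x) (f.asFiber x)
  rw [f.fiberι_asFiber] at this
  exact this.symm

/-- The fibres whose support has no component of the fibre. -/
theorem isLocallyConstructible_setOf_nowhereDense (hF : CohB1.IsFP F) :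
    IsLocallyConstructible {y : Y | ∀ z, SuppP f F y z → ∃ z', z' ⤳ z ∧ ¬ SuppP f F y z'} := by
  convert isLocallyConstructible_forall f (fun y z => ¬ InteriorP f F y z)
    (Cons.isLocallyConstructible_compl (isLocallyConstructible_interiorP f F hF)) using 1
  ext y
  simp only [InteriorP, Set.mem_ofPred_eq, not_and, not_not]

/-- The fibres whose support is a union of components of the fibre. -/
theorem isLocallyConstructible_setOf_components (hF : CohB1.IsFP F) :
    IsLocallyConstructible {y : Y | ∀ z, SuppP f F y z → ∃ z', z' ⤳ z ∧ InteriorP f F y z'} := by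
  have hT := (isLocallyConstructible_loci f F hF ∅).2.2.2
  refine isLocallyConstructible_forall f
    (fun y z => SuppP f F y z → ∃ z', z' ⤳ z ∧ InteriorP f F y z') ?_
  convert (Cons.isLocallyConstructible_compl hT).union
    (Cons.isLocallyConstructible_fibreClosureSch f (isLocallyConstructible_interiorP f F hF)) using 1
  ext x
  have := mem_fibreClosureSch_iff f (InteriorP f F) (f x) (f.asFiber x)
  rw [f.fiberι_asFiber] at this
  rw [Set.mem_union, Set.mem_ofPred_eq, ← this, imp_iff_not_or]
  rfl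

/-- A maximal point with domain local ring has a field as local ring. -/
theorem maximalIdeal_eq_bot_of_maximal {W : Scheme.{u}} (η : W) [IsDomain (W.presheaf.stalk η)]
    (h : ∀ w, w ⤳ η → w = η) : IsLocalRing.maximalIdeal (W.presheaf.stalk η) = ⊥ := by
  have h1 := h _ (CycLim28.fromSpecStalk_specializes η (⟨⊥, Ideal.isPrime_bot⟩ : PrimeSpectrum _))
  have h2 := CycLim28.fromSpecStalk_injective η (h1.trans Scheme.fromSpecStalk_closedPoint.symm)
  exact (congrArg PrimeSpectrum.asIdeal h2).symm

omit [QuasiCompact f] in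
theorem torsion_eq_top_iff (hF : CohB1.IsFP F) (y : Y)
    [hd : ∀ z : f.fiber y, IsDomain ((f.fiber y).presheaf.stalk z)] :
    (∀ z : f.fiber y, Submodule.torsion ((f.fiber y).presheaf.stalk z)
      (((Scheme.Modules.pullback (f.fiberι y)).obj F).presheaf.stalk z) = ⊤) ↔
      ∀ z, SuppP f F y z → ∃ z', z' ⤳ z ∧ ¬ SuppP f F y z' := by
  have := isQCoh_of_isFP F hF
  constructor
  · intro h z _
    obtain ⟨η, hη⟩ := QuasiSober.sober (isIrreducible_irreducibleComponent (x := z))
      isClosed_irreducibleComponent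
    have hmax : ∀ w, w ⤳ η → w = η := fun w hw => by
      have h1 : irreducibleComponent z ⊆ closure {w} := by
        rw [← hη.def]
        exact closure_minimal (Set.singleton_subset_iff.2 hw.mem_closure) isClosed_closure
      exact (IsGenericPoint.eq (x := w) (le_antisymm
        ((irreducibleComponent_mem_irreducibleComponents z).2 isIrreducible_singleton.closure h1) h1) hη)
    refine ⟨η, hη.specializes mem_irreducibleComponent, fun hs => not_subsingleton_iff_nontrivial.2 hs ?_⟩
    have hm := maximalIdeal_eq_bot_of_maximal η hmax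
    refine subsingleton_of_forall_eq 0 fun m => ?_
    obtain ⟨r, hr⟩ := (h η).ge (show m ∈ (⊤ : Submodule _ _) from trivial)
    have hu : IsUnit (r : (f.fiber y).presheaf.stalk η) := IsLocalRing.notMem_maximalIdeal.1 fun h' => by
      rw [hm, Ideal.mem_bot] at h'
      exact nonZeroDivisors.ne_zero r.2 h'
    exact hu.smul_eq_zero.1 hr
  · intro h z
    by_cases hz : SuppP f F y z
    swap
    · haveI : Subsingleton (((Scheme.Modules.pullback (f.fiberι y)).obj F).presheaf.stalk z) :=
        not_nontrivial_iff_subsingleton.1 hz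
      exact Subsingleton.elim _ _
    obtain ⟨z', hsp, hz'⟩ := h z hz
    obtain ⟨P, rfl⟩ : z' ∈ Set.range ((f.fiber y).fromSpecStalk z) := by
      rw [Scheme.range_fromSpecStalk]; exact hsp
    haveI := not_nontrivial_iff_subsingleton.1 hz'
    let _ := Module.compHom (((Scheme.Modules.pullback (f.fiberι y)).obj F).presheaf.stalk
        ((f.fiber y).fromSpecStalk z P))
      ((f.fiber y).presheaf.stalkSpecializes (CycLim28.fromSpecStalk_specializes z P)).hom
    obtain ⟨ρ, -, hρ⟩ := CycLib28.isLocalizedModule_stalkSpecializes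
      (InjFibre.isQCoh_pullback (f.fiberι y) F) z P
    refine eq_top_iff.2 fun m _ => ?_
    obtain ⟨s, hs⟩ := (IsLocalizedModule.eq_zero_iff P.asIdeal.primeCompl ρ).1
      (Subsingleton.elim (ρ m) 0)
    exact ⟨⟨s, mem_nonZeroDivisors_of_ne_zero fun h0 => s.2 (h0 ▸ P.asIdeal.zero_mem)⟩, hs⟩

theorem exists_minP_specializes (hF : CohB1.IsFP F) (y : Y) (z : f.fiber y) (hz : SuppP f F y z) :
    ∃ m, m ⤳ z ∧ MinP f F y m := by
  have hS := isClosed_suppP f F hF y
  obtain ⟨w, hw, hC⟩ := (mem_irreducibleComponents_iff hS).1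
    (irreducibleComponent_mem_irreducibleComponents (⟨z, hz⟩ : {z : ↥(f.fiber y) | SuppP f F y z}))
  refine ⟨w, (subtype_specializes_iff _ _).1 (specializes_iff_mem_closure.2
    (hC ▸ mem_irreducibleComponent : (⟨z, hz⟩ : {z : ↥(f.fiber y) | SuppP f F y z}) ∈ closure {w})), w.2,
    fun z' hz' hs => congrArg Subtype.val (hw ⟨z', hs⟩
      ((subtype_specializes_iff _ _).2 (specializes_iff_mem_closure.2 hz')))⟩

omit [QuasiCompact f] in
theorem torsion_eq_bot_iff (hF : CohB1.IsFP F) (y : Y)
    [hd : ∀ z : f.fiber y, IsDomain ((f.fiber y).presheaf.stalk z)] :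
    (∀ z : f.fiber y, Submodule.torsion ((f.fiber y).presheaf.stalk z)
      (((Scheme.Modules.pullback (f.fiberι y)).obj F).presheaf.stalk z) = ⊥) ↔
      ∀ z ∈ AssSch.Ass ((Scheme.Modules.pullback (f.fiberι y)).obj F), ∀ w, w ⤳ z → w = z := by
  have := isQCoh_of_isFP F hF
  constructor
  · intro h z hz w hw
    haveI := isNoetherianRing_fiber_stalk f y z
    obtain ⟨-, m, hm⟩ := isAssociatedPrime_iff.1 hz
    have hbot : IsLocalRing.maximalIdeal ((f.fiber y).presheaf.stalk z) = ⊥ := by
      refine (Submodule.eq_bot_iff _).2 fun r hr => by_contra fun hr0 => ?_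
      have hr' : r ∈ Submodule.colon ⊥ {m} := hm ▸ hr
      rw [Submodule.mem_colon_singleton, Submodule.mem_bot] at hr'
      have hm0 : m = 0 := (Submodule.eq_bot_iff _).1 (h z) m ⟨⟨r, mem_nonZeroDivisors_of_ne_zero hr0⟩, hr'⟩
      refine (IsLocalRing.maximalIdeal.isMaximal _).ne_top (hm.trans ?_)
      rw [hm0, eq_top_iff]
      exact fun t _ => Submodule.mem_colon_singleton.2 (by rw [smul_zero]; exact zero_mem _)
    obtain ⟨P, rfl⟩ : w ∈ Set.range ((f.fiber y).fromSpecStalk z) := by
      rw [Scheme.range_fromSpecStalk]; exact hw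
    have hP : P = IsLocalRing.closedPoint _ := PrimeSpectrum.ext
      (le_antisymm (IsLocalRing.le_maximalIdeal P.2.ne_top) (hbot.trans_le bot_le))
    rw [hP]; exact Scheme.fromSpecStalk_closedPoint
  · intro h x
    haveI := isNoetherianRing_fiber_stalk f y x
    refine (Submodule.eq_bot_iff _).2 fun m ⟨r, hr⟩ => by_contra fun hm => ?_
    obtain ⟨P, hP, hle⟩ := exists_le_isAssociatedPrime_of_isNoetherianRing ((f.fiber y).presheaf.stalk x) m hm
    have hrP : (r : (f.fiber y).presheaf.stalk x) ∈ P :=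
      hle (Submodule.mem_colon_singleton.2 ((Submodule.mem_bot _).2 hr))
    let Q : PrimeSpectrum ((f.fiber y).presheaf.stalk x) := ⟨P, hP.1⟩
    haveI : Q.asIdeal.IsPrime := Q.2
    obtain ⟨ρ, -, hρ⟩ := CycLib28.isLocalizedModule_stalkSpecializes
      (InjFibre.isQCoh_pullback (f.fiberι y) F) x Q
    set w := (f.fiber y).fromSpecStalk x Q
    let _ := ((f.fiber y).presheaf.stalkSpecializes (CycLim28.fromSpecStalk_specializes x Q)).hom.toAlgebra
    let _ := Module.compHom (((Scheme.Modules.pullback (f.fiberι y)).obj F).presheaf.stalk w)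
      ((f.fiber y).presheaf.stalkSpecializes (CycLim28.fromSpecStalk_specializes x Q)).hom
    haveI : IsScalarTower ((f.fiber y).presheaf.stalk x) ((f.fiber y).presheaf.stalk w)
      (((Scheme.Modules.pullback (f.fiberι y)).obj F).presheaf.stalk w) :=
      IsScalarTower.of_algebraMap_smul fun _ _ => rfl
    haveI := CycLib28.isLocalization_fromSpecStalk x Q
    have hcomap : (IsLocalRing.maximalIdeal ((f.fiber y).presheaf.stalk w)).comap
        (algebraMap ((f.fiber y).presheaf.stalk x) ((f.fiber y).presheaf.stalk w)) = P :=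
      (congrArg PrimeSpectrum.asIdeal (CycLib28.eq_comap_closedPoint x Q)).symm
    have hw : w ∈ AssSch.Ass ((Scheme.Modules.pullback (f.fiberι y)).obj F) :=
      Module.associatedPrimes.mem_associatedPrimes_of_comap_mem_associatedPrimes_of_isLocalizedModule
        Q.asIdeal.primeCompl ρ _ (by rw [hcomap]; exact hP)
    let Q₀ : PrimeSpectrum ((f.fiber y).presheaf.stalk x) := ⟨⊥, Ideal.isPrime_bot⟩
    have hsp : (f.fiber y).fromSpecStalk x Q₀ ⤳ w :=
      ((PrimeSpectrum.le_iff_specializes Q₀ Q).1 bot_le).map ((f.fiber y).fromSpecStalk x).continuous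
    have := congrArg PrimeSpectrum.asIdeal (CycLim28.fromSpecStalk_injective x (h w hw _ hsp))
    exact nonZeroDivisors.ne_zero r.2 (this.ge hrP)

theorem forall_ass_maximal_iff (hF : CohB1.IsFP F) (y : Y) :
    (∀ z ∈ AssSch.Ass ((Scheme.Modules.pullback (f.fiberι y)).obj F), ∀ w, w ⤳ z → w = z) ↔
      (∀ z, NoEmbP f F y z) ∧ ∀ z, SuppP f F y z → ∃ z', z' ⤳ z ∧ InteriorP f F y z' := by
  constructor
  · intro h
    refine ⟨fun _ z hz _ z' _ hcl => h z hz z' (specializes_iff_mem_closure.2 hcl), fun z hz => ?_⟩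
    obtain ⟨m, hmz, hm⟩ := exists_minP_specializes f F hF y z hz
    refine ⟨m, hmz, hm.1, fun ⟨z', hz', hs⟩ => hs ?_⟩
    rw [h m ((exists_chart_facts f F hF y m).1 hm) z' hz']
    exact hm.1
  · rintro ⟨h1, h2⟩ z hz w hw
    have hm := (exists_chart_facts f F hF y z).2 (h1 z) hz
    obtain ⟨z', hz', hi⟩ := h2 z hm.1
    obtain rfl := hm.2 z' hz'.mem_closure hi.1
    by_contra hne
    exact hi.2 ⟨w, hw, fun hs => hne (hm.2 w hw.mem_closure hs)⟩

theorem isLocallyConstructible_setOf_fibre_torsion (hF : CohB1.IsFP F)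
    (hint : ∀ (y : Y) (z : ↥(f.fiber y)), IsDomain ((f.fiber y).presheaf.stalk z)) :
    IsLocallyConstructible {y : Y | ∀ z : ↥(f.fiber y),
      Submodule.torsion ((f.fiber y).presheaf.stalk z)
        (((Scheme.Modules.pullback (f.fiberι y)).obj F).presheaf.stalk z) = ⊤} := by
  simp only [fun y => torsion_eq_top_iff f F hF y (hd := hint y)]
  exact isLocallyConstructible_setOf_nowhereDense f F hF

theorem isLocallyConstructible_setOf_fibre_torsionFree (hF : CohB1.IsFP F)
    (hint : ∀ (y : Y) (z : ↥(f.fiber y)), IsDomain ((f.fiber y).presheaf.stalk z)) :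
    IsLocallyConstructible {y : Y | ∀ z : ↥(f.fiber y),
      Submodule.torsion ((f.fiber y).presheaf.stalk z)
        (((Scheme.Modules.pullback (f.fiberι y)).obj F).presheaf.stalk z) = ⊥} := by
  simp only [fun y => torsion_eq_bot_iff f F hF y (hd := hint y),
    fun y => forall_ass_maximal_iff f F hF y]
  exact (isLocallyConstructible_forall f _ (isLocallyConstructible_loci f F hF ∅).1).inter
    (isLocallyConstructible_setOf_components f F hF)

end Torsion

end Groth.Agent.H8Coh.FibreAss
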