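import Groth.Agent.H8Coh.ComponentDims
import Groth.Agent.AssSch12.Uniq
import Groth.Agent.Desc19b.ModStFibGrpd

/-!
# Associated points of nearby fibres (EGA IV 9.8.3)
-/

set_option autoImplicit false
set_option maxHeartbeats 1600000
set_option backward.isDefEq.respectTransparency.types false
set_option linter.style.haveILetI false

universe u

open CategoryTheory AlgebraicGeometry Topology TopologicalSpace Function
open Groth.Agent.EGA43 Groth.Agent.EGA43.FibDepth

namespace Groth.Agent.H8Coh.FibreAssSpread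

open ComponentDims

/-- A constructible set containing the generic point is a neighbourhood of it. -/
theorem exists_open_subset {S : Scheme.{u}} [IrreducibleSpace S] {E : Set S}
    (hE : IsLocallyConstructible E) (hη : genericPoint S ∈ E) :
    ∃ U : S.Opens, genericPoint S ∈ U ∧ (U : Set S) ⊆ E := by
  obtain ⟨V, hV, hηV, -⟩ := exists_isAffineOpen_mem_and_subset (x := genericPoint S) (U := ⊤) trivial
  have hv : hV.fromSpec (hV.primeIdealOf ⟨_, hηV⟩) = genericPoint S := hV.fromSpec_primeIdealOf ⟨_, hηV⟩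
  let E' : Set (PrimeSpectrum Γ(S, V)) := hV.fromSpec ⁻¹' E
  have hint := mem_interior_of_isConstructible (Cons.isConstructible_preimage_fromSpec hE hV)
    (p := hV.primeIdealOf ⟨_, hηV⟩) fun p' hp' => by
      have h1 : hV.fromSpec p' ⤳ genericPoint S :=
        hv ▸ ((PrimeSpectrum.le_iff_specializes _ _).1 hp').map hV.fromSpec.continuous
      show hV.fromSpec p' ∈ E
      rw [(h1.antisymm ((genericPoint_spec S).specializes trivial)).eq]
      exact hη
  refine ⟨hV.fromSpec ''ᵁ ⟨interior E', isOpen_interior⟩, ⟨_, hint, hv⟩, ?_⟩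
  rintro _ ⟨p, hp, rfl⟩
  exact interior_subset (s := E') hp

variable {X S : Scheme.{u}} (f : X ⟶ S)

/-- The points of the fibre in `Z` with no other point of `Z` generising them. -/
def maxPts (Z : Set X) (s : S) : Set ↥(f.fiber s) :=
  {z | z ∈ ((f.fiberι s).base ⁻¹' Z) ∧ ∀ z' ∈ ((f.fiberι s).base ⁻¹' Z), z' ⤳ z → z' = z}

theorem dim_closure [LocallyOfFiniteType f] (s : S) (z : f.fiber s) :
    topologicalKrullDim ↥(closure ({z} : Set ↥(f.fiber s))) = (dimPt f s z : WithBot ℕ∞) :=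
  have : LocallyOfFiniteType (f.fiberToSpecResidueField s) :=
    inferInstanceAs (LocallyOfFiniteType (Limits.pullback.snd f (S.fromSpecResidueField s)))
  DimLib.topologicalKrullDim_eq_ptDim_of_isGenericPoint (k := S.residueField s)
    (f.fiberToSpecResidueField s) (isGenericPoint_closure (x := z))

theorem eq_of_dimPt_le [LocallyOfFiniteType f] {s : S} {w z : f.fiber s} (h : w ⤳ z)
    (h' : dimPt f s w ≤ dimPt f s z) : w = z :=
  have : LocallyOfFiniteType (f.fiberToSpecResidueField s) :=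
    inferInstanceAs (LocallyOfFiniteType (Limits.pullback.snd f (S.fromSpecResidueField s)))
  DimLib.eq_of_specializes_of_ptDim_le _ h h'

variable (F : X.Modules)

/-- The associated points of a fibre. -/
abbrev assPts (s : S) : Set ↥(f.fiber s) := AssSch.Ass ((Scheme.Modules.pullback (f.fiberι s)).obj F)

theorem exists_ass_dim_iff [LocallyOfFiniteType f] (n : ℕ) (s : S) (z : f.fiber s) :
    ¬ AssDimP f F {n}ᶜ s z ↔ ∃ a ∈ assPts f F s, a ⤳ z ∧ dimPt f s a = n := by
  simp only [AssDimP, not_forall, not_exists, exists_prop, not_and, dim_closure]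
  constructor
  · rintro ⟨a, ha, haz, h⟩
    refine ⟨a, ha, specializes_iff_mem_closure.2 haz, ?_⟩
    by_contra hne
    exact h (dimPt f s a) hne rfl
  · rintro ⟨a, ha, haz, rfl⟩
    exact ⟨a, ha, haz.mem_closure, fun m hm he => hm (Nat.cast_injective he).symm⟩

variable [IsIntegral S] [IsNoetherian S] [LocallyOfFiniteType f] [QuasiCompact f]

/-- The associated points of the fibres near the generic one. -/
theorem exists_nhd (hF : CohB1.IsFP F) :
    ∃ U : S.Opens, genericPoint S ∈ U ∧ ∀ s ∈ U,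
      (assPts f F s = ⋃ x ∈ assPts f F (genericPoint S),
          maxPts f (closure {(f.fiberι (genericPoint S)).base x}) s) ∧
      (∀ x ∈ assPts f F (genericPoint S), ∀ x' ∈ assPts f F (genericPoint S), x ≠ x' →
        Disjoint (maxPts f (closure {(f.fiberι (genericPoint S)).base x}) s)
          (maxPts f (closure {(f.fiberι (genericPoint S)).base x'}) s)) ∧
      (∀ x ∈ assPts f F (genericPoint S),
        ∀ z ∈ maxPts f (closure {(f.fiberι (genericPoint S)).base x}) s,
          ((∀ y ∈ assPts f F s, y ⤳ z → y = z) ↔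
            (∀ y ∈ assPts f F (genericPoint S), y ⤳ x → y = x))) := by
  classical
  have : IsLocallyNoetherian X := LocallyOfFiniteType.isLocallyNoetherian f
  have : CompactSpace X := QuasiCompact.compactSpace_of_compactSpace f
  have : IsNoetherian X := {}
  have : LocallyOfFinitePresentation f := inferInstance
  let η := genericPoint S
  let ι := f.fiberι η
  have hflt : LocallyOfFiniteType (f.fiberToSpecResidueField η) :=
    inferInstanceAs (LocallyOfFiniteType (Limits.pullback.snd f (S.fromSpecResidueField η)))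
  have : QuasiCompact (f.fiberToSpecResidueField η) :=
    inferInstanceAs (QuasiCompact (Limits.pullback.snd f (S.fromSpecResidueField η)))
  have : IsLocallyNoetherian (f.fiber η) :=
    LocallyOfFiniteType.isLocallyNoetherian (f.fiberToSpecResidueField η)
  have : CompactSpace (f.fiber η) :=
    QuasiCompact.compactSpace_of_compactSpace (f.fiberToSpecResidueField η)
  have hFη := Desc19b.ModStFib.isFP_pullback ι F hF
  have hA : (assPts f F η).Finite := AssSch12.finite_ass (X := f.fiber η) _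
    ⟨EGA43.FibDepth.isQCoh_of_isFP _ hFη, haveI := hFη; inferInstance⟩
  let n : f.fiber η → ℕ := dimPt f η
  let Z : f.fiber η → Set X := fun x => closure {ι.base x}
  have hZc : ∀ x, IsLocallyConstructible (Z x) := fun x =>
    ((IsRetrocompact.isConstructible isClosed_closure.isOpen_compl
      (fun U _ _ => NoetherianSpace.isCompact _)).of_compl).isLocallyConstructible
  let Φ : Finset ℕ := hA.toFinset.image n
  let T : ℕ → Set X := fun m => ⋃ x ∈ hA.toFinset.filter (fun x => n x = m), Z x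
  -- the dimensions of the traces
  let dims : f.fiber η → S → Set (WithBot ℕ∞) := fun x s =>
    (fun Q : Set ↥(Z x ∩ ⇑f ⁻¹' {s}) => topologicalKrullDim ↥Q) ''
      irreducibleComponents ↥(Z x ∩ ⇑f ⁻¹' {s})
  have hlc : ∀ x (s : S), IsLocallyClosed {z : f.fiber s | f.fiberι s z ∈ Z x} := fun x s =>
    (isClosed_closure.preimage (f.fiberι s).continuous).isLocallyClosed
  have hsp : ∀ (x z : f.fiber η), ι z ∈ Z x ↔ x ⤳ z := fun x z =>
    ⟨fun h => ι.isEmbedding.isInducing.specializes_iff.1 (specializes_iff_mem_closure.2 h),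
      fun h => (h.map ι.continuous).mem_closure⟩
  have hηmax : ∀ x z : f.fiber η, (ι z ∈ Z x ∧ ∀ w, ι w ∈ Z x → w ⤳ z → z = w) ↔ z = x := fun x z => by
    constructor
    · rintro ⟨h1, h2⟩
      exact h2 x ((hsp x x).2 specializes_rfl) ((hsp x z).1 h1)
    · rintro rfl
      exact ⟨(hsp z z).2 specializes_rfl, fun w hw hwz => (((hsp z w).1 hw).antisymm hwz).eq⟩
  let E₁ : Set S := ⋂ x ∈ hA.toFinset, {s | dims x s = dims x η}
  let E₂ : Set S := {s | ∀ z, AssDimP f F (Φ : Set ℕ) s z}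
  let E₃ : Set S := ⋂ m ∈ Φ, {s | ∀ z, ¬ AssDimP f F {m}ᶜ s z ↔ f.fiberι s z ∈ T m}
  let E₄ : Set S := ⋂ q ∈ (hA.toFinset ×ˢ hA.toFinset).filter (fun q => ¬ q.2 ⤳ q.1),
    {s | ∀ z, ¬ GeP f (Z q.1 ∩ Z q.2) (n q.1) s z}
  have hloc := fun Φ' => FibreAss.isLocallyConstructible_loci f F hF Φ'
  have hE : IsLocallyConstructible (E₁ ∩ E₂ ∩ E₃ ∩ E₄) := by
    refine (((FibreAss.isLocallyConstructible_biInter _ fun x _ =>
      isLocallyConstructible_setOf_dims_eq f (Z x) (hZc x) (hlc x) (dims x η)).inter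
      (FibreAss.isLocallyConstructible_forall f _ (hloc (Φ : Set ℕ)).2.1)).inter
      (FibreAss.isLocallyConstructible_biInter _ fun m _ => FibreAss.isLocallyConstructible_forall f
        (fun s z => ¬ AssDimP f F {m}ᶜ s z ↔ f.fiberι s z ∈ T m) ?_)).inter
      (FibreAss.isLocallyConstructible_biInter _ fun q _ => FibreAss.isLocallyConstructible_forall f
        (fun s z => ¬ GeP f (Z q.1 ∩ Z q.2) (n q.1) s z)
        (Cons.isLocallyConstructible_compl (isLocallyConstructible_geP f _ ((hZc q.1).inter (hZc q.2)) _)))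
    have hT : IsLocallyConstructible (T m) := by
      have h := FibreAss.isLocallyConstructible_biInter (hA.toFinset.filter (fun x => n x = m))
        (fun x _ => Cons.isLocallyConstructible_compl (hZc x))
      have h' := Cons.isLocallyConstructible_compl h
      simpa [T, Set.compl_iInter] using h'
    have hAc := Cons.isLocallyConstructible_compl (hloc {m}ᶜ).2.1
    convert (hAc.inter hT).union
      ((Cons.isLocallyConstructible_compl hAc).inter (Cons.isLocallyConstructible_compl hT)) using 1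
    ext x
    simp only [Set.mem_ofPred_eq, f.fiberι_asFiber, Set.mem_union, Set.mem_inter_iff, Set.mem_compl_iff]
    tauto
  have hη : η ∈ E₁ ∩ E₂ ∩ E₃ ∩ E₄ := by
    refine ⟨⟨⟨Set.mem_iInter₂.2 fun x _ => rfl, fun z a ha _ => ?_⟩, Set.mem_iInter₂.2 fun m _ z => ?_⟩,
      Set.mem_iInter₂.2 fun q hq z => ?_⟩
    · exact ⟨n a, Finset.mem_image_of_mem n (hA.mem_toFinset.2 ha), dim_closure f η a⟩
    · rw [exists_ass_dim_iff]
      simp only [T, Set.mem_iUnion, Finset.mem_filter, Set.Finite.mem_toFinset, exists_prop]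
      exact ⟨fun ⟨a, ha, haz, hd⟩ => ⟨a, ⟨ha, hd⟩, (hsp a z).2 haz⟩,
        fun ⟨a, ⟨ha, hd⟩, haz⟩ => ⟨a, ha, (hsp a z).1 haz, hd⟩⟩
    · obtain ⟨hq, hne⟩ := Finset.mem_filter.1 hq
      rintro ⟨w, -, ⟨hw1, hw2⟩, hd⟩
      obtain rfl := eq_of_dimPt_le f ((hsp q.1 w).1 hw1) hd
      exact hne ((hsp q.2 q.1).1 hw2)
  obtain ⟨U, hηU, hU⟩ := exists_open_subset hE hη
  refine ⟨U, hηU, fun s hs => ?_⟩
  obtain ⟨⟨⟨h1, h2⟩, h3⟩, h4⟩ := hU hs
  simp only [E₁, Set.mem_iInter] at h1
  simp only [E₃, Set.mem_iInter] at h3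
  simp only [E₄, Set.mem_iInter] at h4
  have hdim : ∀ x ∈ assPts f F η, ∀ z ∈ maxPts f (Z x) s, dimPt f s z = n x := fun x hx z hz => by
    have hmem := (mem_dims_iff f (Z x) s (hlc x s) _).2 ⟨z, hz.1, fun w hw hwz => (hz.2 w hw hwz).symm, rfl⟩
    have hmem' : _ ∈ dims x η := (h1 x (hA.mem_toFinset.2 hx)).le hmem
    obtain ⟨z', hz', hmax, hd⟩ := (mem_dims_iff f (Z x) η (hlc x η) _).1 hmem'
    obtain rfl := (hηmax x z').1 ⟨hz', hmax⟩
    exact (Nat.cast_injective hd).symm
  have hex : ∀ x (z : f.fiber s), f.fiberι s z ∈ Z x → ∃ y ∈ maxPts f (Z x) s, y ⤳ z := fun x z hz => by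
    obtain ⟨y, hy, hyZ, hmax⟩ := exists_maxP f (Z x) s z hz
    exact ⟨y, ⟨hyZ, fun w hw hwy => (hmax w hw hwy).symm⟩, hy⟩
  have hT : ∀ m (z : f.fiber s), f.fiberι s z ∈ T m ↔
      ∃ x ∈ assPts f F η, n x = m ∧ f.fiberι s z ∈ Z x := fun m z => by
    simp only [T, Set.mem_iUnion, Finset.mem_filter, Set.Finite.mem_toFinset, exists_prop, and_assoc]
  have hsub : ∀ x ∈ assPts f F η, maxPts f (Z x) s ⊆ assPts f F s := fun x hx z hz => by
    obtain ⟨a, ha, haz, hd⟩ := (exists_ass_dim_iff f F (n x) s z).1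
      ((h3 (n x) (Finset.mem_image_of_mem n (hA.mem_toFinset.2 hx)) z).2 ((hT _ _).2 ⟨x, hx, rfl, hz.1⟩))
    obtain rfl := eq_of_dimPt_le f haz (by rw [hd, hdim x hx z hz])
    exact ha
  have hsup : ∀ a ∈ assPts f F s, ∃ x ∈ assPts f F η, a ∈ maxPts f (Z x) s := fun a ha => by
    obtain ⟨m, hm, hmd⟩ := h2 a a ha (subset_closure rfl)
    rw [dim_closure] at hmd
    obtain ⟨x, hx, hxm, haZ⟩ := (hT m a).1 ((h3 m (Finset.mem_coe.1 hm) a).1
      ((exists_ass_dim_iff f F m s a).2 ⟨a, ha, specializes_rfl, Nat.cast_injective hmd⟩))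
    obtain ⟨y, hy, hya⟩ := hex x a haZ
    obtain rfl := eq_of_dimPt_le f hya (by rw [hdim x hx y hy, hxm, Nat.cast_injective hmd])
    exact ⟨x, hx, hy⟩
  have hK : ∀ x ∈ assPts f F η, ∀ x' ∈ assPts f F η, ¬ x' ⤳ x →
      ∀ z ∈ maxPts f (Z x) s, f.fiberι s z ∉ Z x' := fun x hx x' hx' hne z hz hz' => by
    exact h4 (x, x') (Finset.mem_filter.2 ⟨Finset.mem_product.2 ⟨hA.mem_toFinset.2 hx,
      hA.mem_toFinset.2 hx'⟩, hne⟩) z ⟨z, specializes_rfl, ⟨hz.1, hz'⟩, (hdim x hx z hz).ge⟩
  have hdisj : ∀ x ∈ assPts f F η, ∀ x' ∈ assPts f F η, x ≠ x' →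
      Disjoint (maxPts f (Z x) s) (maxPts f (Z x') s) := fun x hx x' hx' hne => by
    refine Set.disjoint_left.2 fun z hz hz' => ?_
    by_cases h : x' ⤳ x
    · exact hK x' hx' x hx (fun h' => hne (h'.antisymm h).eq) z hz' hz.1
    · exact hK x hx x' hx' h z hz hz'.1
  refine ⟨?_, hdisj, fun x hx z hz => ⟨fun hmax y hy hyx => ?_, fun hmax y hy hyz => ?_⟩⟩
  · ext a
    simp only [Set.mem_iUnion, exists_prop]
    exact ⟨hsup a, fun ⟨x, hx, h⟩ => hsub x hx h⟩
  · by_contra hne
    have hzy : f.fiberι s z ∈ Z y :=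
      ((hyx.map ι.continuous).trans (specializes_iff_mem_closure.2 hz.1)).mem_closure
    obtain ⟨w, hw, hwz⟩ := hex y z hzy
    obtain rfl := hmax w (hsub y hy hw) hwz
    exact Set.disjoint_left.1 (hdisj y hy x hx hne) hw hz
  · obtain ⟨x', hx', hyx'⟩ := hsup y hy
    have hzZ : f.fiberι s z ∈ Z x' :=
      ((specializes_iff_mem_closure.2 hyx'.1).trans (hyz.map (f.fiberι s).continuous)).mem_closure
    have hsx : x' ⤳ x := by
      by_contra h
      exact hK x hx x' hx' h z hz hzZ
    obtain rfl := hmax x' hx' hsx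
    exact hz.2 y hyx'.1 hyz

end Groth.Agent.H8Coh.FibreAssSpread
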