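import Groth.Agent.EGA43.GenFree
import Groth.Agent.H8Top.Noetherian
import Mathlib.RingTheory.Spectrum.Prime.ConstructibleSet
import Mathlib.RingTheory.Spectrum.Prime.Noetherian
import Mathlib.RingTheory.Flat.FaithfullyFlat.Basic
import Mathlib.RingTheory.TensorProduct.MvPolynomial
import Mathlib.Algebra.Module.FinitePresentation
import Mathlib.RingTheory.Adjoin.FG
import Mathlib.RingTheory.LocalRing.ResidueField.Ideal
import Mathlib.LinearAlgebra.Matrix.ToLin

/-!
# Exactness on fibres of a complex of finitely presented modules is constructible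
-/

set_option autoImplicit false
set_option linter.style.haveILetI false

universe u

open TensorProduct Function MvPolynomial

namespace Groth.Agent.H8Coh.FibreExact

section General

variable {R : Type u} [CommRing R] (L : Type u) [CommRing L] [Algebra R L]

/-- An injective map with generically free cokernel stays injective on the good locus. -/
theorem injective_baseChange_of_free (f : R) (hf : IsUnit (algebraMap R L f))
    {J H Q : Type u} [AddCommGroup J] [Module R J] [AddCommGroup H] [Module R H] [AddCommGroup Q] [Module R Q]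
    (φ : J →ₗ[R] H) (q : H →ₗ[R] Q) (hφ : Injective φ) (hex : Exact φ q) (hq : Surjective q)
    [Module.Free (Localization.Away f) (Localization.Away f ⊗[R] Q)] :
    Injective (φ.baseChange L) := by
  let A := Localization.Away f
  let φA := φ.baseChange A
  let qA := q.baseChange A
  have hφA : Injective φA := Module.Flat.lTensor_preserves_injective_linearMap (M := A) φ hφ
  have hexA : Exact φA qA := lTensor_exact A hex hq
  have hqA : Surjective qA := LinearMap.lTensor_surjective A hq
  obtain ⟨s, hs⟩ := Module.projective_lifting_property qA LinearMap.id hqA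
  have hmem : ∀ z, (LinearMap.id - s.comp qA : _ →ₗ[A] A ⊗[R] H) z ∈ LinearMap.range φA := fun z => by
    refine (hexA _).1 ?_
    rw [LinearMap.sub_apply, map_sub, LinearMap.id_apply, LinearMap.comp_apply,
      show qA (s (qA z)) = qA z from LinearMap.congr_fun hs _, sub_self]
  let r : A ⊗[R] H →ₗ[A] A ⊗[R] J :=
    (LinearEquiv.ofInjective φA hφA).symm.toLinearMap.comp ((LinearMap.id - s.comp qA).codRestrict _ hmem)
  have hr : r.comp φA = LinearMap.id := by
    refine LinearMap.ext fun x => ?_
    apply (LinearEquiv.ofInjective φA hφA).injective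
    apply Subtype.ext
    rw [LinearMap.comp_apply, LinearMap.comp_apply, LinearEquiv.coe_coe, LinearEquiv.apply_symm_apply]
    show φA x - s (qA (φA x)) = φA x
    rw [hexA.apply_apply_eq_zero, map_zero, sub_zero]
  let g : A →+* L := IsLocalization.Away.lift f hf
  letI := g.toAlgebra
  haveI : IsScalarTower R A L := .of_algebraMap_eq fun a => (IsLocalization.Away.lift_eq f hf a).symm
  let eJ := AlgebraTensorModule.cancelBaseChange R A L L J
  let eH := AlgebraTensorModule.cancelBaseChange R A L L H
  have hnat : ∀ z, φ.baseChange L (eJ z) = eH (φA.baseChange L z) := fun z => by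
    induction z using TensorProduct.induction_on with
    | zero => simp
    | add a b ha hb => simp only [map_add, ha, hb]
    | tmul l y =>
      induction y using TensorProduct.induction_on with
      | zero => simp
      | add a b ha hb => simp only [tmul_add, map_add, ha, hb]
      | tmul a j => simp [eJ, eH, φA]
  have hinj : Injective (φA.baseChange L) := by
    have : (r.baseChange L).comp (φA.baseChange L) = LinearMap.id := by
      rw [← LinearMap.baseChange_comp, hr, LinearMap.baseChange_id]
    exact LeftInverse.injective (LinearMap.congr_fun this)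
  intro a b hab
  obtain ⟨a, rfl⟩ := eJ.surjective a
  obtain ⟨b, rfl⟩ := eJ.surjective b
  rw [hnat, hnat] at hab
  rw [hinj (eH.injective hab)]

/-- A module which is free after inverting `f` vanishes on all or none of the fields of the good locus. -/
theorem subsingleton_baseChange_iff (f : R) (hf : IsUnit (algebraMap R L f)) [Nontrivial L]
    (X : Type u) [AddCommGroup X] [Module R X]
    [Module.Free (Localization.Away f) (Localization.Away f ⊗[R] X)] :
    Subsingleton (L ⊗[R] X) ↔ Subsingleton (Localization.Away f ⊗[R] X) := by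
  let A := Localization.Away f
  let g : A →+* L := IsLocalization.Away.lift f hf
  letI := g.toAlgebra
  haveI : IsScalarTower R A L := .of_algebraMap_eq fun a => (IsLocalization.Away.lift_eq f hf a).symm
  let e := AlgebraTensorModule.cancelBaseChange R A L L X
  constructor
  · intro h
    let b := Module.Free.chooseBasis A (A ⊗[R] X)
    let bL := b.baseChange L
    by_contra hne
    rw [not_subsingleton_iff_nontrivial] at hne
    obtain ⟨i⟩ : Nonempty (Module.Free.ChooseBasisIndex A (A ⊗[R] X)) := b.index_nonempty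
    haveI : Subsingleton (L ⊗[A] (A ⊗[R] X)) := e.toEquiv.subsingleton
    exact bL.ne_zero i (Subsingleton.elim _ _)
  · intro h
    exact e.toEquiv.symm.subsingleton

/-- The criterion for exactness in the middle on the good locus. -/
theorem exact_baseChange_iff (f : R) (hf : IsUnit (algebraMap R L f))
    {F G H : Type u} [AddCommGroup F] [Module R F] [AddCommGroup G] [Module R G] [AddCommGroup H] [Module R H]
    (u : F →ₗ[R] G) (v : G →ₗ[R] H)
    (v'' : (G ⧸ LinearMap.range u) →ₗ[R] (H ⧸ LinearMap.range (v.comp u)))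
    (hv'' : ∀ x, v'' (Submodule.Quotient.mk x) = Submodule.Quotient.mk (v x))
    [Module.Free (Localization.Away f) (Localization.Away f ⊗[R] (H ⧸ LinearMap.range (v.comp u)))]
    [Module.Free (Localization.Away f) (Localization.Away f ⊗[R] ((G ⧸ LinearMap.range u) ⧸ LinearMap.ker v''))]
    [Module.Free (Localization.Away f)
      (Localization.Away f ⊗[R] ((H ⧸ LinearMap.range (v.comp u)) ⧸ LinearMap.range v''))] :
    Exact (u.baseChange L) (v.baseChange L) ↔
      Subsingleton (L ⊗[R] LinearMap.range (v.comp u)) ∧ Subsingleton (L ⊗[R] LinearMap.ker v'') := by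
  let w := v.comp u
  let J := LinearMap.range w
  let N := LinearMap.ker v''
  have hJ : Injective (J.subtype.baseChange L) :=
    injective_baseChange_of_free L f hf J.subtype J.mkQ Subtype.val_injective
      (LinearMap.exact_subtype_mkQ J) J.mkQ_surjective
  have hN : Injective (N.subtype.baseChange L) :=
    injective_baseChange_of_free L f hf N.subtype N.mkQ Subtype.val_injective
      (LinearMap.exact_subtype_mkQ N) N.mkQ_surjective
  let ι : (_ ⧸ N) →ₗ[R] (H ⧸ J) := N.liftQ v'' le_rfl
  have hι : Injective ι := LinearMap.ker_eq_bot.1 (Submodule.ker_liftQ_eq_bot _ _ _ le_rfl)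
  have hιr : Exact ι (LinearMap.range v'').mkQ := by
    rw [LinearMap.exact_iff, Submodule.ker_mkQ, Submodule.range_liftQ]
  have hιL : Injective (ι.baseChange L) :=
    injective_baseChange_of_free L f hf ι _ hι hιr (LinearMap.range v'').mkQ_surjective
  -- the kernel of `v''` on the fibre
  have hker : Exact (N.subtype.baseChange L) (v''.baseChange L) := by
    have hcomp : v''.baseChange L = (ι.baseChange L).comp (N.mkQ.baseChange L) := by
      rw [← LinearMap.baseChange_comp, Submodule.liftQ_mkQ]
    rw [hcomp]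
    exact (lTensor_exact L (LinearMap.exact_subtype_mkQ N) N.mkQ_surjective).comp_injective _ hιL (map_zero _)
  -- the cokernel of `u` and the quotient by `J` on the fibre
  have hC : Exact (u.baseChange L) ((LinearMap.range u).mkQ.baseChange L) :=
    lTensor_exact L (LinearMap.exact_map_mkQ_range u) (LinearMap.range u).mkQ_surjective
  have hJex : Exact (J.subtype.baseChange L) (J.mkQ.baseChange L) :=
    lTensor_exact L (LinearMap.exact_subtype_mkQ J) J.mkQ_surjective
  have hsq : ∀ z, v''.baseChange L ((LinearMap.range u).mkQ.baseChange L z) =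
      J.mkQ.baseChange L (v.baseChange L z) := fun z => by
    induction z using TensorProduct.induction_on with
    | zero => simp
    | add a b ha hb => simp only [map_add, ha, hb]
    | tmul l y => simp only [LinearMap.baseChange_tmul, Submodule.mkQ_apply, hv'']
  have hwJ : w.baseChange L = (J.subtype.baseChange L).comp (w.rangeRestrict.baseChange L) := by
    rw [← LinearMap.baseChange_comp]
    rfl
  have hwsurj : Surjective (w.rangeRestrict.baseChange L) :=
    LinearMap.lTensor_surjective L w.surjective_rangeRestrict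
  have hmkC : Surjective ((LinearMap.range u).mkQ.baseChange L) :=
    LinearMap.lTensor_surjective L (LinearMap.range u).mkQ_surjective
  constructor
  · intro h
    have h0 : Subsingleton (L ⊗[R] J) := by
      refine ⟨fun a b => hJ ?_⟩
      obtain ⟨a, rfl⟩ := hwsurj a
      obtain ⟨b, rfl⟩ := hwsurj b
      rw [← LinearMap.comp_apply, ← hwJ, LinearMap.baseChange_comp, LinearMap.comp_apply,
        h.apply_apply_eq_zero, ← LinearMap.comp_apply, ← hwJ, LinearMap.baseChange_comp, LinearMap.comp_apply,
        h.apply_apply_eq_zero]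
    refine ⟨h0, ⟨fun a b => hN ?_⟩⟩
    suffices ∀ a, N.subtype.baseChange L a = 0 by rw [this a, this b]
    intro a
    obtain ⟨z, hz⟩ := hmkC (N.subtype.baseChange L a)
    have h1 := hker.apply_apply_eq_zero a
    rw [← hz, hsq] at h1
    obtain ⟨j, hj⟩ := (hJex _).1 h1
    rw [Subsingleton.elim j 0, map_zero] at hj
    obtain ⟨y, rfl⟩ := (h z).1 hj.symm
    rw [← hz]
    exact hC.apply_apply_eq_zero y
  · rintro ⟨h0, h1⟩
    intro z
    constructor
    · intro hz
      have h2 := hsq z
      rw [hz, map_zero] at h2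
      obtain ⟨a, ha⟩ := (hker _).1 h2
      rw [Subsingleton.elim a 0, map_zero] at ha
      exact (hC z).1 ha.symm
    · rintro ⟨y, rfl⟩
      rw [← LinearMap.comp_apply, ← LinearMap.baseChange_comp, hwJ, LinearMap.comp_apply,
        Subsingleton.elim (w.rangeRestrict.baseChange L y) 0, map_zero]

end General

/-- Over a Noetherian domain exactness on the fibres is constant on a nonempty principal open. -/
theorem exists_forall_exact_iff {R P : Type u} [CommRing R] [IsDomain R] [IsNoetherianRing R] [CommRing P]
    [Algebra R P] [Algebra.FiniteType R P]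
    {F G H : Type u} [AddCommGroup F] [Module P F] [Module R F] [IsScalarTower R P F]
    [AddCommGroup G] [Module P G] [Module R G] [IsScalarTower R P G] [Module.Finite P G]
    [AddCommGroup H] [Module P H] [Module R H] [IsScalarTower R P H] [Module.Finite P H]
    (u : F →ₗ[P] G) (v : G →ₗ[P] H) :
    ∃ f : R, f ≠ 0 ∧ ∀ (L₁ L₂ : Type u) [Field L₁] [Field L₂] [Algebra R L₁] [Algebra R L₂],
      algebraMap R L₁ f ≠ 0 → algebraMap R L₂ f ≠ 0 →
      (Exact ((u.restrictScalars R).baseChange L₁) ((v.restrictScalars R).baseChange L₁) ↔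
        Exact ((u.restrictScalars R).baseChange L₂) ((v.restrictScalars R).baseChange L₂)) := by
  haveI : IsNoetherianRing P := Algebra.FiniteType.isNoetherianRing R P
  haveI : IsNoetherian P G := isNoetherian_of_isNoetherianRing_of_finite P G
  haveI : IsNoetherian P H := isNoetherian_of_isNoetherianRing_of_finite P H
  let uR := u.restrictScalars R
  let vR := v.restrictScalars R
  let J := LinearMap.range (v.comp u)
  let v'' : (G ⧸ LinearMap.range u) →ₗ[P] H ⧸ J :=
    (LinearMap.range u).mapQ J v (by rintro _ ⟨x, rfl⟩; exact ⟨x, rfl⟩)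
  let eG : (G ⧸ LinearMap.range uR) ≃ₗ[R] G ⧸ LinearMap.range u :=
    Submodule.quotEquivOfEq _ _ (LinearMap.range_restrictScalars (R := R) u) ≪≫ₗ
      Submodule.Quotient.restrictScalarsEquiv R _
  let eH : (H ⧸ LinearMap.range (vR.comp uR)) ≃ₗ[R] H ⧸ J :=
    Submodule.quotEquivOfEq _ _ (LinearMap.range_restrictScalars (R := R) (v.comp u)) ≪≫ₗ
      Submodule.Quotient.restrictScalarsEquiv R _
  let vR'' : (G ⧸ LinearMap.range uR) →ₗ[R] H ⧸ LinearMap.range (vR.comp uR) :=
    eH.symm.toLinearMap.comp ((v''.restrictScalars R).comp eG.toLinearMap)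
  have hvR'' : ∀ x, vR'' (Submodule.Quotient.mk x) = Submodule.Quotient.mk (vR x) := fun x => rfl
  have hker : (LinearMap.ker vR'').map (eG : _ →ₗ[R] _) = (LinearMap.ker v'').restrictScalars R := by
    ext c
    simp [vR'', Submodule.mem_map_equiv]
  have hran : (LinearMap.range vR'').map (eH : _ →ₗ[R] _) = (LinearMap.range v'').restrictScalars R := by
    ext c
    simp [vR'', Submodule.mem_map_equiv, LinearMap.mem_range]
    constructor
    · rintro ⟨y, hy⟩; exact ⟨eG y, hy⟩
    · rintro ⟨y, rfl⟩; exact ⟨eG.symm y, by simp⟩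
  have hJ' : LinearMap.range (vR.comp uR) = J.restrictScalars R := LinearMap.range_restrictScalars (R := R) (v.comp u)
  obtain ⟨f₁, h₁, i₁⟩ := EGA43.GenFree.gFree (R := R) (S := P) (H ⧸ J)
  obtain ⟨f₂, h₂, i₂⟩ := EGA43.GenFree.gFree (R := R) (S := P) ((G ⧸ LinearMap.range u) ⧸ LinearMap.ker v'')
  obtain ⟨f₃, h₃, i₃⟩ := EGA43.GenFree.gFree (R := R) (S := P) ((H ⧸ J) ⧸ LinearMap.range v'')
  obtain ⟨f₄, h₄, i₄⟩ := EGA43.GenFree.gFree (R := R) (S := P) J
  obtain ⟨f₅, h₅, i₅⟩ := EGA43.GenFree.gFree (R := R) (S := P) (LinearMap.ker v'')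
  let f := f₁ * f₂ * f₃ * f₄ * f₅
  have hfree : ∀ (g : R) (M M' : Type u) [AddCommGroup M] [Module R M] [AddCommGroup M'] [Module R M'],
      (M' ≃ₗ[R] M) → g ∣ f → Module.Free (Localization.Away g) (Localization.Away g ⊗[R] M) →
      Module.Free (Localization.Away f) (Localization.Away f ⊗[R] M') := by
    intro g M M' _ _ _ _ e ⟨c, hc⟩ h
    rw [hc]
    haveI := EGA43.GenFree.free_refine g c M h
    exact .of_equiv (AlgebraTensorModule.congr (.refl (Localization.Away (g * c)) _) e).symm
  haveI := hfree f₁ _ _ eH (Dvd.intro (f₂ * f₃ * f₄ * f₅) (by ring)) i₁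
  haveI := hfree f₂ _ _ (Submodule.Quotient.equiv _ _ eG hker ≪≫ₗ Submodule.Quotient.restrictScalarsEquiv R _)
    (Dvd.intro (f₁ * f₃ * f₄ * f₅) (by ring)) i₂
  haveI := hfree f₃ _ _ (Submodule.Quotient.equiv _ _ eH hran ≪≫ₗ Submodule.Quotient.restrictScalarsEquiv R _)
    (Dvd.intro (f₁ * f₂ * f₄ * f₅) (by ring)) i₃
  haveI := hfree f₄ _ _ (LinearEquiv.ofEq _ _ hJ' ≪≫ₗ (Submodule.restrictScalarsEquiv R P H J).restrictScalars R)
    (Dvd.intro (f₁ * f₂ * f₃ * f₅) (by ring)) i₄
  haveI := hfree f₅ _ _ (eG.submoduleMap _ ≪≫ₗ LinearEquiv.ofEq _ _ hker ≪≫ₗ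
      (Submodule.restrictScalarsEquiv R P _ (LinearMap.ker v'')).restrictScalars R)
    (Dvd.intro (f₁ * f₂ * f₃ * f₄) (by ring)) i₅
  refine ⟨f, by simp [f, h₁, h₂, h₃, h₄, h₅], fun L₁ L₂ _ _ _ _ hf₁ hf₂ => ?_⟩
  rw [exact_baseChange_iff L₁ f (isUnit_iff_ne_zero.2 hf₁) uR vR vR'' hvR'',
    exact_baseChange_iff L₂ f (isUnit_iff_ne_zero.2 hf₂) uR vR vR'' hvR'',
    subsingleton_baseChange_iff L₁ f (isUnit_iff_ne_zero.2 hf₁),
    subsingleton_baseChange_iff L₁ f (isUnit_iff_ne_zero.2 hf₁) (LinearMap.ker vR''),
    subsingleton_baseChange_iff L₂ f (isUnit_iff_ne_zero.2 hf₂),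
    subsingleton_baseChange_iff L₂ f (isUnit_iff_ne_zero.2 hf₂) (LinearMap.ker vR'')]

section Matrix

variable {n a g b h : ℕ}

/-- Exactness of the presented complex over a coefficient ring. -/
def Ex {k : Type u} [CommRing k] (U : Matrix (Fin g) (Fin a) (MvPolynomial (Fin n) k))
    (V : Matrix (Fin h) (Fin g) (MvPolynomial (Fin n) k)) (W : Matrix (Fin h) (Fin b) (MvPolynomial (Fin n) k)) :
    Prop :=
  Exact U.mulVecLin ((LinearMap.range W.mulVecLin).mkQ.comp V.mulVecLin)

variable {R : Type u} [CommRing R] (L : Type u) [CommRing L] [Algebra R L]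

/-- Base change of a free module over a polynomial ring. -/
noncomputable def eFree (m : ℕ) :
    L ⊗[R] (Fin m → MvPolynomial (Fin n) R) ≃ₗ[L] (Fin m → MvPolynomial (Fin n) L) :=
  TensorProduct.piRight R L L (fun _ : Fin m => MvPolynomial (Fin n) R) ≪≫ₗ
    LinearEquiv.piCongrRight fun _ => (algebraTensorAlgEquiv (σ := Fin n) R L).toLinearEquiv

theorem eFree_tmul (m : ℕ) (l : L) (x : Fin m → MvPolynomial (Fin n) R) (j : Fin m) :
    eFree (n := n) L m (l ⊗ₜ x) j = l • MvPolynomial.map (algebraMap R L) (x j) := by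
  show algebraTensorAlgEquiv (σ := Fin n) R L (l ⊗ₜ x j) = _
  rw [algebraTensorAlgEquiv_tmul]

theorem eFree_mulVec {m m' : ℕ} (U : Matrix (Fin m') (Fin m) (MvPolynomial (Fin n) R))
    (z : L ⊗[R] (Fin m → MvPolynomial (Fin n) R)) :
    eFree L m' ((U.mulVecLin.restrictScalars R).baseChange L z) =
      (U.map (MvPolynomial.map (algebraMap R L))).mulVecLin (eFree L m z) := by
  induction z using TensorProduct.induction_on with
  | zero => simp
  | add x y hx hy => simp only [map_add, hx, hy]
  | tmul l x =>
    funext i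
    rw [LinearMap.baseChange_tmul, eFree_tmul, LinearMap.restrictScalars_apply, Matrix.mulVecLin_apply,
      Matrix.mulVecLin_apply]
    simp only [Matrix.mulVec, dotProduct, map_sum, map_mul, Finset.smul_sum, Matrix.map_apply, eFree_tmul,
      mul_smul_comm]

/-- The base change of a presented complex. -/
theorem exact_iff_ex (U : Matrix (Fin g) (Fin a) (MvPolynomial (Fin n) R))
    (V : Matrix (Fin h) (Fin g) (MvPolynomial (Fin n) R)) (W : Matrix (Fin h) (Fin b) (MvPolynomial (Fin n) R)) :
    Exact ((U.mulVecLin.restrictScalars R).baseChange L)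
        ((((LinearMap.range W.mulVecLin).mkQ.comp V.mulVecLin).restrictScalars R).baseChange L) ↔
      Ex (U.map (MvPolynomial.map (algebraMap R L))) (V.map (MvPolynomial.map (algebraMap R L)))
        (W.map (MvPolynomial.map (algebraMap R L))) := by
  let mk := (LinearMap.range W.mulVecLin).mkQ.restrictScalars R
  have hW : Exact ((W.mulVecLin.restrictScalars R).baseChange L) (mk.baseChange L) :=
    lTensor_exact L (f := W.mulVecLin.restrictScalars R) (g := mk)
      (LinearMap.exact_map_mkQ_range W.mulVecLin) (LinearMap.range W.mulVecLin).mkQ_surjective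
  have hiff : ∀ z, ((((LinearMap.range W.mulVecLin).mkQ.comp V.mulVecLin).restrictScalars R).baseChange L) z = 0 ↔
      ((LinearMap.range (W.map (MvPolynomial.map (algebraMap R L))).mulVecLin).mkQ.comp
        (V.map (MvPolynomial.map (algebraMap R L))).mulVecLin) (eFree L g z) = 0 := fun z => by
    rw [LinearMap.restrictScalars_comp, LinearMap.baseChange_comp, LinearMap.comp_apply, hW _,
      LinearMap.comp_apply, Submodule.mkQ_apply, Submodule.Quotient.mk_eq_zero, LinearMap.mem_range,
      ← eFree_mulVec]
    constructor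
    · rintro ⟨y, hy⟩
      exact ⟨eFree L b y, by rw [← eFree_mulVec, hy]⟩
    · rintro ⟨y, hy⟩
      obtain ⟨y, rfl⟩ := (eFree (R := R) (n := n) L b).surjective y
      rw [← eFree_mulVec] at hy
      exact ⟨y, (eFree L h).injective hy⟩
  constructor
  · intro hx y
    obtain ⟨z, rfl⟩ := (eFree (R := R) (n := n) L g).surjective y
    rw [← hiff, hx z]
    constructor
    · rintro ⟨c, rfl⟩
      exact ⟨eFree L a c, (eFree_mulVec L U c).symm⟩
    · rintro ⟨c, hc⟩
      obtain ⟨c, rfl⟩ := (eFree (R := R) (n := n) L a).surjective c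
      rw [← eFree_mulVec] at hc
      exact ⟨c, (eFree L g).injective hc⟩
  · intro hx z
    rw [hiff, hx _]
    constructor
    · rintro ⟨c, hc⟩
      obtain ⟨c, rfl⟩ := (eFree (R := R) (n := n) L a).surjective c
      rw [← eFree_mulVec] at hc
      exact ⟨c, (eFree L g).injective hc⟩
    · rintro ⟨c, rfl⟩
      exact ⟨eFree L a c, (eFree_mulVec L U c).symm⟩

/-- The condition does not depend on the field containing the coefficients. -/
theorem ex_map_iff {k K : Type u} [Field k] [Field K] [Algebra k K]
    (U : Matrix (Fin g) (Fin a) (MvPolynomial (Fin n) k))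
    (V : Matrix (Fin h) (Fin g) (MvPolynomial (Fin n) k)) (W : Matrix (Fin h) (Fin b) (MvPolynomial (Fin n) k)) :
    Ex (U.map (MvPolynomial.map (algebraMap k K))) (V.map (MvPolynomial.map (algebraMap k K)))
      (W.map (MvPolynomial.map (algebraMap k K))) ↔ Ex U V W := by
  rw [← exact_iff_ex K U V W]
  exact Module.FaithfullyFlat.lTensor_exact_iff_exact k K _ _

theorem ex_map_map {k K K' : Type u} [CommRing k] [CommRing K] [CommRing K'] (φ : k →+* K) (ψ : K →+* K')
    {m m' : ℕ} (U : Matrix (Fin m') (Fin m) (MvPolynomial (Fin n) k)) :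
    (U.map (MvPolynomial.map φ)).map (MvPolynomial.map ψ) = U.map (MvPolynomial.map (ψ.comp φ)) := by
  ext i j : 2
  simp [MvPolynomial.map_map]

/-- Constructibility over a Noetherian ring. -/
theorem isConstructible_ex_of_noetherian [IsNoetherianRing R] (U : Matrix (Fin g) (Fin a) (MvPolynomial (Fin n) R))
    (V : Matrix (Fin h) (Fin g) (MvPolynomial (Fin n) R)) (W : Matrix (Fin h) (Fin b) (MvPolynomial (Fin n) R)) :
    Topology.IsConstructible {p : PrimeSpectrum R | Ex (U.map (MvPolynomial.map (algebraMap R p.asIdeal.ResidueField)))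
      (V.map (MvPolynomial.map (algebraMap R p.asIdeal.ResidueField)))
      (W.map (MvPolynomial.map (algebraMap R p.asIdeal.ResidueField)))} := by
  set E := {p : PrimeSpectrum R | Ex (U.map (MvPolynomial.map (algebraMap R p.asIdeal.ResidueField)))
      (V.map (MvPolynomial.map (algebraMap R p.asIdeal.ResidueField)))
      (W.map (MvPolynomial.map (algebraMap R p.asIdeal.ResidueField)))} with hE
  suffices ∀ T : Set (PrimeSpectrum R), IsClosed T → Topology.IsConstructible (E ∩ T) by
    simpa using this Set.univ isClosed_univ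
  refine H8Top.closed_induction (motive := fun T => Topology.IsConstructible (E ∩ T)) ?_ ?_ ?_
  · simp
  · intro T T' _ _ hT hT'
    rw [Set.inter_union_distrib_left]
    exact hT.union hT'
  · intro T hT hTi ih
    obtain ⟨p, hp⟩ := QuasiSober.sober hTi hT
    let R₁ := R ⧸ p.asIdeal
    let q : R →+* R₁ := Ideal.Quotient.mk p.asIdeal
    let U₁ := U.map (MvPolynomial.map q)
    let V₁ := V.map (MvPolynomial.map q)
    let W₁ := W.map (MvPolynomial.map q)
    obtain ⟨f, hf, hiff⟩ := exists_forall_exact_iff (R := R₁) (P := MvPolynomial (Fin n) R₁) U₁.mulVecLin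
      ((LinearMap.range W₁.mulVecLin).mkQ.comp V₁.mulVecLin)
    obtain ⟨c, rfl⟩ := Ideal.Quotient.mk_surjective f
    have hc : c ∉ p.asIdeal := fun hc => hf (Ideal.Quotient.eq_zero_iff_mem.2 hc)
    have hT_le : ∀ x ∈ T, p.asIdeal ≤ x.asIdeal := fun x hx =>
      (PrimeSpectrum.le_iff_specializes p x).2 (hp.specializes hx)
    have key : ∀ x ∈ T ∩ (PrimeSpectrum.basicOpen c : Set _), (x ∈ E ↔ p ∈ E) := by
      rintro x ⟨hxT, hxc⟩
      have hev : ∀ y : PrimeSpectrum R, p.asIdeal ≤ y.asIdeal → c ∉ y.asIdeal →
          ∃ (i : Algebra R₁ y.asIdeal.ResidueField), (letI := i;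
            (algebraMap R₁ y.asIdeal.ResidueField).comp q = algebraMap R y.asIdeal.ResidueField ∧
            algebraMap R₁ y.asIdeal.ResidueField (q c) ≠ 0) := fun y hy hyc => by
        refine ⟨(Ideal.Quotient.lift p.asIdeal (algebraMap R y.asIdeal.ResidueField) fun r hr =>
          Ideal.algebraMap_residueField_eq_zero.2 (hy hr)).toAlgebra, Ideal.Quotient.lift_comp_mk _ _ _, ?_⟩
        exact fun h0 => hyc (Ideal.algebraMap_residueField_eq_zero.1 h0)
      obtain ⟨i₁, e₁, n₁⟩ := hev x (hT_le x hxT) hxc
      obtain ⟨i₂, e₂, n₂⟩ := hev p le_rfl hc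
      letI := i₁
      letI := i₂
      have h12 := hiff x.asIdeal.ResidueField p.asIdeal.ResidueField n₁ n₂
      rw [exact_iff_ex, exact_iff_ex, ex_map_map, ex_map_map, ex_map_map, e₁, ex_map_map, ex_map_map, ex_map_map,
        e₂] at h12
      exact h12
    have hrest := ih (T \ (PrimeSpectrum.basicOpen c : Set _)) (hT.sdiff (PrimeSpectrum.basicOpen c).isOpen)
      (H8Top.sdiff_ssubset_of_inter_nonempty ⟨p, hc, hp.mem⟩)
    have hgood : Topology.IsConstructible (E ∩ (T ∩ (PrimeSpectrum.basicOpen c : Set _))) := by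
      by_cases hpE : p ∈ E
      · rw [Set.inter_eq_right.2 fun x hx => (key x hx).2 hpE]
        exact (H8Top.isConstructible_of_isClosed hT).inter PrimeSpectrum.isConstructible_basicOpen
      · rw [show E ∩ (T ∩ (PrimeSpectrum.basicOpen c : Set _)) = ∅ from
          Set.eq_empty_of_forall_notMem fun x hx => hpE ((key x hx.2).1 hx.1)]
        exact Topology.IsConstructible.empty
    convert hgood.union hrest using 1
    rw [← Set.inter_union_distrib_left, Set.inter_union_sdiff]

/-- Constructibility of the exactness locus of a presented complex over any ring. -/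
theorem isConstructible_ex (U : Matrix (Fin g) (Fin a) (MvPolynomial (Fin n) R))
    (V : Matrix (Fin h) (Fin g) (MvPolynomial (Fin n) R)) (W : Matrix (Fin h) (Fin b) (MvPolynomial (Fin n) R)) :
    Topology.IsConstructible {p : PrimeSpectrum R | Ex (U.map (MvPolynomial.map (algebraMap R p.asIdeal.ResidueField)))
      (V.map (MvPolynomial.map (algebraMap R p.asIdeal.ResidueField)))
      (W.map (MvPolynomial.map (algebraMap R p.asIdeal.ResidueField)))} := by
  classical
  let c : Set R := (⋃ i, ⋃ j, ((U i j).coeffs : Set R)) ∪ (⋃ i, ⋃ j, ((V i j).coeffs : Set R)) ∪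
    (⋃ i, ⋃ j, ((W i j).coeffs : Set R))
  have hfin : c.Finite := ((Set.finite_iUnion fun i => Set.finite_iUnion fun j => Finset.finite_toSet _).union
    (Set.finite_iUnion fun i => Set.finite_iUnion fun j => Finset.finite_toSet _)).union
    (Set.finite_iUnion fun i => Set.finite_iUnion fun j => Finset.finite_toSet _)
  let R₀ : Subalgebra ℤ R := Algebra.adjoin ℤ c
  haveI : IsNoetherianRing R₀ := isNoetherianRing_of_fg (Subalgebra.fg_def.2 ⟨_, hfin, rfl⟩)
  have hlift : ∀ p : MvPolynomial (Fin n) R, (p.coeffs : Set R) ⊆ c →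
      ∃ p₀, MvPolynomial.map (algebraMap R₀ R) p₀ = p := fun p hp => by
    rw [← RingHom.mem_range, ← SetLike.mem_coe, RingHom.coe_range, MvPolynomial.mem_range_map_iff_coeffs_subset]
    exact fun x hx => ⟨⟨x, Algebra.subset_adjoin (hp hx)⟩, rfl⟩
  choose U₀ hU₀ using fun i j => hlift (U i j) fun x hx => Or.inl (Or.inl (Set.mem_iUnion₂.2 ⟨i, j, hx⟩))
  choose V₀ hV₀ using fun i j => hlift (V i j) fun x hx => Or.inl (Or.inr (Set.mem_iUnion₂.2 ⟨i, j, hx⟩))
  choose W₀ hW₀ using fun i j => hlift (W i j) fun x hx => Or.inr (Set.mem_iUnion₂.2 ⟨i, j, hx⟩)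
  have h0 := isConstructible_ex_of_noetherian (R := R₀) (Matrix.of U₀) (Matrix.of V₀) (Matrix.of W₀)
  convert h0.preimage (PrimeSpectrum.continuous_comap (algebraMap R₀ R)) (fun s hs hsc => ?_) using 1
  swap
  · obtain ⟨σ, rfl⟩ := PrimeSpectrum.isCompact_isOpen_iff.1 ⟨(QuasiSeparatedSpace.isRetrocompact_iff_isCompact hs).1 hsc, hs⟩
    rw [Set.preimage_compl, PrimeSpectrum.preimage_comap_zeroLocus]
    refine (QuasiSeparatedSpace.isRetrocompact_iff_isCompact (PrimeSpectrum.isClosed_zeroLocus _).isOpen_compl).2 ?_
    classical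
    rw [← Finset.coe_image]
    exact (PrimeSpectrum.isCompact_isOpen_iff.2 ⟨_, rfl⟩).1
  ext p
  let p₀ := PrimeSpectrum.comap (algebraMap R₀ R) p
  show _ ↔ p₀ ∈ {p : PrimeSpectrum R₀ | _}
  letI : Algebra p₀.asIdeal.ResidueField p.asIdeal.ResidueField :=
    (Ideal.ResidueField.map p₀.asIdeal p.asIdeal (algebraMap R₀ R) rfl).toAlgebra
  have e : (algebraMap R p.asIdeal.ResidueField).comp (algebraMap R₀ R) =
      (algebraMap p₀.asIdeal.ResidueField p.asIdeal.ResidueField).comp (algebraMap R₀ p₀.asIdeal.ResidueField) := by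
    refine RingHom.ext fun r => ?_
    exact (Ideal.ResidueField.map_algebraMap _ _ _ _ r).symm
  have eU : U = (Matrix.of U₀).map (MvPolynomial.map (algebraMap R₀ R)) := Matrix.ext fun i j => (hU₀ i j).symm
  have eV : V = (Matrix.of V₀).map (MvPolynomial.map (algebraMap R₀ R)) := Matrix.ext fun i j => (hV₀ i j).symm
  have eW : W = (Matrix.of W₀).map (MvPolynomial.map (algebraMap R₀ R)) := Matrix.ext fun i j => (hW₀ i j).symm
  simp only [Set.mem_setOf_eq]
  rw [eU, eV, eW, ex_map_map, ex_map_map, ex_map_map, e, ← ex_map_map, ← ex_map_map, ← ex_map_map, ex_map_iff]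

end Matrix

/-- Exactness on the fibres is constructible in the base. -/
theorem isConstructible_setOf_fibre_exact {R B : Type u} [CommRing R] [CommRing B] [Algebra R B]
    [Algebra.FinitePresentation R B]
    {F G H : Type u} [AddCommGroup F] [Module B F] [Module R F] [IsScalarTower R B F] [Module.Finite B F]
    [AddCommGroup G] [Module B G] [Module R G] [IsScalarTower R B G] [Module.FinitePresentation B G]
    [AddCommGroup H] [Module B H] [Module R H] [IsScalarTower R B H] [Module.FinitePresentation B H]
    (u : F →ₗ[B] G) (v : G →ₗ[B] H) :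
    Topology.IsConstructible {p : PrimeSpectrum R |
      Exact ((u.restrictScalars R).baseChange p.asIdeal.ResidueField)
        ((v.restrictScalars R).baseChange p.asIdeal.ResidueField)} := by
  classical
  obtain ⟨n, π, hπ, hker⟩ := ‹Algebra.FinitePresentation R B›.out
  let P := MvPolynomial (Fin n) R
  letI : Algebra P B := π.toRingHom.toAlgebra
  haveI : IsScalarTower R P B := .of_algebraMap_eq fun a => (π.commutes a).symm
  haveI : Module.FinitePresentation P B := Module.finitePresentation_of_surjective (Algebra.linearMap _ B) hπ hker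
  haveI : Module.Finite P B := inferInstance
  letI : Module P F := Module.compHom F π.toRingHom
  letI : Module P G := Module.compHom G π.toRingHom
  letI : Module P H := Module.compHom H π.toRingHom
  haveI : IsScalarTower P B F := IsScalarTower.of_algebraMap_smul fun _ _ => rfl
  haveI : IsScalarTower P B G := IsScalarTower.of_algebraMap_smul fun _ _ => rfl
  haveI : IsScalarTower P B H := IsScalarTower.of_algebraMap_smul fun _ _ => rfl
  haveI : IsScalarTower R P G := IsScalarTower.of_algebraMap_smul fun a x => by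
    show π (algebraMap R _ a) • x = a • x
    rw [π.commutes, algebraMap_smul]
  haveI : IsScalarTower R P H := IsScalarTower.of_algebraMap_smul fun a x => by
    show π (algebraMap R _ a) • x = a • x
    rw [π.commutes, algebraMap_smul]
  haveI : Module.FinitePresentation P G := Module.FinitePresentation.trans _ G B
  haveI : Module.FinitePresentation P H := Module.FinitePresentation.trans _ H B
  haveI : Module.Finite P F := Module.Finite.trans B F
  obtain ⟨g, mG, cG, gG, hcG, hexG⟩ := Module.FinitePresentation.exists_fin' P G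
  obtain ⟨h, mH, cH, gH, hcH, hexH⟩ := Module.FinitePresentation.exists_fin' P H
  have hKG : (LinearMap.ker cG).FG := by
    rw [LinearMap.exact_iff.1 hexG, LinearMap.range_eq_map]; exact Module.Finite.fg_top.map gG
  have hKH : (LinearMap.ker cH).FG := by
    rw [LinearMap.exact_iff.1 hexH, LinearMap.range_eq_map]; exact Module.Finite.fg_top.map gH
  let u' := u.restrictScalars P
  let v' := v.restrictScalars P
  let S := (LinearMap.range u').comap cG
  have hS : S.FG := Submodule.fg_of_fg_map_of_fg_inf_ker cG
    (by rw [Submodule.map_comap_eq_of_surjective hcG, LinearMap.range_eq_map]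
        exact Module.Finite.fg_top.map u')
    (by rwa [inf_eq_right.2 (show LinearMap.ker cG ≤ S from fun x hx => by
      show cG x ∈ LinearMap.range u'
      rw [LinearMap.mem_ker.1 hx]; exact zero_mem _)])
  obtain ⟨a, sU, hsU⟩ := Submodule.fg_iff_exists_fin_generating_family.1 hS
  obtain ⟨b, sW, hsW⟩ := Submodule.fg_iff_exists_fin_generating_family.1 hKH
  obtain ⟨V', hV'⟩ := Module.projective_lifting_property cH (v'.comp cG) hcH
  let U : Matrix (Fin g) (Fin a) P := Matrix.of fun i j => sU j i
  let W : Matrix (Fin h) (Fin b) P := Matrix.of fun i j => sW j i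
  let V : Matrix (Fin h) (Fin g) P := LinearMap.toMatrix' V'
  have hU : LinearMap.range U.mulVecLin = S := by
    rw [Matrix.range_mulVecLin, ← hsU]; rfl
  have hW : LinearMap.range W.mulVecLin = LinearMap.ker cH := by
    rw [Matrix.range_mulVecLin, ← hsW]; rfl
  have hV : V.mulVecLin = V' := by
    rw [← Matrix.toLin'_apply', Matrix.toLin'_toMatrix']
  convert isConstructible_ex U V W using 1
  ext p
  simp only [Set.mem_setOf_eq]
  let L := p.asIdeal.ResidueField
  rw [← exact_iff_ex L U V W]
  let uR := u.restrictScalars R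
  let vR := v.restrictScalars R
  let cR := cG.restrictScalars R
  let eH' : ((Fin h → P) ⧸ LinearMap.range W.mulVecLin) ≃ₗ[P] H :=
    Submodule.quotEquivOfEq _ _ hW ≪≫ₗ cH.quotKerEquivOfSurjective hcH
  have hcomp : eH'.toLinearMap.comp ((LinearMap.range W.mulVecLin).mkQ.comp V.mulVecLin) = v'.comp cG := by
    refine LinearMap.ext fun x => ?_
    rw [hV, ← hV']
    rfl
  let μ := ((LinearMap.range W.mulVecLin).mkQ.comp V.mulVecLin).restrictScalars R
  have hμ : ∀ z, μ.baseChange L z = 0 ↔ vR.baseChange L (cR.baseChange L z) = 0 := fun z => by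
    rw [← LinearMap.comp_apply (vR.baseChange L), ← LinearMap.baseChange_comp]
    rw [show vR.comp cR = (eH'.restrictScalars R).toLinearMap.comp μ from
      congrArg (LinearMap.restrictScalars R) hcomp.symm, LinearMap.baseChange_comp, LinearMap.comp_apply]
    exact ((LinearEquiv.baseChange R L _ _ (eH'.restrictScalars R)).map_eq_zero_iff).symm
  -- the range of `U` on the fibre
  let mku := (LinearMap.range u').mkQ.restrictScalars R
  have hu : Exact (uR.baseChange L) (mku.baseChange L) :=
    lTensor_exact L (f := uR) (g := mku) (LinearMap.exact_map_mkQ_range u') (LinearMap.range u').mkQ_surjective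
  have hUc : Exact ((U.mulVecLin.restrictScalars R).baseChange L) ((mku.comp cR).baseChange L) := by
    refine lTensor_exact L (f := U.mulVecLin.restrictScalars R) (g := mku.comp cR) ?_
      ((LinearMap.range u').mkQ_surjective.comp hcG)
    intro x
    show Submodule.Quotient.mk (cG x) = 0 ↔ x ∈ Set.range U.mulVecLin
    rw [Submodule.Quotient.mk_eq_zero, ← LinearMap.coe_range, hU]
    rfl
  have hcs : Surjective (cR.baseChange L) := LinearMap.lTensor_surjective L hcG
  constructor
  · intro hx z
    rw [hμ]
    refine (hx _).trans ((hu _).symm.trans ?_)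
    rw [← LinearMap.comp_apply, ← LinearMap.baseChange_comp]
    exact hUc z
  · intro hx y
    obtain ⟨z, rfl⟩ := hcs y
    rw [← hμ, hx z, ← hu _, ← LinearMap.comp_apply, ← LinearMap.baseChange_comp]
    exact (hUc z).symm

end Groth.Agent.H8Coh.FibreExact
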