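import Groth.Agent.EGA43.Cons.FibFlatMor
import Groth.Agent.EGA43.Cons.FibFlatScheme
import Groth.Agent.FlatMor12.FreeLocusBC

/-!
# Flatness of a module relative to the map induced on fibres
-/

set_option autoImplicit false
set_option backward.isDefEq.respectTransparency.types false
set_option linter.style.haveILetI false

universe u

open CategoryTheory AlgebraicGeometry Topology TopologicalSpace TensorProduct

namespace Groth.Agent.H8Coh.FibreFlatOver

/-- Flatness transfers along a semilinear equivalence. -/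
theorem flat_of_semilinear {R R' N N' : Type u} [CommRing R] [CommRing R'] (e : R ≃+* R')
    [AddCommGroup N] [Module R N] [AddCommGroup N'] [Module R' N'] (l : N ≃+ N')
    (hl : ∀ (r : R) (n : N), l (r • n) = e r • l n) [Module.Flat R' N'] : Module.Flat R N := by
  let _ : Algebra R R' := e.toRingHom.toAlgebra
  let _ := Module.compHom N' e.toRingHom
  have : IsScalarTower R R' N' := IsScalarTower.of_algebraMap_smul fun _ _ => rfl
  have : Module.Flat R R' := Module.Flat.of_linearEquiv
    (LinearEquiv.ofBijective (Algebra.linearMap R R') e.bijective).symm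
  have := Module.Flat.trans R R' N'
  exact Module.Flat.of_linearEquiv (M := N') { l with map_smul' := hl }

theorem flat_semilinear_iff {R R' N N' : Type u} [CommRing R] [CommRing R'] (e : R ≃+* R')
    [AddCommGroup N] [Module R N] [AddCommGroup N'] [Module R' N'] (l : N ≃+ N')
    (hl : ∀ (r : R) (n : N), l (r • n) = e r • l n) : Module.Flat R N ↔ Module.Flat R' N' :=
  ⟨fun _ => flat_of_semilinear e.symm l.symm fun r n => l.injective (by
      rw [hl, AddEquiv.apply_symm_apply, AddEquiv.apply_symm_apply, RingEquiv.apply_symm_apply]),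
    fun _ => flat_of_semilinear e l hl⟩

/-- Flatness on quotients, for modules. -/
theorem flat_compHom_iff {R T R' T' : Type u} [CommRing R] [CommRing T] [CommRing R'] [CommRing T']
    [Algebra R T] [Algebra T T'] (πR : R →+* R') (hR : Function.Surjective πR)
    (hT : Function.Surjective (algebraMap T T')) (φ' : R' →+* T')
    (hsq : φ'.comp πR = (algebraMap T T').comp (algebraMap R T))
    (I : Ideal R) (hI : RingHom.ker πR = I)
    (hIT : RingHom.ker (algebraMap T T') = I.map (algebraMap R T))
    (M N : Type u) [AddCommGroup M] [Module T M] [Module R M] [IsScalarTower R T M]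
    [AddCommGroup N] [Module T' N] (eN : N ≃ₗ[T'] T' ⊗[T] M) :
    (letI := Module.compHom N φ'; Module.Flat R' N) ↔
      Module.Flat (R ⧸ I) (M ⧸ (I • ⊤ : Submodule R M)) := by
  let _ := Module.compHom N φ'
  let eR : (R ⧸ I) ≃+* R' :=
    (Ideal.quotEquivOfEq hI.symm).trans (RingHom.quotientKerEquivOfSurjective hR)
  let J := I.map (algebraMap R T)
  let eT : (T ⧸ J) ≃ₗ[T] T' :=
    { toFun := (Ideal.quotEquivOfEq hIT.symm).trans (RingHom.quotientKerEquivOfSurjective hT)
      map_add' := map_add _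
      map_smul' := fun t x => by
        obtain ⟨x, rfl⟩ := Ideal.Quotient.mk_surjective x
        show algebraMap T T' (t * x) = t • algebraMap T T' x
        rw [map_mul, Algebra.smul_def]
      invFun := ((Ideal.quotEquivOfEq hIT.symm).trans (RingHom.quotientKerEquivOfSurjective hT)).symm
      left_inv := RingEquiv.symm_apply_apply _
      right_inv := RingEquiv.apply_symm_apply _ }
  let q : (T' ⊗[T] M) ≃ₗ[T] M ⧸ (J • ⊤ : Submodule T M) :=
    (TensorProduct.congr eT.symm (LinearEquiv.refl T M)).trans (TensorProduct.quotTensorEquivQuotSMul M J)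
  have hJ : (J • ⊤ : Submodule T M).restrictScalars R = (I • ⊤ : Submodule R M) :=
    Ideal.smul_restrictScalars I (⊤ : Submodule T M)
  let p : (M ⧸ (J • ⊤ : Submodule T M)) ≃ₗ[R] M ⧸ (I • ⊤ : Submodule R M) :=
    (Submodule.Quotient.restrictScalarsEquiv R (J • ⊤ : Submodule T M)).symm.trans
      (Submodule.quotEquivOfEq _ _ hJ)
  symm
  refine flat_semilinear_iff eR
    ((eN.toAddEquiv.trans (q.toAddEquiv.trans p.toAddEquiv)).symm) fun r n => ?_
  obtain ⟨r, rfl⟩ := Ideal.Quotient.mk_surjective r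
  refine (AddEquiv.symm_apply_eq _).2 ?_
  set w := ((eN.toAddEquiv.trans (q.toAddEquiv.trans p.toAddEquiv)).symm n)
  show Ideal.Quotient.mk I r • n = p (q (eN (φ' (eR (Ideal.Quotient.mk I r)) • w)))
  have h1 : φ' (eR (Ideal.Quotient.mk I r)) = algebraMap T T' (algebraMap R T r) :=
    RingHom.congr_fun hsq r
  rw [h1, map_smul, algebraMap_smul T' (algebraMap R T r) (eN w), map_smul, algebraMap_smul T r (q (eN w)),
    map_smul]
  have hw : p (q (eN w)) = n := (eN.toAddEquiv.trans (q.toAddEquiv.trans p.toAddEquiv)).apply_symm_apply n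
  rw [hw]
  obtain ⟨n, rfl⟩ := Submodule.Quotient.mk_surjective _ n
  rfl

variable {X Y S : Scheme.{u}} (g : X ⟶ Y) (h : Y ⟶ S) (F : X.Modules)

set_option backward.isDefEq.respectTransparency false in
theorem isFlatOverAt_fibMap_iff (s : S) (z : ↥((g ≫ h).fiber s)) :
    FlatMod.IsFlatOverAt (EGA43.Cons.fibMap g h s)
        ((Scheme.Modules.pullback ((g ≫ h).fiberι s)).obj F) z ↔
      EGA43.Cons.IsFibFlatAt g h F ((g ≫ h).fiberι s z) := by
  set x := (g ≫ h).fiberι s z
  have hy : h.fiberι s (EGA43.Cons.fibMap g h s z) = g x := by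
    rw [← Scheme.Hom.comp_apply, EGA43.Cons.fibMap_fiberι]
    rfl
  let _ := (g.stalkMap x).hom.toAlgebra
  let _ := (((g ≫ h).fiberι s).stalkMap z).hom.toAlgebra
  let _ := FlatMod.moduleStalkOver g F x
  have : IsScalarTower (Y.presheaf.stalk (g x)) (X.presheaf.stalk x) (F.presheaf.stalk x) :=
    IsScalarTower.of_algebraMap_smul fun _ _ => rfl
  obtain ⟨hsX, hkX⟩ := Props12.stalkMap_fiberι (g ≫ h) s z
  obtain ⟨hsY, hkY⟩ := EGA43.Cons.exists_surjective_stalk h s (EGA43.Cons.fibMap g h s z) hy
  have hsq := Scheme.Hom.stalkMap_congr_hom _ _ (EGA43.Cons.fibMap_fiberι g h s) z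
  rw [Scheme.Hom.stalkMap_comp, Scheme.Hom.stalkMap_comp, ← Iso.inv_comp_eq, ← Category.assoc] at hsq
  refine flat_compHom_iff _ hsY hsX _ ?_ _ hkY ?_ _ _
    (FlatMor12.FreeLocusBC.stalkTensor ((g ≫ h).fiberι s) F z)
  · have h' := congr(($hsq).hom)
    rw [CommRingCat.hom_comp, CommRingCat.hom_comp] at h'
    exact h'
  · show RingHom.ker (((g ≫ h).fiberι s).stalkMap z).hom = _
    rw [hkX, Scheme.Hom.stalkMap_comp, CommRingCat.hom_comp, ← Ideal.map_map]
    rfl

theorem isFlatOver_fibMap_iff (s : S) :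
    FlatMod.IsFlatOver (EGA43.Cons.fibMap g h s)
        ((Scheme.Modules.pullback ((g ≫ h).fiberι s)).obj F) ↔
      ∀ x : X, (g ≫ h) x = s → EGA43.Cons.IsFibFlatAt g h F x := by
  constructor
  · intro H x hx
    obtain ⟨z, rfl⟩ := ((g ≫ h).range_fiberι s).ge hx
    exact (isFlatOverAt_fibMap_iff g h F s z).1 (H z)
  · exact fun H z => (isFlatOverAt_fibMap_iff g h F s z).2 (H _ (((g ≫ h).range_fiberι s).le ⟨z, rfl⟩))

theorem isLocallyConstructible_setOf_fibre_isFlatOver [LocallyOfFinitePresentation (g ≫ h)]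
    [QuasiCompact (g ≫ h)] [LocallyOfFinitePresentation h] [Coh.IsQCoh F] (hF : CohB1.IsFP F) :
    IsLocallyConstructible {s : S | FlatMod.IsFlatOver (EGA43.Cons.fibMap g h s)
        ((Scheme.Modules.pullback ((g ≫ h).fiberι s)).obj F)} := by
  simp only [isFlatOver_fibMap_iff]
  exact EGA43.Cons.isLocallyConstructible_setOf_forall_fibre_isFibFlatAt g h F hF

end Groth.Agent.H8Coh.FibreFlatOver
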