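import Groth.Agent.H8Lim.InvertibleStage
import Groth.Agent.H8Lim.ImmersionSystem
import Groth.Agent.H8Coh.AmpleLocus
import Groth.Agent.AmpleLib.Local
import Groth.Agent.Coherent.CohBC.PushStructure
import Groth.Agent.EGA43.Cons.FibreProper
import Groth.Agent.FlatMorWeight.LevelSets
import Groth.Agent.S4418
import Groth.Agent.S4419

/-!
# The loci of (quasi-)projective fibre morphisms are ind-constructible (EGA IV 9.6.2)
-/

set_option autoImplicit false
set_option maxHeartbeats 1600000
set_option backward.isDefEq.respectTransparency.types false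
set_option linter.style.haveILetI false

universe u

open CategoryTheory CategoryTheory.Limits AlgebraicGeometry
open Groth.Agent.AmpleLib Groth.Agent.ConsPropLib

namespace Groth.Agent.H8Coh.FibreQProj

/-- Quasi-projectivity transports along an isomorphism of morphisms. -/
theorem isQuasiProjective_of_arrowIso {X Y X' Y' : Scheme.{u}} {f : X ⟶ Y} {f' : X' ⟶ Y'}
    (lX : X' ⟶ X) (lY : Y' ⟶ Y) [IsIso lX] [IsIso lY] (w : lX ≫ f = f' ≫ lY)
    (h : RelProj.IsQuasiProjective f) : RelProj.IsQuasiProjective f' := by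
  obtain ⟨h1, h2, L, hL⟩ := h
  have sq : IsPullback lX f' f lY := IsPullback.of_horiz_isIso ⟨w⟩
  refine ⟨MorphismProperty.of_isPullback sq h1, MorphismProperty.of_isPullback sq h2,
    (Scheme.Modules.pullback lX).obj L, ?_⟩
  exact AmpleLocus.isRelAmple_of_isPullback sq (𝟙 X) L (Category.comp_id lX)
    (AmpleLocus.isRelAmple_of_iso f ((Scheme.Modules.pullbackId X).app L).symm hL)

theorem isQuasiProjective_iff_of_arrowIso {X Y X' Y' : Scheme.{u}} {f : X ⟶ Y} {f' : X' ⟶ Y'}
    (lX : X' ⟶ X) (lY : Y' ⟶ Y) [IsIso lX] [IsIso lY] (w : lX ≫ f = f' ≫ lY) :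
    RelProj.IsQuasiProjective f ↔ RelProj.IsQuasiProjective f' :=
  ⟨isQuasiProjective_of_arrowIso lX lY w, isQuasiProjective_of_arrowIso (inv lX) (inv lY)
    (by rw [IsIso.inv_comp_eq, ← Category.assoc, w, Category.assoc, IsIso.hom_inv_id, Category.comp_id])⟩

/-- Fibre maps over a preimmersion of the base are the fibre maps over the image points. -/
theorem exists_fiberMap_iso {X Y S X' Y' S' : Scheme.{u}} {f : X ⟶ Y} {g : Y ⟶ S} {f' : X' ⟶ Y'}
    {g' : Y' ⟶ S'} {qY : Y' ⟶ Y} {qX : X' ⟶ X} {r : S' ⟶ S} [IsPreimmersion r]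
    (hY : IsPullback qY g' g r) (hX : IsPullback qX f' f qY) (s' : S') :
    ∃ (lX : (f' ≫ g').fiber s' ⟶ (f ≫ g).fiber (r s')) (lY : g'.fiber s' ⟶ g.fiber (r s')),
      IsIso lX ∧ IsIso lY ∧ lX ≫ MoreMor.fiberMap f g (r s') = MoreMor.fiberMap f' g' s' ≫ lY := by
  obtain ⟨lY, hlY, eY⟩ := exists_fibre_square hY s'
  obtain ⟨lX, hlX, eX⟩ := exists_fibre_square (hX.paste_vert hY) s'
  have : IsIso (r.residueFieldMap s') := Coherent.CohBC.isIso_residueFieldMap_of_isPreimmersion r s'
  have : IsIso (Spec.map (r.residueFieldMap s')) := inferInstance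
  refine ⟨lX, lY, hlX.isIso_fst_of_isIso, hlY.isIso_fst_of_isIso, ?_⟩
  apply pullback.hom_ext
  · show (lX ≫ MoreMor.fiberMap f g (r s')) ≫ g.fiberι (r s') =
      (MoreMor.fiberMap f' g' s' ≫ lY) ≫ g.fiberι (r s')
    rw [Category.assoc, Category.assoc, eY, ← (fiberMap_isPullback f g (r s')).w,
      ← Category.assoc (MoreMor.fiberMap f' g' s'), ← (fiberMap_isPullback f' g' s').w,
      Category.assoc, ← hX.w, reassoc_of% eX]
  · show (lX ≫ MoreMor.fiberMap f g (r s')) ≫ g.fiberToSpecResidueField (r s') =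
      (MoreMor.fiberMap f' g' s' ≫ lY) ≫ g.fiberToSpecResidueField (r s')
    rw [Category.assoc, fiberMap_comp, hlX.w, Category.assoc, hlY.w,
      reassoc_of% (fiberMap_comp f' g' s')]

theorem locallyOfFiniteType_fiberMap {X Y S : Scheme.{u}} (f : X ⟶ Y) (g : Y ⟶ S) (s : S)
    [LocallyOfFiniteType f] : LocallyOfFiniteType (MoreMor.fiberMap f g s) :=
  MorphismProperty.of_isPullback (fiberMap_isPullback f g s) ‹LocallyOfFiniteType f›

/-- A quasi-projective fibre spreads out over a stratum through the point. -/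
theorem isIndConstructible_setOf_isQuasiProjective {X Y S : Scheme.{u}} (f : X ⟶ Y) (g : Y ⟶ S)
    [QuasiCompact g] [QuasiSeparated g] [QuasiCompact f] [QuasiSeparated f] [LocallyOfFiniteType f] :
    ProCons.IsIndConstructible {s : S | RelProj.IsQuasiProjective (MoreMor.fiberMap f g s)} := by
  refine H8Lim.isIndConstructible_of_spread fun s hs => ?_
  obtain ⟨I, _, _, D, c, hc, _, e, U, t, he, hU, hobj, htπ, htm⟩ := H8Lim.exists_immersion_system s
  obtain ⟨i⟩ := IsCofiltered.nonempty (C := I)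
  have : ∀ i, IsAffine (D.obj i) := fun i => (hobj i).1
  have : ∀ i, CompactSpace (D.obj i) := fun i => inferInstance
  have : ∀ i, QuasiSeparatedSpace (D.obj i) := fun i => inferInstance
  let tS : ∀ i, D.obj i ⟶ S := fun i => t i ≫ U.ι
  have hY₀ := IsPullback.of_hasPullback g (tS i)
  have hX₀ := isPullback_fst_comp f g (tS i)
  set f₀ := pullback.snd f (pullback.fst g (tS i))
  set g₀ := pullback.snd g (tS i)
  have : QuasiCompact g₀ := MorphismProperty.of_isPullback hY₀ ‹QuasiCompact g›
  have : QuasiSeparated g₀ := MorphismProperty.of_isPullback hY₀ ‹QuasiSeparated g›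
  have : QuasiCompact f₀ := MorphismProperty.of_isPullback hX₀ ‹QuasiCompact f›
  have : QuasiSeparated f₀ := MorphismProperty.of_isPullback hX₀ ‹QuasiSeparated f›
  have hYc := IsPullback.of_hasPullback g₀ (c.π.app i)
  have hXc := IsPullback.of_hasPullback f₀ (pullback.fst g₀ (c.π.app i))
  set g' := pullback.snd g₀ (c.π.app i)
  set f' := pullback.snd f₀ (pullback.fst g₀ (c.π.app i))
  -- the limit is the fibre
  have bY := hYc.paste_horiz hY₀
  have bX := hXc.paste_horiz hX₀
  rw [show c.π.app i ≫ tS i = e ≫ S.fromSpecResidueField s from htπ i] at bY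
  obtain ⟨lY, hlY, eY⟩ := exists_lift_square bY
  obtain ⟨lX, hlX, eX⟩ := exists_lift_square (bX.paste_vert bY)
  have : IsIso lY := hlY.isIso_fst_of_isIso
  have : IsIso lX := hlX.isIso_fst_of_isIso
  have hw : lX ≫ MoreMor.fiberMap f g s = f' ≫ lY := by
    apply pullback.hom_ext
    · show (lX ≫ MoreMor.fiberMap f g s) ≫ g.fiberι s = (f' ≫ lY) ≫ g.fiberι s
      refine (Category.assoc _ _ _).trans (Eq.trans ?_ (Category.assoc f' lY _).symm)
      refine (congrArg (lX ≫ ·) (fiberMap_isPullback f g s).w.symm).trans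
        ((Category.assoc _ _ _).symm.trans ?_)
      refine (congrArg (· ≫ f) eX).trans (bX.w.trans ?_)
      exact congrArg (f' ≫ ·) eY.symm
    · show (lX ≫ MoreMor.fiberMap f g s) ≫ g.fiberToSpecResidueField s =
        (f' ≫ lY) ≫ g.fiberToSpecResidueField s
      refine (Category.assoc _ _ _).trans (Eq.trans ?_ (Category.assoc f' lY _).symm)
      refine (congrArg (lX ≫ ·) (fiberMap_comp f g s)).trans ?_
      exact hlX.w.trans ((Category.assoc _ _ _).trans (congrArg (f' ≫ ·) hlY.w.symm))
  obtain ⟨-, -, L, hL⟩ := isQuasiProjective_of_arrowIso lX lY hw hs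
  obtain ⟨j₁, φ₁, X₁, Y₁, f₁, g₁, pY, pX, qY₁, qX₁, L₁, hY₁, hX₁, hY₁c, hX₁c, -, -, hL₁, ⟨ε⟩⟩ :=
    H8Lim.exists_stage_invertible hc f₀ g₀ hYc hXc L (AmpleLib.isInvertible_of_isRelAmple f' hL)
  have : QuasiCompact g₁ := MorphismProperty.of_isPullback hY₁ ‹QuasiCompact g₀›
  have : QuasiCompact f₁ := MorphismProperty.of_isPullback hX₁ ‹QuasiCompact f₀›
  have : QuasiSeparated f₁ := MorphismProperty.of_isPullback hX₁ ‹QuasiSeparated f₀›
  obtain ⟨j, φ, hj⟩ := H8Lim.exists_stage_isRelAmple hc f₁ g₁ L₁ hL₁ f' g' qY₁ qX₁ hY₁c hX₁c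
    (AmpleLocus.isRelAmple_of_iso f' ε.symm hL)
  have hYj := IsPullback.of_hasPullback g₁ (D.map φ)
  have hXj := IsPullback.of_hasPullback f₁ (pullback.fst g₁ (D.map φ))
  have hA := hj j (𝟙 j) _ _ _ _ (by rw [Category.id_comp]; exact hYj) hXj
  set fj := pullback.snd f₁ (pullback.fst g₁ (D.map φ))
  set gj := pullback.snd g₁ (D.map φ)
  have wY := hYj.paste_horiz (hY₁.paste_horiz hY₀)
  rw [show D.map φ ≫ D.map φ₁ ≫ tS i = tS j by
    simp only [tS]; rw [← Category.assoc (D.map φ₁), htm, ← Category.assoc, htm]] at wY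
  have wX := hXj.paste_horiz (hX₁.paste_horiz hX₀)
  refine ⟨U, D.obj j, t j, hU, (hobj j).1, (hobj j).2.1,
    ⟨c.π.app j (inv e (default : Spec (CommRingCat.of (S.residueField s)))), ?_⟩, ?_⟩
  · rw [← Scheme.Hom.comp_apply, htπ]
    exact S.fromSpecResidueField_apply s _
  · rintro _ ⟨w, rfl⟩
    have : IsImmersion (t j) := (hobj j).2.2
    have : IsPreimmersion (tS j) := inferInstanceAs (IsPreimmersion (t j ≫ U.ι))
    obtain ⟨mX, mY, _, _, hm⟩ := exists_fiberMap_iso (r := tS j) wY wX w
    show RelProj.IsQuasiProjective (MoreMor.fiberMap f g (tS j w))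
    refine (isQuasiProjective_iff_of_arrowIso mX mY hm).2 ⟨?_, ?_, _,
      AmpleLocus.isRelAmple_of_isPullback (fiberMap_isPullback fj gj w) _ L₁ rfl hA⟩
    · have : LocallyOfFiniteType fj :=
        MorphismProperty.of_isPullback wX ‹LocallyOfFiniteType f›
      exact locallyOfFiniteType_fiberMap fj gj w
    · exact MorphismProperty.of_isPullback (fiberMap_isPullback fj gj w)
        (show QuasiCompact fj from MorphismProperty.of_isPullback wX ‹QuasiCompact f›)

/-- Projective fibre maps: quasi-projective and proper. -/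
theorem isProjective_fiberMap_iff {X Y S : Scheme.{u}} (f : X ⟶ Y) (g : Y ⟶ S) (s : S)
    [QuasiCompact g] [LocallyOfFiniteType g] :
    RelProj.IsProjective (MoreMor.fiberMap f g s) ↔
      RelProj.IsQuasiProjective (MoreMor.fiberMap f g s) ∧ IsProper (MoreMor.fiberMap f g s) := by
  refine ⟨S4418.result _, fun h => ?_⟩
  have := h.2
  have hl : LocallyOfFiniteType (g.fiberToSpecResidueField s) :=
    MorphismProperty.pullback_snd _ _ ‹LocallyOfFiniteType g›
  have hq : QuasiCompact (g.fiberToSpecResidueField s) :=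
    MorphismProperty.pullback_snd _ _ ‹QuasiCompact g›
  have : IsLocallyNoetherian (g.fiber s) :=
    LocallyOfFiniteType.isLocallyNoetherian (g.fiberToSpecResidueField s)
  have : CompactSpace (g.fiber s) :=
    QuasiCompact.compactSpace_of_compactSpace (g.fiberToSpecResidueField s)
  have : IsNoetherian (g.fiber s) := {}
  exact S4419.result (Or.inr inferInstance) _ h.1

theorem isProper_fiberMap_iff {X Y S : Scheme.{u}} (f : X ⟶ Y) (g : Y ⟶ S) (s : S) :
    IsProper (MoreMor.fiberMap f g s) ↔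
      IsProper (pullback.snd f (pullback.fst g (S.fromSpecResidueField s))) := by
  let e := (fiberMap_isPullback f g s).isoPullback
  have h : e.hom ≫ pullback.snd f (pullback.fst g (S.fromSpecResidueField s)) =
      MoreMor.fiberMap f g s := (fiberMap_isPullback f g s).isoPullback_hom_snd
  rw [← h]
  exact MorphismProperty.cancel_left_of_respectsIso @IsProper e.hom _

theorem isIndConstructible_setOf_isProjective {X Y S : Scheme.{u}} (f : X ⟶ Y) (g : Y ⟶ S)
    [LocallyOfFinitePresentation g] [QuasiCompact g] [QuasiSeparated g]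
    [LocallyOfFinitePresentation f] [QuasiCompact f] [QuasiSeparated f] :
    ProCons.IsIndConstructible {s : S | RelProj.IsProjective (MoreMor.fiberMap f g s)} := by
  simp only [isProjective_fiberMap_iff, isProper_fiberMap_iff]
  exact FlatMorWeight.isIndConstructible_inter (isIndConstructible_setOf_isQuasiProjective f g)
    (H8ProCons.isLocallyConstructible_iff_ind_and_pro.1
      (EGA43.Cons.FibreProper.isLocallyConstructible_setOf_isProper f g)).1

end Groth.Agent.H8Coh.FibreQProj
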