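import Groth.Agent.H8Coh.RootLift
import Groth.Agent.PicLib.PicMonoid
import Groth.Agent.AbCubeLib.Complement
import Groth.Agent.CAlgSmall.UnramifiedDual
import Groth.Agent.AlgSpLib.SmoothSource
import Groth.Agent.SGA3cLib.EtaleCover
import Groth.Agent.S1489
import Groth.Agent.HenselLib.UnramifiedPoints
import Groth.Agent.SmoothLib.QuasiFinite
import Groth.Prelude.Def_PicRel2
import Mathlib.AlgebraicGeometry.Morphisms.LocalFlatDescent
import Mathlib.AlgebraicGeometry.AlgClosed.Basic
import Mathlib.AlgebraicGeometry.Noetherian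

/-!
# The `n`-th power map of a relative Picard scheme is etale where `n` is invertible
-/

set_option autoImplicit false
set_option backward.isDefEq.respectTransparency.types false
set_option linter.style.haveILetI false

universe u

open CategoryTheory CategoryTheory.Limits AlgebraicGeometry TopologicalSpace
open Groth.Agent.PicLib

namespace Groth.Agent.H8Coh.NthPower

variable {X S : Scheme.{u}} (f : X ⟶ S)

theorem isPullback_XTmap {T T' : Over S} (g : T' ⟶ T) :
    IsPullback (PicF.XTmap f g) (pullback.snd f T'.hom) (pullback.snd f T.hom) g.left := by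
  refine IsPullback.of_right ?_ (pullback.lift_snd _ _ _) (IsPullback.of_hasPullback f T.hom)
  have h1 : PicF.XTmap f g ≫ pullback.fst f T.hom = pullback.fst f T'.hom :=
    (pullback.lift_fst _ _ _).trans (Category.comp_id _)
  rw [h1, Over.w g]
  exact IsPullback.of_hasPullback f T'.hom

theorem XTmap_comp {T T' T'' : Over S} (g : T' ⟶ T) (h : T'' ⟶ T') :
    PicF.XTmap f (h ≫ g) = PicF.XTmap f h ≫ PicF.XTmap f g := by
  simp [PicF.XTmap, pullback.map_comp]

theorem XTmap_id (T : Over S) : PicF.XTmap f (𝟙 T) = 𝟙 _ := by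
  simp [PicF.XTmap, pullback.map_id]

variable {f}

/-- Pullback of classes. -/
noncomputable abbrev pc {T T' : Over S} (g : T' ⟶ T) : PicM (PicF.XT f T) →* PicM (PicF.XT f T') :=
  PicM.pull (PicF.XTmap f g)

theorem pc_pc {T T' T'' : Over S} (g : T' ⟶ T) (h : T'' ⟶ T') (a : PicM (PicF.XT f T)) :
    pc h (pc g a) = pc (h ≫ g) a := by
  show _ = PicM.pull (PicF.XTmap f (h ≫ g)) a
  rw [PicM.pull_pull, XTmap_comp]

theorem pc_eq_self {T : Over S} {g : T ⟶ T} (hg : g = 𝟙 T) (a : PicM (PicF.XT f T)) : pc g a = a := by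
  rw [hg]
  show PicM.pull (PicF.XTmap f (𝟙 T)) a = a
  rw [XTmap_id, PicM.pull_id]

/-- Every etale covering of `T` has a section. -/
def HasSections (T : Over S) : Prop :=
  ∀ (ι : Type u) (U : ι → T.left.Etale), EtCoh.Covers U →
    ∃ i, ∃ s : T ⟶ PicRel.ovr T (U i), s ≫ PicRel.ovrHom T (U i) = 𝟙 T

variable {P : Over S} {φ : ∀ T : Over S, PicF.Cl (PicF.XT f T) → (T ⟶ P)} (hP : PicRel.IsRelPic f P φ)

variable (φ) in
/-- The classifying map on invertible classes. -/
def ψ (T : Over S) (a : PicM (PicF.XT f T)) : T ⟶ P := φ T a.val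

theorem isInvertibleCl_val {Y : Scheme.{u}} (a : PicM Y) : PicF.IsInvertibleCl a.val := by
  obtain ⟨L, hL, rfl⟩ := PicM.exists_eq_of a
  exact ⟨L, rfl, hL⟩

include hP

theorem ψ_pc {T T' : Over S} (g : T' ⟶ T) (a : PicM (PicF.XT f T)) : ψ φ T' (pc g a) = g ≫ ψ φ T a :=
  hP.natural T T' g a.val (isInvertibleCl_val a)

theorem exists_cover (T : Over S) (g : T ⟶ P) : ∃ (ι : Type u) (U : ι → T.left.Etale), EtCoh.Covers U ∧
    ∀ i, ∃ a : PicM (PicF.XT f (PicRel.ovr T (U i))), ψ φ _ a = PicRel.ovrHom T (U i) ≫ g := by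
  obtain ⟨ι, U, hU, h⟩ := hP.locallySurjective T g
  refine ⟨ι, U, hU, fun i => ?_⟩
  obtain ⟨c, ⟨L, rfl, hL⟩, hφ⟩ := h i
  exact ⟨PicM.of hL, hφ⟩

theorem exists_cover_eq (T : Over S) {a b : PicM (PicF.XT f T)} (h : ψ φ T a = ψ φ T b) :
    ∃ (ι : Type u) (U : ι → T.left.Etale), EtCoh.Covers U ∧
      ∀ i, pc (PicRel.ovrHom T (U i)) a = pc (PicRel.ovrHom T (U i)) b := by
  obtain ⟨ι, U, hU, h'⟩ := hP.locallyInjective T a.val b.val (isInvertibleCl_val a) (isInvertibleCl_val b) h
  exact ⟨ι, U, hU, fun i => PicM.ext (h' i)⟩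

theorem exists_rep {T : Over S} (hT : HasSections T) (g : T ⟶ P) : ∃ a, ψ φ T a = g := by
  obtain ⟨ι, U, hU, h⟩ := exists_cover hP T g
  obtain ⟨i, s, hs⟩ := hT ι U hU
  obtain ⟨a, ha⟩ := h i
  exact ⟨pc s a, by rw [ψ_pc hP, ha, reassoc_of% hs]⟩

theorem inj_of_hasSections {T : Over S} (hT : HasSections T) {a b : PicM (PicF.XT f T)} (h : ψ φ T a = ψ φ T b) :
    a = b := by
  obtain ⟨ι, U, hU, h'⟩ := exists_cover_eq hP T h
  obtain ⟨i, s, hs⟩ := hT ι U hU
  have := congrArg (pc s) (h' i)
  rwa [pc_pc, pc_pc, pc_eq_self hs, pc_eq_self hs] at this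

omit hP

/-- A field-valued point of a nonempty scheme locally of finite type over an algebraically closed field. -/
theorem exists_point {k : Type u} [Field k] [IsAlgClosed k] {U : Scheme.{u}} (p : U ⟶ Spec (CommRingCat.of k))
    [LocallyOfFiniteType p] [Nonempty U] : ∃ s : Spec (CommRingCat.of k) ⟶ U, s ≫ p = 𝟙 _ := by
  haveI : JacobsonSpace U := LocallyOfFiniteType.jacobsonSpace p
  obtain ⟨x, -, hx⟩ := nonempty_inter_closedPoints (Z := (Set.univ : Set U)) Set.univ_nonempty isClosed_univ.isLocallyClosed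
  exact ⟨pointOfClosedPoint p x hx, pointOfClosedPoint_comp p x hx⟩

theorem hasSections_field {k : Type u} [Field k] [IsAlgClosed k] (q : Spec (CommRingCat.of k) ⟶ S) :
    HasSections (Over.mk q) := by
  intro ι U hU
  obtain ⟨i, y, -⟩ := hU (IsLocalRing.closedPoint k)
  haveI : Nonempty (U i).left := ⟨y⟩
  obtain ⟨s, hs⟩ := @exists_point k _ _ (U i).left (U i).hom inferInstance ⟨y⟩
  refine ⟨i, Over.homMk s ?_, Over.OverMorphism.ext hs⟩
  show s ≫ (U i).hom ≫ q = q
  rw [reassoc_of% hs]

section Dual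

variable (k : Type u) [Field k]

/-- The point of the dual numbers. -/
noncomputable abbrev tk : Spec (CommRingCat.of k) ⟶ Spec (CommRingCat.of (DualNumber k)) :=
  Spec.map (CommRingCat.ofHom (TrivSqZeroExt.fstHom k k k).toRingHom)

/-- The retraction of the dual numbers to their point. -/
noncomputable abbrev rk : Spec (CommRingCat.of (DualNumber k)) ⟶ Spec (CommRingCat.of k) :=
  Spec.map (CommRingCat.ofHom (algebraMap k (DualNumber k)))

theorem tk_rk : tk k ≫ rk k = 𝟙 _ := by
  rw [← Spec.map_comp, ← Spec.map_id]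
  congr 1

instance : IsClosedImmersion (tk k) :=
  IsClosedImmersion.spec_of_surjective _ fun x => ⟨TrivSqZeroExt.inl x, TrivSqZeroExt.fst_inl k x⟩

instance : Surjective (tk k) := by
  refine ⟨fun p => ?_⟩
  have : (p : PrimeSpectrum (DualNumber k)) ∈ Set.range (PrimeSpectrum.comap (TrivSqZeroExt.fstHom k k k).toRingHom) := by
    rw [range_comap_of_surjective _ _ fun x => ⟨TrivSqZeroExt.inl x, TrivSqZeroExt.fst_inl k x⟩]
    intro x hx
    refine p.isPrime.mem_of_pow_mem 2 ?_
    rw [pow_two, CAlgSmall.fst_mul_eq_zero_mul x x hx hx]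
    exact zero_mem _
  exact this

theorem hasSections_dual [IsAlgClosed k] (q : Spec (CommRingCat.of (DualNumber k)) ⟶ S) :
    HasSections (Over.mk q) := by
  intro ι U hU
  obtain ⟨i, y, hy⟩ := hU ((tk k).base (IsLocalRing.closedPoint k))
  haveI : Nonempty ↥(pullback (U i).hom (tk k)) := by
    obtain ⟨z, -, -⟩ := Scheme.Pullback.exists_preimage_pullback (f := (U i).hom) (g := tk k) y
      (IsLocalRing.closedPoint k) hy
    exact ⟨z⟩
  obtain ⟨s₀, hs₀⟩ := exists_point (k := k) (pullback.snd (U i).hom (tk k))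
  have hker : RingHom.ker (tk k).appTop.hom ^ 2 = ⊥ := by
    rw [pow_two, eq_bot_iff, Ideal.mul_le]
    intro x hx y hy
    rw [Ideal.mem_bot]
    apply (Scheme.ΓSpecIso (CommRingCat.of (DualNumber k))).commRingCatIsoToRingEquiv.injective
    rw [map_mul, map_zero]
    have key : ∀ z, (tk k).appTop z = 0 →
        TrivSqZeroExt.fst ((Scheme.ΓSpecIso (CommRingCat.of (DualNumber k))).hom z) = 0 := by
      intro z hz
      have hnat := congr(($(Scheme.ΓSpecIso_naturality (CommRingCat.ofHom (TrivSqZeroExt.fstHom k k k).toRingHom))).hom z)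
      have : (Scheme.ΓSpecIso (CommRingCat.of k)).hom ((tk k).appTop z) =
          TrivSqZeroExt.fst ((Scheme.ΓSpecIso (CommRingCat.of (DualNumber k))).hom z) := hnat
      exact this.symm.trans ((congrArg _ hz).trans (map_zero _))
    exact CAlgSmall.fst_mul_eq_zero_mul _ _ (key x hx) (key y hy)
  obtain ⟨l, ⟨-, hl⟩, -⟩ := FlatMorGeom.existsUnique_lift_of_isAffine
    ((S1489.result (U i).hom).1 inferInstance).2 (tk k) hker (s₀ ≫ pullback.fst _ _) (𝟙 _) (by
      rw [Category.comp_id, Category.assoc, pullback.condition, reassoc_of% hs₀])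
  refine ⟨i, Over.homMk l ?_, Over.OverMorphism.ext hl⟩
  show l ≫ (U i).hom ≫ q = q
  rw [reassoc_of% hl]

end Dual

/-- `n` is a unit on schemes mapping to the locus where `n` is invertible. -/
theorem isUnit_of_hom {Y Z : Scheme.{u}} (n : ℕ) (g : Y ⟶ (Z.basicOpen (n : Γ(Z, ⊤))).toScheme) :
    IsUnit (n : Γ(Y, ⊤)) := by
  have h := (RingedSpace.isUnit_res_basicOpen _ (n : Γ(Z, ⊤))).map
    ((Z.basicOpen (n : Γ(Z, ⊤))).topIso.inv.hom)
  simpa only [map_natCast] using h.map g.appTop.hom

variable {m : P ⟶ P} {n : ℕ}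

section Main

variable (hm : ∀ (T : Over S) (L : (PicF.XT f T).Modules), PicF.IsInvertible L →
  φ T (PicF.cl (CohB1.tensorPow L n)) = φ T (PicF.cl L) ≫ m)

include hm in
theorem ψ_pow {T : Over S} (a : PicM (PicF.XT f T)) : ψ φ T (a ^ n) = ψ φ T a ≫ m := by
  obtain ⟨L, hL, rfl⟩ := PicM.exists_eq_of a
  rw [← PicM.of_tensorPow hL n]
  exact hm T L hL

include hP hm

/-- The power map is formally unramified on the fibres over algebraically closed fields. -/
theorem formallyUnramified_fibre [LocallyOfFiniteType m.left] {k : Type u} [Field k] [IsAlgClosed k]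
    (y : Spec (CommRingCat.of k) ⟶ P.left) :
    FormallyUnramified (pullback.snd ((P.left.basicOpen (n : Γ(P.left, ⊤))).ι ≫ m.left) y) := by
  refine (CAlgSmall.formallyUnramified_iff_dual k _).2 fun v₁ v₂ h₁ h₂ h₁₂ => ?_
  let T₀ : Over S := Over.mk (y ≫ P.hom)
  let T : Over S := Over.mk (rk k ≫ y ≫ P.hom)
  let it : T₀ ⟶ T := Over.homMk (tk k) (by
    show tk k ≫ rk k ≫ y ≫ P.hom = y ≫ P.hom
    rw [reassoc_of% tk_rk k])
  let rt : T ⟶ T₀ := Over.homMk (rk k) rfl
  let a : ∀ v : Spec (CommRingCat.of (DualNumber k)) ⟶ pullback ((P.left.basicOpen (n : Γ(P.left, ⊤))).ι ≫ m.left) y,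
      v ≫ pullback.snd _ _ = rk k → (T ⟶ P) := fun v hv =>
    Over.homMk (v ≫ pullback.fst _ _ ≫ (P.left.basicOpen (n : Γ(P.left, ⊤))).ι) (by
      have hc := pullback.condition (f := (P.left.basicOpen (n : Γ(P.left, ⊤))).ι ≫ m.left) (g := y)
      show _ = rk k ≫ y ≫ P.hom
      rw [← hv]
      simp only [Category.assoc]
      rw [← reassoc_of% hc, Over.w m])
  have ham : ∀ v hv, (a v hv ≫ m).left = rk k ≫ y := fun v hv => by
    simp only [a, Over.comp_left, Over.homMk_left, Category.assoc]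
    rw [pullback.condition, reassoc_of% hv]
  obtain ⟨M₁, hM₁⟩ := exists_rep hP (hasSections_dual k _) (a v₁ h₁)
  obtain ⟨M₂, hM₂⟩ := exists_rep hP (hasSections_dual k _) (a v₂ h₂)
  have hpow : M₁ ^ n = M₂ ^ n := inj_of_hasSections hP (hasSections_dual k _) (by
    rw [ψ_pow hm, ψ_pow hm, hM₁, hM₂]
    exact Over.OverMorphism.ext ((ham v₁ h₁).trans (ham v₂ h₂).symm))
  have hrest : pc it M₁ = pc it M₂ := inj_of_hasSections hP (hasSections_field _) (by
    rw [ψ_pc hP, ψ_pc hP, hM₁, hM₂]
    refine Over.OverMorphism.ext ?_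
    simp only [a, it, Over.comp_left, Over.homMk_left]
    rw [reassoc_of% h₁₂])
  have hM : M₁ = M₂ := by
    obtain ⟨b, hb⟩ := PicM.exists_mul_eq_one M₂
    suffices hK : M₁ * b = 1 by
      calc M₁ = M₁ * (M₂ * b) := by rw [hb, mul_one]
        _ = (M₁ * b) * M₂ := by rw [mul_assoc, mul_comm b]
        _ = M₂ := by rw [hK, one_mul]
    have h1 : (M₁ * b) ^ n = 1 := by rw [mul_pow, hpow, ← mul_pow, hb, one_pow]
    have h2 : pc it (M₁ * b) = 1 := by rw [map_mul, hrest, ← map_mul, hb, map_one]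
    obtain ⟨K, hK, hKe⟩ := PicM.exists_eq_of (M₁ * b)
    rw [hKe] at h1 h2 ⊢
    rw [← PicM.of_tensorPow hK n] at h1
    obtain ⟨σ⟩ := (PicM.of_eq_one_iff _).1 h1
    rw [PicM.pull_of] at h2
    obtain ⟨e⟩ := (PicM.of_eq_one_iff _).1 h2
    haveI : IsClosedImmersion (PicF.XTmap f it) :=
      MorphismProperty.of_isPullback (isPullback_XTmap f it).flip (inferInstanceAs (IsClosedImmersion (tk k)))
    haveI : Surjective (PicF.XTmap f it) :=
      MorphismProperty.of_isPullback (isPullback_XTmap f it).flip (inferInstanceAs (Surjective (tk k)))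
    have hsplit : PicF.XTmap f it ≫ PicF.XTmap f rt = 𝟙 _ := by
      rw [← XTmap_comp, show it ≫ rt = 𝟙 T₀ from Over.OverMorphism.ext (tk_rk k), XTmap_id]
    refine (PicM.of_eq_one_iff _).2 (H8Coh.nonempty_iso_unit_of_pow (PicF.XTmap f it) n ?_ ?_ hK σ e.symm)
    · exact isUnit_of_hom n (pullback.snd f T₀.hom ≫ tk k ≫ v₁ ≫ pullback.fst _ _)
    · intro v
      refine ⟨(PicF.XTmap f rt).appTop v, ?_⟩
      have := congrArg (fun g => g.appTop v) hsplit
      simp only [Scheme.Hom.comp_appTop, Scheme.Hom.id_appTop] at this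
      exact this
  have h := congrArg CommaMorphism.left (hM₁.symm.trans ((congrArg (ψ φ T) hM).trans hM₂))
  refine pullback.hom_ext ?_ (h₁.trans h₂.symm)
  refine (cancel_mono (P.left.basicOpen (n : Γ(P.left, ⊤))).ι).1 ?_
  simpa [a] using h

variable [IsLocallyNoetherian P.left] [LocallyOfFiniteType m.left]

/-- The power map is locally quasi-finite where `n` is invertible. -/
theorem locallyQuasiFinite : LocallyQuasiFinite ((P.left.basicOpen (n : Γ(P.left, ⊤))).ι ≫ m.left) := by
  refine LocallyQuasiFinite.of_fiberToSpecResidueField _ fun y => ?_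
  let K := P.left.residueField y
  let e : Spec (CommRingCat.of (AlgebraicClosure K)) ⟶ Spec K :=
    Spec.map (CommRingCat.ofHom (algebraMap K (AlgebraicClosure K)))
  have hK := formallyUnramified_fibre hP hm (e ≫ P.left.fromSpecResidueField y)
  have : FormallyUnramified (pullback.snd
      (pullback.snd ((P.left.basicOpen (n : Γ(P.left, ⊤))).ι ≫ m.left) (P.left.fromSpecResidueField y)) e) := by
    rw [← pullbackLeftPullbackSndIso_hom_snd]
    exact (MorphismProperty.cancel_left_of_respectsIso @FormallyUnramified _ _).2 hK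
  haveI : FormallyUnramified (((P.left.basicOpen (n : Γ(P.left, ⊤))).ι ≫ m.left).fiberToSpecResidueField y) := by
    refine MorphismProperty.of_pullback_snd_of_descendsAlong (P := @FormallyUnramified)
      (Q := @Surjective ⊓ @Flat ⊓ @QuasiCompact) (g := e) ⟨⟨inferInstance, ?_⟩, inferInstance⟩ this
    exact (HasRingHomProperty.Spec_iff (P := @Flat)).2 (RingHom.flat_algebraMap_iff.2 inferInstance)
  haveI : LocallyOfFiniteType (((P.left.basicOpen (n : Γ(P.left, ⊤))).ι ≫ m.left).fiberToSpecResidueField y) :=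
    MorphismProperty.pullback_snd _ _ inferInstance
  exact HenselLib.UnramifiedPoints.locallyQuasiFinite_of_unramified _

/-- The power map is smooth where `n` is invertible. -/
theorem smooth : Smooth ((P.left.basicOpen (n : Γ(P.left, ⊤))).ι ≫ m.left) := by
  obtain ⟨ι, U, hU, hrep⟩ := exists_cover hP P (𝟙 P)
  choose c hc using hrep
  let B := P.left.basicOpen (n : Γ(P.left, ⊤))
  let p : ∀ i, ((U i).hom ⁻¹ᵁ B).toScheme ⟶ P.left := fun i => ((U i).hom ⁻¹ᵁ B).ι ≫ (U i).hom
  -- smoothness after pulling back to a member of the covering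
  have key : ∀ j i, Smooth (pullback.snd (p j ≫ m.left) (U i).hom) := by
    intro j i
    let TR : Over S := Over.mk (pullback.snd (p j ≫ m.left) (U i).hom ≫ (U i).hom ≫ P.hom)
    let gi : TR ⟶ PicRel.ovr P (U i) := Over.homMk (pullback.snd (p j ≫ m.left) (U i).hom) rfl
    let gj : TR ⟶ PicRel.ovr P (U j) :=
      Over.homMk (pullback.fst (p j ≫ m.left) (U i).hom ≫ ((U j).hom ⁻¹ᵁ B).ι) (by
        have hc' := pullback.condition (f := p j ≫ m.left) (g := (U i).hom)
        show _ = pullback.snd (p j ≫ m.left) (U i).hom ≫ (U i).hom ≫ P.hom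
        rw [← reassoc_of% hc']
        simp only [p, Category.assoc, Over.w m]
        rfl)
    have hψ : ψ φ TR ((pc gj (c j)) ^ n) = ψ φ TR (pc gi (c i)) := by
      rw [ψ_pow hm, ψ_pc hP, ψ_pc hP, hc, hc, Category.comp_id, Category.comp_id]
      refine Over.OverMorphism.ext ?_
      simp only [gi, gj, Over.comp_left, Over.homMk_left, Category.assoc]
      exact (by simp [p] : _ = (pullback.fst (p j ≫ m.left) (U i).hom ≫ p j ≫ m.left)).trans pullback.condition
    obtain ⟨κ, W, hW, hWeq⟩ := exists_cover_eq hP TR hψ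
    suffices hpiece : ∀ l, Smooth ((W l).hom ≫ pullback.snd (p j ≫ m.left) (U i).hom) by
      obtain ⟨he, hs, -⟩ := SGA3cLib.EtaleCover.exists_sigma (fun l => (W l).left) (fun l => (W l).hom)
        (fun x => hW x)
      haveI := he
      haveI : Surjective (Sigma.desc fun l => (W l).hom) := hs
      haveI : LocallyOfFinitePresentation (Sigma.desc fun l => (W l).hom) :=
        IsZariskiLocalAtSource.sigmaDesc fun l => inferInstance
      haveI : Flat (Sigma.desc fun l => (W l).hom) := IsZariskiLocalAtSource.sigmaDesc fun l => inferInstance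
      refine AlgSpLib.smooth_of_comp_fppf (Sigma.desc fun l => (W l).hom) _ ?_
      rw [show Sigma.desc (fun l => (W l).hom) ≫ pullback.snd (p j ≫ m.left) (U i).hom =
        Sigma.desc (fun l => (W l).hom ≫ pullback.snd (p j ≫ m.left) (U i).hom) from Sigma.hom_ext _ _ (by simp)]
      exact IsZariskiLocalAtSource.sigmaDesc hpiece
    intro l
    haveI : LocallyOfFinitePresentation (p j ≫ m.left) := LocallyOfFinitePresentation.iff_locallyOfFiniteType.2 inferInstance
    have hfs : MoreMor.IsFormallySmoothHom ((W l).hom ≫ pullback.snd (p j ≫ m.left) (U i).hom) := by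
      intro A _ I hI a b w
      let t := Spec.map (CommRingCat.ofHom (Ideal.Quotient.mk I))
      haveI : IsClosedImmersion t := IsClosedImmersion.spec_of_surjective _ Ideal.Quotient.mk_surjective
      haveI : Surjective t := by
        refine ⟨fun q => ?_⟩
        have : (q : PrimeSpectrum A) ∈ Set.range (PrimeSpectrum.comap (Ideal.Quotient.mk I)) := by
          rw [range_comap_of_surjective _ _ Ideal.Quotient.mk_surjective, Ideal.mk_ker]
          intro x hx
          refine q.isPrime.mem_of_pow_mem 2 ?_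
          have h := Ideal.pow_mem_pow hx 2
          rw [hI, Ideal.mem_bot] at h
          rw [h]
          exact zero_mem _
        exact this
      let T : Over S := Over.mk (b ≫ (U i).hom ≫ P.hom)
      let T₀ : Over S := Over.mk (t ≫ b ≫ (U i).hom ≫ P.hom)
      let it : T₀ ⟶ T := Over.homMk t rfl
      let bT : T ⟶ PicRel.ovr P (U i) := Over.homMk b rfl
      let aT : T₀ ⟶ PicRel.ovr TR (W l) := Over.homMk a (by
        show a ≫ (W l).hom ≫ pullback.snd _ _ ≫ (U i).hom ≫ P.hom = t ≫ b ≫ (U i).hom ≫ P.hom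
        have h := congrArg (fun z => z ≫ (U i).hom ≫ P.hom) w
        simp only [Category.assoc] at h
        exact h.symm)
      have hNM : (pc aT (pc (PicRel.ovrHom TR (W l)) (pc gj (c j)))) ^ n = pc it (pc bT (c i)) := by
        rw [← map_pow, ← map_pow, hWeq l, pc_pc, pc_pc, pc_pc]
        have : (aT ≫ PicRel.ovrHom TR (W l)) ≫ gi = it ≫ bT := by
          refine Over.OverMorphism.ext ?_
          simp only [gi, aT, it, bT, Over.comp_left, Over.homMk_left, Category.assoc]
          exact w.symm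
        rw [this]
      obtain ⟨M, hM, hMe⟩ := PicM.exists_eq_of (pc aT (pc (PicRel.ovrHom TR (W l)) (pc gj (c j))))
      obtain ⟨N, hN, hNe⟩ := PicM.exists_eq_of (pc bT (c i))
      rw [hMe, hNe, ← PicM.of_tensorPow hM n, PicM.pull_of] at hNM
      obtain ⟨σ⟩ := (PicM.of_eq_iff _ _).1 hNM
      haveI : IsClosedImmersion (PicF.XTmap f it) :=
        MorphismProperty.of_isPullback (isPullback_XTmap f it).flip (inferInstanceAs (IsClosedImmersion t))
      haveI : Surjective (PicF.XTmap f it) :=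
        MorphismProperty.of_isPullback (isPullback_XTmap f it).flip (inferInstanceAs (Surjective t))
      obtain ⟨L, hL, ⟨e₁⟩, ⟨e₂⟩⟩ := H8Coh.exists_root_lift' (PicF.XTmap f it) n
        (isUnit_of_hom n (pullback.snd f T₀.hom ≫ a ≫ (W l).hom ≫ pullback.fst _ _ ≫ ((U j).hom ∣_ B))) hM hN σ
      have h1 : PicM.of hL ^ n = pc bT (c i) := by
        rw [hNe, ← PicM.of_tensorPow hL n]
        exact (PicM.of_eq_iff _ _).2 ⟨e₁⟩
      have h2 : pc it (PicM.of hL) = pc aT (pc (PicRel.ovrHom TR (W l)) (pc gj (c j))) := by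
        rw [hMe, PicM.pull_of]
        exact (PicM.of_eq_iff _ _).2 ⟨e₂⟩
      have e1 := congrArg (fun x => (ψ φ T x).left) h1
      have e2 := congrArg (fun x => (ψ φ T₀ x).left) h2
      simp only [ψ_pow hm, ψ_pc hP, hc, Category.comp_id, Over.comp_left] at e1 e2
      simp only [bT, it, aT, gj, Over.homMk_left] at e1 e2
      have hpe : Etale (p j) := inferInstance
      obtain ⟨l₁, ⟨hl₁, hl₁'⟩, -⟩ := ((S1489.result (p j)).1 hpe).2 A I hI
        (a ≫ (W l).hom ≫ pullback.fst _ _) (ψ φ T (PicM.of hL)).left (by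
          rw [e2]
          simp [p])
      let r : Spec (CommRingCat.of A) ⟶ pullback (p j ≫ m.left) (U i).hom := pullback.lift l₁ b (by
        rw [reassoc_of% hl₁', e1])
      obtain ⟨l₂, ⟨hl₂, hl₂'⟩, -⟩ := ((S1489.result (W l).hom).1 inferInstance).2 A I hI a r (by
        apply pullback.hom_ext
        · refine (Category.assoc _ _ _).trans ((congrArg (t ≫ ·) (pullback.lift_fst _ _ _)).trans (hl₁.trans ?_))
          exact (Category.assoc _ _ _).symm
        · refine (Category.assoc _ _ _).trans ((congrArg (t ≫ ·) (pullback.lift_snd _ _ _)).trans (w.trans ?_))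
          exact (Category.assoc _ _ _).symm)
      exact ⟨l₂, hl₂, by rw [reassoc_of% hl₂', pullback.lift_snd]⟩
    refine ⟨fun {V} hV {O} hO e => ?_⟩
    have h1 := Scheme.Hom.finitePresentation_appLE ((W l).hom ≫ pullback.snd (p j ≫ m.left) (U i).hom) hV hO e
    have h2 := FlatMorGeom.formallySmooth_appLE_of_isFormallySmoothHom _ hfs hO hV e
    algebraize [(((W l).hom ≫ pullback.snd (p j ≫ m.left) (U i).hom).appLE V O e).hom]
    exact ⟨h2, h1⟩
  -- descend along the covering of the target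
  have hpm : ∀ j, Smooth (p j ≫ m.left) := by
    intro j
    obtain ⟨-, -, hcov⟩ := SGA3cLib.EtaleCover.exists_sigma (fun i => (U i).left) (fun i => (U i).hom) (fun x => hU x)
    refine hcov.descend @Smooth _ ?_
    refine IsZariskiLocalAtTarget.of_openCover (sigmaOpenCover fun i => (U i).left) fun i => ?_
    let q := Sigma.desc fun i => (U i).hom
    have sq := (IsPullback.of_hasPullback (pullback.snd (p j ≫ m.left) q)
      ((sigmaOpenCover fun i => (U i).left).f i)).paste_horiz (IsPullback.of_hasPullback (p j ≫ m.left) q)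
    rw [show (sigmaOpenCover fun i => (U i).left).f i ≫ q = (U i).hom from Sigma.ι_desc _ _] at sq
    change Smooth (pullback.snd (pullback.snd (p j ≫ m.left) q) _)
    rw [← sq.isoPullback_hom_snd]
    exact (MorphismProperty.cancel_left_of_respectsIso @Smooth _ _).2 (key j i)
  -- descend along the covering of the source
  obtain ⟨he, hs, -⟩ := SGA3cLib.EtaleCover.exists_sigma (fun j => ((U j).hom ⁻¹ᵁ B).toScheme)
    (fun j => (U j).hom ∣_ B) (fun x : B.toScheme => by
      obtain ⟨j, w, hw⟩ := hU x.1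
      refine ⟨j, ⟨w, show (U j).hom w ∈ B from hw.symm ▸ x.2⟩, Subtype.ext ?_⟩
      exact (congrArg (fun z : ((U j).hom ⁻¹ᵁ B).toScheme ⟶ P.left => z.base ⟨w, show (U j).hom w ∈ B from hw.symm ▸ x.2⟩) (morphismRestrict_ι (U j).hom B)).trans hw)
  refine AlgSpLib.smooth_of_comp_fppf (Sigma.desc fun j => (U j).hom ∣_ B) _ ?_
  rw [show Sigma.desc (fun j => (U j).hom ∣_ B) ≫ B.ι ≫ m.left = Sigma.desc (fun j => p j ≫ m.left) from
    Sigma.hom_ext _ _ fun j => by
      rw [Sigma.ι_desc_assoc, Sigma.ι_desc, morphismRestrict_ι_assoc]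
      rfl]
  exact IsZariskiLocalAtSource.sigmaDesc hpm

/-- The power map is etale where `n` is invertible. -/
theorem etale : Etale ((P.left.basicOpen (n : Γ(P.left, ⊤))).ι ≫ m.left) := by
  have hs := smooth hP hm
  have hq := locallyQuasiFinite hP hm
  refine ⟨fun {V} hV {O} hO e => ?_⟩
  have h1 := Scheme.Hom.smooth_appLE ((P.left.basicOpen (n : Γ(P.left, ⊤))).ι ≫ m.left) hV hO e
  have h2 := LocallyQuasiFinite.quasiFinite_appLE (f := (P.left.basicOpen (n : Γ(P.left, ⊤))).ι ≫ m.left) hV hO e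
  algebraize [(((P.left.basicOpen (n : Γ(P.left, ⊤))).ι ≫ m.left).appLE V O e).hom]
  exact SmoothLib.etale_of_smooth_of_quasiFinite Γ(P.left, V) _

end Main

end Groth.Agent.H8Coh.NthPower
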