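import Groth.Agent.H8Coh.SmoothArtin
import Groth.Agent.H8Coh.NthPower
import Groth.Agent.PicDef15.Adic
import Groth.Agent.PicDef15.ClosedFibre
import Groth.Agent.Coherent.CohBC.Relative
import Groth.Agent.CubeLib.FibreRankLoci

/-!
# The relative Picard scheme is smooth over the locus where the fibres have no `H²`
-/

set_option autoImplicit false
set_option backward.isDefEq.respectTransparency.types false
set_option linter.style.haveILetI false

universe u

open CategoryTheory CategoryTheory.Limits AlgebraicGeometry TopologicalSpace TensorProduct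
open Groth.Agent.PicLib Groth.Agent.PicDef15 Groth.Agent.Coherent

namespace Groth.Agent.H8Coh.PicSmooth

theorem subsingleton_HH_of_iso {Y : Scheme.{u}} {M N : Y.Modules} (e : M ≅ N) (n : ℕ)
    (h : Subsingleton (Coh.HH Y M n)) : Subsingleton (Coh.HH Y N n) := by
  refine subsingleton_of_forall_eq 0 fun x => ?_
  have e1 : Sheaf.H.map ((toAbFunctor Y).map e.hom) n (Sheaf.H.map ((toAbFunctor Y).map e.inv) n x) = x := by
    rw [← Sheaf.H.map_comp_apply, ← Functor.map_comp, e.inv_hom_id, CategoryTheory.Functor.map_id,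
      Sheaf.H.map_id_apply]
  rw [← e1, Subsingleton.elim (Sheaf.H.map ((toAbFunctor Y).map e.inv) n x) 0, map_zero]

/-- Invertible modules lift along small extensions when `H²` of the closed fibre vanishes. -/
theorem exists_lift_small {C : Type u} [CommRing C] [IsLocalRing C] [IsArtinianRing C] {J : Ideal C}
    (hJ : J ^ 2 = ⊥) (hmJ : ∀ c ∈ IsLocalRing.maximalIdeal C, ∀ j ∈ J, c * j = 0)
    {Y : Scheme.{u}} (g : Y ⟶ Spec (CommRingCat.of C)) [IsSeparated g] [Flat g]
    (h2 : Subsingleton (Coh.HH (pullback g (Spec.map (CommRingCat.ofHom (IsLocalRing.residue C))))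
      (Coh.structureModule _) 2))
    {Z : Scheme.{u}} {t : Z ⟶ Y} {g' : Z ⟶ Spec (CommRingCat.of (C ⧸ J))}
    (hsq : IsPullback t g' g (Spec.map (CommRingCat.ofHom (Ideal.Quotient.mk J))))
    {M : Z.Modules} (hM : PicF.IsInvertible M) :
    ∃ L : Y.Modules, PicF.IsInvertible L ∧ Nonempty ((Scheme.Modules.pullback t).obj L ≅ M) := by
  haveI := IsClosedImmersion.spec_of_surjective (CommRingCat.ofHom (Ideal.Quotient.mk J)) Ideal.Quotient.mk_surjective
  haveI : IsClosedImmersion t := MorphismProperty.of_isPullback (P := @IsClosedImmersion) hsq.flip inferInstance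
  haveI := IsClosedImmersion.spec_of_surjective (CommRingCat.ofHom (IsLocalRing.residue C)) IsLocalRing.residue_surjective
  haveI : Y.IsSeparated := ⟨by
    rw [← terminal.comp_from g]
    infer_instance⟩
  have hI : ∀ V : Y.affineOpens, t.ker.ideal V = J.map (phi g V.1) := fun V => by
    rw [ideal_ker_of_isPullback _ Ideal.Quotient.mk_surjective hsq V, Ideal.mk_ker]
  have hI2 : t.ker ^ 2 = ⊥ := sq_eq_bot g hI (by rw [← pow_two]; exact hJ)
  have hMJ : IsLocalRing.maximalIdeal C * J = ⊥ := by
    rw [eq_bot_iff, Ideal.mul_le]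
    exact fun c hc j hj => Ideal.mem_bot.2 (hmJ c hc j hj)
  obtain ⟨r, b, hb, hindep⟩ := exists_indep_gens (IsNoetherian.noetherian J)
  have hH2 : Subsingleton (Coh.HH Y (ClSub.idealMod t.ker) 2) :=
    subsingleton_HH_step g (pullback.fst g (Spec.map (CommRingCat.ofHom (IsLocalRing.residue C)))) b hb hMJ
      (fun c hc => hindep c (by rw [hc]; exact zero_mem _)) hI
      (fun V => by
        rw [ideal_ker_of_isPullback _ IsLocalRing.residue_surjective (IsPullback.of_hasPullback _ _) V,
          IsLocalRing.ker_residue])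
      2 h2
  obtain ⟨L, hL, ⟨e⟩⟩ := exists_invertible_lift t.ker hI2 hH2 (PicLoc.isInvertible_pullback (inv t.toImage) hM)
  obtain ⟨e'⟩ := pullback_iso_from_image t L
  exact ⟨L, hL, ⟨e' ≪≫ (Scheme.Modules.pullback t.toImage).mapIso e ≪≫
    (Scheme.Modules.pullbackComp t.toImage (inv t.toImage)).app M ≪≫
    (Scheme.Modules.pullbackCongr (IsIso.hom_inv_id t.toImage)).app M ≪≫
    (Scheme.Modules.pullbackId Z).app M⟩⟩

variable {X S : Scheme.{u}} (f : X ⟶ S)

/-- Vanishing of the fibre cohomology of the structure sheaf passes to field-valued points. -/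
theorem subsingleton_HH_point [QuasiCompact f] [QuasiSeparated f] (p : ℕ) {K : Type u} [Field K]
    (gK : Spec (CommRingCat.of K) ⟶ S)
    (h : Subsingleton (CohIII.fiberH f (Coh.structureModule X) (gK (IsLocalRing.closedPoint K)) p)) :
    Subsingleton (Coh.HH (pullback f gK) (Coh.structureModule _) p) := by
  let y := gK (IsLocalRing.closedPoint K)
  let φ : S.residueField y ⟶ CommRingCat.of K := S.descResidueField (Scheme.stalkClosedPointTo gK)
  have hφ : Spec.map φ ≫ S.fromSpecResidueField y = gK :=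
    Scheme.descResidueField_stalkClosedPointTo_fromSpecResidueField K S gK
  let π := f.fiberToSpecResidueField y
  let t : pullback f gK ⟶ f.fiber y := pullback.lift (pullback.fst f gK) (pullback.snd f gK ≫ Spec.map φ)
    (by rw [Category.assoc, hφ, pullback.condition])
  have hsq : IsPullback t (pullback.snd f gK) π (Spec.map φ) := by
    refine IsPullback.of_right ?_ (pullback.lift_snd _ _ _) (IsPullback.of_hasPullback f (S.fromSpecResidueField y))
    rw [show t ≫ pullback.fst f (S.fromSpecResidueField y) = pullback.fst f gK from pullback.lift_fst _ _ _, hφ]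
    exact IsPullback.of_hasPullback f gK
  letI : (f.fiber y).Over (Spec (CommRingCat.of (S.residueField y))) := ⟨π⟩
  letI : (pullback f gK).Over (Spec (CommRingCat.of K)) := ⟨pullback.snd f gK⟩
  letI : Algebra (S.residueField y) K := φ.hom.toAlgebra
  haveI : QuasiCompact π := MorphismProperty.pullback_snd (P := @QuasiCompact) _ _ inferInstance
  haveI : QuasiSeparated π := MorphismProperty.pullback_snd (P := @QuasiSeparated) _ _ inferInstance
  haveI : CompactSpace ↥(f.fiber y) := QuasiCompact.compactSpace_of_compactSpace π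
  haveI : QuasiSeparatedSpace ↥(f.fiber y) :=
    (HasAffineProperty.iff_of_isAffine (P := @QuasiSeparated) (f := π)).mp inferInstance
  haveI : Coh.IsQCoh (Coh.structureModule X) := isQCoh_structureModule
  haveI : Coh.IsQCoh (CohIII.fiberMod f (Coh.structureModule X) y) := EGA43.InjFibre.isQCoh_pullback _ _
  obtain ⟨eb⟩ := nonempty_flat_base_change (A := S.residueField y) (B := K) (g := t)
    (M := CohIII.fiberMod f (Coh.structureModule X) y) hsq p
  haveI : Subsingleton (Coh.HH (f.fiber y) (CohIII.fiberMod f (Coh.structureModule X) y) p) := h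
  have h' : Subsingleton (Coh.HH (pullback f gK) (bcSheaf t (CohIII.fiberMod f (Coh.structureModule X) y)) p) :=
    eb.toEquiv.symm.subsingleton
  obtain ⟨e₁⟩ := AmpleLib.exists_pullStructureIso (X := X) (f.fiberι y)
  obtain ⟨e₂⟩ := AmpleLib.exists_pullStructureIso t
  exact subsingleton_HH_of_iso ((Scheme.Modules.pullback t).mapIso e₁ ≪≫ e₂) p h'

variable {f} [IsLocallyNoetherian S] [IsProper f] [Flat f]
  {P : Over S} [LocallyOfFiniteType P.hom] {φ : ∀ T : Over S, PicF.Cl (PicF.XT f T) → (T ⟶ P)}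

/-- Smoothness over an open where `H²` of the fibres vanishes. -/
theorem smooth_over (hP : PicRel.IsRelPic f P φ) (U : S.Opens)
    (hU : ∀ y ∈ U, Subsingleton (CohIII.fiberH f (Coh.structureModule X) y 2)) :
    Smooth ((P.hom ⁻¹ᵁ U).ι ≫ P.hom) := by
  haveI : IsLocallyNoetherian P.left := LocallyOfFiniteType.isLocallyNoetherian P.hom
  obtain ⟨ι, W, hW, hrep⟩ := NthPower.exists_cover hP P (𝟙 P)
  choose c hc using hrep
  let B := P.hom ⁻¹ᵁ U
  let p : ∀ j, ((W j).hom ⁻¹ᵁ B).toScheme ⟶ P.left := fun j => ((W j).hom ⁻¹ᵁ B).ι ≫ (W j).hom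
  have hpm : ∀ j, Smooth (p j ≫ P.hom) := by
    intro j
    refine H8Coh.smooth_of_liftsSmall _ ?_
    intro C _ _ _ J hJ hmJ a b w
    let t := Spec.map (CommRingCat.ofHom (Ideal.Quotient.mk J))
    let T : Over S := Over.mk b
    let T₀ : Over S := Over.mk (t ≫ b)
    let it : T₀ ⟶ T := Over.homMk t rfl
    let aT : T₀ ⟶ PicRel.ovr P (W j) := Over.homMk (a ≫ ((W j).hom ⁻¹ᵁ B).ι) (by
      show _ = t ≫ b
      rw [w]
      simp only [p, Category.assoc]
      rfl)
    obtain ⟨M, hM, hMe⟩ := PicM.exists_eq_of (NthPower.pc aT (c j))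
    have h2 : Subsingleton (Coh.HH (pullback (pullback.snd f T.hom)
        (Spec.map (CommRingCat.ofHom (IsLocalRing.residue C)))) (Coh.structureModule _) 2) := by
      let r := Spec.map (CommRingCat.ofHom (IsLocalRing.residue C))
      refine PicDef15.subsingleton_HH_of_isIso (pullbackLeftPullbackSndIso f b r).inv 2
        (subsingleton_HH_point f 2 (r ≫ b) (hU _ ?_))
      obtain ⟨z, hz⟩ := H8Coh.surjective_specMap_mk J hJ (r (IsLocalRing.closedPoint _))
      rw [Scheme.Hom.comp_apply, ← hz, ← Scheme.Hom.comp_apply, w]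
      exact (a z).2
    haveI : Flat (pullback.snd f T.hom) := MorphismProperty.pullback_snd (P := @Flat) _ _ inferInstance
    haveI : IsSeparated (pullback.snd f T.hom) := MorphismProperty.pullback_snd (P := @IsSeparated) _ _ inferInstance
    obtain ⟨L, hL, ⟨e⟩⟩ := exists_lift_small hJ hmJ (pullback.snd f T.hom) h2
      (NthPower.isPullback_XTmap f it) hM
    have h1 : NthPower.pc it (PicM.of hL) = NthPower.pc aT (c j) := by
      rw [hMe, PicM.pull_of]
      exact (PicM.of_eq_iff _ _).2 ⟨e⟩
    have e1 := congrArg (fun x => (NthPower.ψ φ T₀ x).left) h1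
    simp only [NthPower.ψ_pc hP, hc, Category.comp_id, Over.comp_left] at e1
    simp only [it, aT, Over.homMk_left] at e1
    have hpe : Etale (p j) := inferInstance
    obtain ⟨l, ⟨hl₁, hl₂⟩, -⟩ := ((S1489.result (p j)).1 hpe).2 C J hJ a (NthPower.ψ φ T (PicM.of hL)).left (by
      rw [e1]
      simp [p])
    refine ⟨l, hl₁, ?_⟩
    rw [reassoc_of% hl₂]
    exact Over.w _
  obtain ⟨he, hs, -⟩ := SGA3cLib.EtaleCover.exists_sigma (fun j => ((W j).hom ⁻¹ᵁ B).toScheme)
    (fun j => (W j).hom ∣_ B) (fun x : B.toScheme => by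
      obtain ⟨j, w, hw⟩ := hW x.1
      refine ⟨j, ⟨w, show (W j).hom w ∈ B from hw.symm ▸ x.2⟩, Subtype.ext ?_⟩
      exact (congrArg (fun z : ((W j).hom ⁻¹ᵁ B).toScheme ⟶ P.left => z.base ⟨w, show (W j).hom w ∈ B from hw.symm ▸ x.2⟩)
        (morphismRestrict_ι (W j).hom B)).trans hw)
  refine AlgSpLib.smooth_of_comp_fppf (Sigma.desc fun j => (W j).hom ∣_ B) _ ?_
  rw [show Sigma.desc (fun j => (W j).hom ∣_ B) ≫ B.ι ≫ P.hom = Sigma.desc (fun j => p j ≫ P.hom) from
    Sigma.hom_ext _ _ fun j => by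
      rw [Sigma.ι_desc_assoc, Sigma.ι_desc, morphismRestrict_ι_assoc]
      rfl]
  exact IsZariskiLocalAtSource.sigmaDesc hpm

end Groth.Agent.H8Coh.PicSmooth
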