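import Groth.Agent.CubeLib.PrimeStep
import Groth.Agent.EGA43.ClopenLift.Main
import Groth.Agent.FlatMorLocalStr.SmoothFibres
import Groth.Agent.NeronLib.Regular
import Groth.Agent.CAlgH3.Factorial
import Groth.Agent.CAlgH3.RegularLocal
import Groth.Agent.S0234

/-!
# Invertible modules on smooth proper schemes over henselian discrete valuation rings

A class trivial on the generic fibre is trivial, and every class on the generic fibre extends.
-/

set_option autoImplicit false
set_option backward.isDefEq.respectTransparency.types false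
set_option linter.style.haveILetI false
set_option maxHeartbeats 800000

universe u

open CategoryTheory CategoryTheory.Limits AlgebraicGeometry TopologicalSpace Opposite TensorProduct
open Groth.Agent.PicLib Groth.Agent.Coherent Groth.Agent.AmpleLib Groth.Agent.CubeLib

namespace Groth.Agent.H8Coh.SmoothDVR

variable {C : Type u} [CommRing C] [IsDomain C] [IsDiscreteValuationRing C]

theorem isLocalization_away {p : C} (hp : Irreducible p) (F : Type u) [Field F] [Algebra C F]
    [IsFractionRing C F] : IsLocalization.Away p F := by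
  refine IsLocalization.Away.mk p (IsUnit.mk0 _ fun h => hp.ne_zero
    ((map_eq_zero_iff _ (IsFractionRing.injective C F)).1 h)) (fun z => ?_) (fun a b h => ?_)
  · obtain ⟨a, b, hb, rfl⟩ := IsFractionRing.div_surjective C z
    obtain ⟨n, u, hu⟩ := IsDiscreteValuationRing.eq_unit_mul_pow_irreducible (nonZeroDivisors.ne_zero hb) hp
    refine ⟨n, a * ↑u⁻¹, ?_⟩
    have hb0 : algebraMap C F b ≠ 0 := fun h =>
      nonZeroDivisors.ne_zero hb ((map_eq_zero_iff _ (IsFractionRing.injective C F)).1 h)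
    rw [div_mul_eq_mul_div, div_eq_iff hb0, ← map_pow, ← map_mul, ← map_mul]
    congr 1
    rw [hu]
    calc a * p ^ n = a * (↑u⁻¹ * ↑u) * p ^ n := by rw [Units.inv_mul, mul_one]
      _ = _ := by ring
  · exact ⟨0, by simpa using IsFractionRing.injective C F h⟩

variable {Y : Scheme.{u}} (π : Y ⟶ Spec (CommRingCat.of C))

/-- The closed fibre. -/
noncomputable abbrev Y₀ : Scheme.{u} :=
  pullback π (Spec.map (CommRingCat.ofHom (algebraMap C (C ⧸ IsLocalRing.maximalIdeal C))))

/-- Its inclusion. -/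
noncomputable abbrev σ₀ : Y₀ π ⟶ Y :=
  pullback.fst π (Spec.map (CommRingCat.ofHom (algebraMap C (C ⧸ IsLocalRing.maximalIdeal C))))

theorem mem_range_σ₀ {y : Y} (h : π y = IsLocalRing.closedPoint C) : y ∈ Set.range (σ₀ π) := by
  rw [show σ₀ π = pullback.fst π _ from rfl, Scheme.Pullback.range_fst]
  refine Set.mem_preimage.2 ?_
  show π y ∈ Set.range (PrimeSpectrum.comap (algebraMap C (C ⧸ IsLocalRing.maximalIdeal C)))
  rw [_root_.range_comap_of_surjective (C ⧸ IsLocalRing.maximalIdeal C)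
    (algebraMap C (C ⧸ IsLocalRing.maximalIdeal C)) Ideal.Quotient.mk_surjective, Ideal.Quotient.algebraMap_eq,
    Ideal.mk_ker, h]
  exact fun a ha => ha

theorem apply_σ₀ (z : Y₀ π) : π (σ₀ π z) = IsLocalRing.closedPoint C := by
  letI : Field (C ⧸ IsLocalRing.maximalIdeal C) := Ideal.Quotient.field _
  rw [← Scheme.Hom.comp_apply, pullback.condition, Scheme.Hom.comp_apply]
  exact (congrArg _ (Subsingleton.elim (α := PrimeSpectrum (C ⧸ IsLocalRing.maximalIdeal C)) _
    (IsLocalRing.closedPoint (C ⧸ IsLocalRing.maximalIdeal C)))).trans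
    (IsLocalRing.comap_closedPoint (IsLocalRing.residue C))

/-- A closed set missing the closed fibre of a proper scheme is empty. -/
theorem eq_empty_of_preimage [IsProper π] {A : Set Y} (hA : IsClosed A) (h : σ₀ π ⁻¹' A = ∅) : A = ∅ := by
  by_contra hne
  obtain ⟨y, hy⟩ := Set.nonempty_iff_ne_empty.2 hne
  have hcl : IsClosed (π '' A) := π.isClosedMap A hA
  obtain ⟨y', hy', hy'c⟩ : IsLocalRing.closedPoint C ∈ π '' A :=
    (IsLocalRing.specializes_closedPoint (π y)).mem_closed hcl ⟨y, hy, rfl⟩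
  obtain ⟨z, rfl⟩ := mem_range_σ₀ π hy'c
  exact Set.eq_empty_iff_forall_notMem.1 h z hy'

variable [IsProper π] [Smooth π]

/-- A class trivial on the generic fibre is trivial on an open piece with connected closed fibre. -/
theorem eq_one_of_gen_piece (W : Y.Opens) (w : Y₀ π)
    (hW : σ₀ π ⁻¹' (W : Set Y) = connectedComponent w) {p : C} (hp : Irreducible p) {L : Y.Modules}
    (hL : PicF.IsInvertible L) {t : Γ(L, Y.basicOpen (baseFun π p))} (ht : IsGen L _ t) :
    PicM.pull W.ι (PicM.of hL) = 1 := by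
  let I := IsLocalRing.maximalIdeal C
  letI : Field (C ⧸ I) := Ideal.Quotient.field I
  let i : Spec (CommRingCat.of (C ⧸ I)) ⟶ Spec (CommRingCat.of C) :=
    Spec.map (CommRingCat.ofHom (algebraMap C (C ⧸ I)))
  let P := W.toScheme
  let πP : P ⟶ Spec (CommRingCat.of C) := W.ι ≫ π
  let P₀ := pullback πP i
  let σ : P₀ ⟶ P := pullback.fst πP i
  let π₀ : P₀ ⟶ Spec (CommRingCat.of (C ⧸ I)) := pullback.snd πP i
  have H₀ : IsPullback σ π₀ πP i := IsPullback.of_hasPullback πP i
  -- the closed fibre of the piece is integral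
  let m : P₀ ⟶ Y₀ π := pullback.lift (σ ≫ W.ι) π₀ (by rw [Category.assoc]; exact pullback.condition)
  have hm : IsPullback m σ (σ₀ π) W.ι := by
    refine IsPullback.flip (IsPullback.of_bot ?_ (pullback.lift_fst _ _ _).symm (IsPullback.of_hasPullback π i))
    rw [pullback.lift_snd]
    exact IsPullback.of_hasPullback πP i
  haveI : IsOpenImmersion m :=
    MorphismProperty.IsStableUnderBaseChange.of_isPullback (P := @IsOpenImmersion) hm.flip inferInstance
  have hrange : Set.range m = connectedComponent w := by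
    rw [← hW, ← Scheme.Opens.range_ι W, ← hm.isoPullback_hom_fst, Scheme.Hom.comp_base, TopCat.coe_comp,
      Set.range_comp, Set.range_eq_univ.2 hm.isoPullback.hom.surjective, Set.image_univ, Scheme.Pullback.range_fst]
  haveI : Smooth (pullback.snd π i) := inferInstance
  haveI : IrreducibleSpace P₀ := by
    have hirr := FlatMorLocalStr.isIrreducible_connectedComponent (pullback.snd π i) w
    rw [← hrange] at hirr
    refine (irreducibleSpace_def _).2 ⟨?_, fun u v hu hv ⟨x, _, hxu⟩ ⟨y, _, hyv⟩ => ?_⟩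
    · obtain ⟨_, z, -⟩ := hirr.1
      exact ⟨z, trivial⟩
    · obtain ⟨_, ⟨z, rfl⟩, hzu, hzv⟩ := hirr.2 _ _ (m.isOpenEmbedding.isOpenMap u hu)
        (m.isOpenEmbedding.isOpenMap v hv) ⟨m x, ⟨x, rfl⟩, x, hxu, rfl⟩ ⟨m y, ⟨y, rfl⟩, y, hyv, rfl⟩
      obtain ⟨a, ha, hea⟩ := hzu
      obtain ⟨b, hb, heb⟩ := hzv
      exact ⟨z, trivial, m.isOpenEmbedding.injective hea ▸ ha, m.isOpenEmbedding.injective heb ▸ hb⟩
  haveI : Smooth π₀ := MorphismProperty.of_isPullback H₀ inferInstance
  haveI : IsReduced P₀ := FlatMorLocalStr.isReduced_of_smooth_field π₀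
  haveI : IsIntegral P₀ := isIntegral_of_irreducibleSpace_of_isReduced _
  let _ : P.Over (Spec (CommRingCat.of C)) := ⟨πP⟩
  let _ : P₀.Over (Spec (CommRingCat.of (C ⧸ I))) := ⟨π₀⟩
  have H₀' : IsPullback σ (P₀ ↘ Spec (CommRingCat.of (C ⧸ I))) (P ↘ Spec (CommRingCat.of C))
      (Spec.map (CommRingCat.ofHom (algebraMap C (C ⧸ I)))) := H₀
  haveI : IsAffineHom σ := MorphismProperty.IsStableUnderBaseChange.of_isPullback
    (P := @IsAffineHom) H₀'.flip inferInstance
  have hker : ∀ U : P.Opens, IsAffineOpen U → ∀ c, σ.app U c = 0 ↔ resW (baseFun πP p) U ∣ c := by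
    intro U hU c
    let ρ : C →+* Γ(P, U) := (P.presheaf.map (homOfLE (le_top (a := U))).op).hom.comp
      (Coh.toGlobal (X := P) (A := C) πP)
    letI : Algebra C Γ(P, U) := ρ.toAlgebra
    obtain ⟨Φ, hΦ⟩ := exists_ringEquiv_of_isPushout (isBCPushout_of_isPullback σ H₀' hU)
    have e : σ.app U c = Φ (c ⊗ₜ (1 : C ⧸ I)) := by
      rw [hΦ]
      exact ((congrArg (σ.app U c * ·) (map_one _)).trans (_root_.mul_one _)).symm
    rw [e, map_eq_zero_iff _ Φ.injective]
    have h1 : (c ⊗ₜ[C] (1 : C ⧸ I)) = 0 ↔ c ∈ I.map ρ := by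
      rw [← Ideal.Quotient.eq_zero_iff_mem (I := I.map ρ),
        ← (Algebra.TensorProduct.quotIdealMapEquivTensorQuot Γ(P, U) I).map_eq_zero_iff]
      exact Iff.of_eq (congrArg (· = 0) (Algebra.TensorProduct.quotIdealMapEquivTensorQuot_mk Γ(P, U) I c).symm)
    rw [h1, show I = Ideal.span {p} from hp.maximalIdeal_eq, Ideal.map_span, Set.image_singleton,
      Ideal.mem_span_singleton]
    rfl
  have hbasic : P.basicOpen (baseFun πP p) = W.ι ⁻¹ᵁ Y.basicOpen (baseFun π p) := by
    ext z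
    rw [SetLike.mem_coe, SetLike.mem_coe, mem_basicOpen_baseFun, Scheme.Hom.mem_preimage, mem_basicOpen_baseFun]
    rfl
  have hD : ∀ z, z ∉ P.basicOpen (baseFun πP p) → πP z = IsLocalRing.closedPoint C := by
    intro z hz
    rw [mem_basicOpen_baseFun, not_not] at hz
    refine PrimeSpectrum.ext (le_antisymm (IsLocalRing.le_maximalIdeal (PrimeSpectrum.isPrime _).ne_top) ?_)
    show IsLocalRing.maximalIdeal C ≤ _
    rw [hp.maximalIdeal_eq, Ideal.span_singleton_le_iff_mem]
    exact hz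
  haveI : Flat πP := inferInstance
  rw [PicM.pull_of]
  refine eq_one_of_gen_basicOpen (ϖ := baseFun πP p) ?_ ?_ ?_ _
    ((isGen_pullSec W.ι ht hL).restrict hbasic.le)
  · intro U hU a ha
    let _ : Algebra Γ(Spec (CommRingCat.of C), ⊤) Γ(P, U) := (πP.appLE ⊤ U le_top).hom.toAlgebra
    have hf : Module.Flat Γ(Spec (CommRingCat.of C), ⊤) Γ(P, U) := πP.flat_appLE (isAffineOpen_top _) hU le_top
    have hreg : IsSMulRegular Γ(Spec (CommRingCat.of C), ⊤) ((Scheme.ΓSpecIso (CommRingCat.of C)).inv p) := by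
      intro x y hxy
      obtain ⟨x, rfl⟩ := (ConcreteCategory.bijective_of_isIso (Scheme.ΓSpecIso (CommRingCat.of C)).inv).2 x
      obtain ⟨y, rfl⟩ := (ConcreteCategory.bijective_of_isIso (Scheme.ΓSpecIso (CommRingCat.of C)).inv).2 y
      simp only [smul_eq_mul, ← map_mul] at hxy
      rw [mul_left_cancel₀ hp.ne_zero ((ConcreteCategory.bijective_of_isIso (Scheme.ΓSpecIso (CommRingCat.of C)).inv).1 hxy)]
    have h := IsSMulRegular.of_flat (S := Γ(P, U)) hreg
    exact h (by show _ * a = _ * 0; rw [mul_zero]; exact ha)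
  · intro U hU a b hab
    rw [← hker U hU] at hab ⊢
    rw [← hker U hU]
    rw [map_mul] at hab
    rcases isEmpty_or_nonempty (σ ⁻¹ᵁ U : P₀.Opens) with he | hne
    · left
      exact TopCat.Sheaf.eq_of_locally_eq' P₀.sheaf (fun e : PEmpty.{u + 1} => e.elim)
        _ (fun e => e.elim) (fun z hz => (he.false ⟨z, hz⟩).elim) _ _ fun e => e.elim
    · exact mul_eq_zero.1 hab
  · intro U U' hU hU' hle
    obtain ⟨z, hz, hzD⟩ := SetLike.not_le_iff_exists.1 hU
    obtain ⟨z', hz', hzD'⟩ := SetLike.not_le_iff_exists.1 hU'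
    have hr : ∀ z, z ∉ P.basicOpen (baseFun πP p) → z ∈ Set.range σ := fun z hz => by
      rw [show σ = pullback.fst πP i from rfl, Scheme.Pullback.range_fst]
      exact ⟨IsLocalRing.closedPoint (C ⧸ I), (IsLocalRing.comap_closedPoint (IsLocalRing.residue C)).trans (hD z hz).symm⟩
    obtain ⟨v₁, rfl⟩ := hr z hzD
    obtain ⟨v₂, rfl⟩ := hr z' hzD'
    obtain ⟨v, hv⟩ := nonempty_preirreducible_inter (σ ⁻¹ᵁ U).isOpen (σ ⁻¹ᵁ U').isOpen ⟨v₁, hz⟩ ⟨v₂, hz'⟩
    have hvD : σ v ∈ P.basicOpen (baseFun πP p) := hle ⟨hv.1, hv.2⟩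
    refine (mem_basicOpen_baseFun πP p _).1 hvD ?_
    rw [show πP (σ v) = i (π₀ v) from congr($(H₀.w) v)]
    show p ∈ Ideal.comap (algebraMap C (C ⧸ I)) _
    rw [Ideal.mem_comap, Ideal.Quotient.algebraMap_eq,
      Ideal.Quotient.eq_zero_iff_mem.2 ((IsLocalRing.mem_maximalIdeal p).2 hp.not_isUnit)]
    exact zero_mem _

/-- A class trivial on the generic fibre of a smooth proper scheme over a henselian DVR is trivial. -/
theorem eq_one_of_gen [HenselianRing C (IsLocalRing.maximalIdeal C)] {p : C} (hp : Irreducible p) {L : Y.Modules}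
    (hL : PicF.IsInvertible L) {t : Γ(L, Y.basicOpen (baseFun π p))} (ht : IsGen L _ t) : PicM.of hL = 1 := by
  classical
  let I := IsLocalRing.maximalIdeal C
  letI : Field (C ⧸ I) := Ideal.Quotient.field I
  let p₀ : Y₀ π ⟶ Spec (CommRingCat.of (C ⧸ I)) := pullback.snd π _
  haveI : Smooth p₀ := inferInstance
  haveI : IsProper p₀ := inferInstance
  let ι := {S : Set (Y₀ π) // ∃ w, connectedComponent w = S}
  have hlift : ∀ S : ι, ∃ W : Y.Opens, IsClosed (W : Set Y) ∧ σ₀ π ⁻¹' (W : Set Y) = S.1 := by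
    rintro ⟨S, w, rfl⟩
    let Z : (Y₀ π).Opens := ⟨connectedComponent w, FlatMorLocalStr.isOpen_connectedComponent_of_smooth_field p₀ w⟩
    haveI : IsClosedImmersion Z.ι := IsClosedImmersion.of_isPreimmersion _
      (by rw [Scheme.Opens.range_ι]; exact isClosed_connectedComponent)
    obtain ⟨W, hWc, -, hWZ⟩ := EGA43.ClopenLift.exists_clopen_lift_of_isProper I π Z isClosed_connectedComponent
      (inferInstanceAs (IsProper (Z.ι ≫ p₀)))
    exact ⟨W, hWc, congrArg SetLike.coe hWZ⟩
  choose W hWc hW using hlift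
  have hcov : ⊤ ≤ iSup W := by
    intro y _
    by_contra hy
    have := eq_empty_of_preimage π (iSup W).isOpen.isClosed_compl (Set.eq_empty_iff_forall_notMem.2 fun z hz => hz
      (Opens.mem_iSup.2 ⟨⟨connectedComponent z, z, rfl⟩, by
        show z ∈ σ₀ π ⁻¹' (W _ : Set Y)
        rw [hW]
        exact mem_connectedComponent⟩))
    exact Set.eq_empty_iff_forall_notMem.1 this y hy
  have hdisj : ∀ S T, S ≠ T → (W S : Set Y) ∩ W T = ∅ := by
    intro S T hST
    refine eq_empty_of_preimage π ((hWc S).inter (hWc T)) ?_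
    rw [Set.preimage_inter, hW, hW]
    refine Set.eq_empty_iff_forall_notMem.2 fun z ⟨h1, h2⟩ => hST (Subtype.ext ?_)
    obtain ⟨S, w, rfl⟩ := S
    obtain ⟨T, v, rfl⟩ := T
    exact (connectedComponent_eq h1).trans (connectedComponent_eq h2).symm
  have hgen : ∀ S : ι, ∃ s : Γ(L, W S), IsGen L (W S) s := by
    intro S
    obtain ⟨w, hw⟩ := S.2
    have h1 := eq_one_of_gen_piece π (W S) w ((hW S).trans hw.symm) hp hL ht
    rw [PicM.pull_of] at h1
    obtain ⟨s, hs⟩ := exists_isGen_top h1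
    obtain ⟨s', hs'⟩ := exists_isGen_image (W S).ι L hs
    exact ⟨_, hs'.restrict (Scheme.Opens.ι_image_top (W S)).ge⟩
  choose s hs using hgen
  obtain ⟨g, hg, -⟩ := TopCat.Sheaf.existsUnique_gluing' (⟨L.presheaf, L.isSheaf⟩ : TopCat.Sheaf Ab Y)
    W ⊤ (fun _ => homOfLE le_top) hcov s (fun S T => by
      by_cases hST : S = T
      · subst hST
        rfl
      · refine TopCat.Sheaf.eq_of_locally_eq' (⟨L.presheaf, L.isSheaf⟩ : TopCat.Sheaf Ab Y)
          (fun e : PEmpty.{u + 1} => e.elim) _ (fun e => e.elim) (fun z hz => ?_) _ _ fun e => e.elim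
        exact absurd hz (Set.eq_empty_iff_forall_notMem.1 (hdisj S T hST) z))
  refine eq_one_of_isGen_top hL (t := g) (isGen_of_cover W (fun _ => le_top) hcov fun S => ?_)
  exact (congrArg (IsGen L (W S)) (hg S)).mpr (hs S)

theorem range_eq_basicOpen {p : C} (hp : Irreducible p) {F : Type u} [Field F] [Algebra C F] [IsFractionRing C F]
    {YK : Scheme.{u}} {j : YK ⟶ Y} {πK : YK ⟶ Spec (CommRingCat.of F)}
    (h : IsPullback j πK π (Spec.map (CommRingCat.ofHom (algebraMap C F)))) :
    ∃ _ : IsOpenImmersion j, j.opensRange = Y.basicOpen (baseFun π p) := by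
  haveI := isLocalization_away hp F
  haveI : IsOpenImmersion (Spec.map (CommRingCat.ofHom (algebraMap C F))) := IsOpenImmersion.of_isLocalization p
  haveI hj : IsOpenImmersion j := MorphismProperty.IsStableUnderBaseChange.of_isPullback (P := @IsOpenImmersion) h.flip inferInstance
  refine ⟨hj, Opens.ext ?_⟩
  rw [Scheme.Hom.coe_opensRange, ← h.isoPullback_hom_fst, Scheme.Hom.comp_base, TopCat.coe_comp,
    Set.range_comp, Set.range_eq_univ.2 h.isoPullback.hom.surjective, Set.image_univ, Scheme.Pullback.range_fst]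
  ext z
  show π z ∈ Set.range (PrimeSpectrum.comap (algebraMap C F)) ↔ z ∈ Y.basicOpen _
  rw [PrimeSpectrum.localization_away_comap_range F p, mem_basicOpen_baseFun]
  rfl

variable {F : Type u} [Field F] [Algebra C F] [IsFractionRing C F] {YK : Scheme.{u}} {j : YK ⟶ Y}
  {πK : YK ⟶ Spec (CommRingCat.of F)} (h : IsPullback j πK π (Spec.map (CommRingCat.ofHom (algebraMap C F))))
include h

theorem eq_one_of_generic [HenselianRing C (IsLocalRing.maximalIdeal C)] {a : PicM Y} (ha : PicM.pull j a = 1) :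
    a = 1 := by
  obtain ⟨p, hp⟩ := IsDiscreteValuationRing.exists_irreducible C
  obtain ⟨hj, hr⟩ := range_eq_basicOpen π hp h
  obtain ⟨L, hL, rfl⟩ := PicM.exists_eq_of a
  rw [PicM.pull_of] at ha
  obtain ⟨s, hs⟩ := exists_isGen_top ha
  obtain ⟨s', hs'⟩ := exists_isGen_image j L hs
  exact eq_one_of_gen π hp hL (hs'.restrict (by rw [Scheme.Hom.image_top_eq_opensRange, hr]))

theorem exists_extension (b : PicM YK) : ∃ a : PicM Y, PicM.pull j a = b := by
  obtain ⟨p, hp⟩ := IsDiscreteValuationRing.exists_irreducible C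
  obtain ⟨hj, -⟩ := range_eq_basicOpen π hp h
  haveI : IsLocallyNoetherian Y := LocallyOfFiniteType.isLocallyNoetherian π
  have hufd : ∀ x : Y, UniqueFactorizationMonoid (Y.presheaf.stalk x) := fun x => by
    haveI := NeronLib.isRegularLocalRing_stalk_of_smooth π x
    haveI : IsDomain (Y.presheaf.stalk x) := CAlgH3.isDomain_of_isRegularLocalRing _
    exact CAlgH3.ufm_of_regular _
  obtain ⟨L, hL, rfl⟩ := PicM.exists_eq_of b
  let e := j.isoOpensRange
  let L₁ := (Scheme.Modules.pullback e.inv).obj L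
  obtain ⟨L', hL', ⟨iso⟩⟩ := Groth.Agent.S0234.result Y j.opensRange L₁ (PicLoc.isInvertible_pullback e.inv hL)
    (fun x _ => hufd x)
  refine ⟨PicM.of hL', ?_⟩
  have h1 : PicM.pull j.opensRange.ι (PicM.of hL') = PicM.pull e.inv (PicM.of hL) := by
    rw [PicM.pull_of, PicM.pull_of]
    exact (PicM.of_eq_iff _ _).2 ⟨((Scheme.Modules.restrictFunctorIsoPullback _).app L').symm ≪≫ iso⟩
  rw [← j.isoOpensRange_hom_ι, ← PicM.pull_pull, h1, PicM.pull_pull, show e.hom ≫ e.inv = 𝟙 _ from e.hom_inv_id, PicM.pull_id]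

end Groth.Agent.H8Coh.SmoothDVR
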