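import Groth.Agent.H8Coh.PicLFT
import Groth.Agent.H8Coh.SmoothDVR
import Groth.Agent.H8Coh.DVRPoints
import Groth.Agent.HenselLib.SectionsLift
import Groth.Agent.ValExtLib.Criterion

/-!
# Valuative criteria for the relative Picard scheme of a proper smooth morphism
-/

set_option autoImplicit false
set_option backward.isDefEq.respectTransparency.types false
set_option linter.style.haveILetI false

universe u

open CategoryTheory CategoryTheory.Limits AlgebraicGeometry IsLocalRing
open Groth.Agent.PicLib Groth.Agent.H8Coh.NthPower Groth.Agent.H8Coh.DVRPoints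

namespace Groth.Agent.H8Coh.PicValuative

variable {S : Scheme.{u}}

/-- Etale coverings of a henselian local ring with algebraically closed residue field have sections. -/
theorem hasSections_henselian {C : Type u} [CommRing C] [HenselianLocalRing C] [IsAlgClosed (ResidueField C)]
    (q : Spec (CommRingCat.of C) ⟶ S) : HasSections (Over.mk q) := by
  intro ι U hU
  obtain ⟨i, y, hy⟩ := hU (closedPoint C)
  let c := Spec.map (CommRingCat.ofHom (residue C))
  haveI : Nonempty ↥(pullback (U i).hom c) := by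
    obtain ⟨z, -, -⟩ := Scheme.Pullback.exists_preimage_pullback (f := (U i).hom) (g := c) y
      (closedPoint (ResidueField C)) (hy.trans (comap_closedPoint (residue C)).symm)
    exact ⟨z⟩
  obtain ⟨s₀, hs₀⟩ := exists_point (k := ResidueField C) (pullback.snd (U i).hom c)
  obtain ⟨s, hs, -⟩ := HenselLib.SectionsLift.exists_section (R := C) (U i).hom (s₀ ≫ pullback.fst _ _)
    (by rw [Category.assoc, pullback.condition, reassoc_of% hs₀])
  refine ⟨i, Over.homMk s ?_, Over.OverMorphism.ext hs⟩
  show s ≫ (U i).hom ≫ q = q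
  rw [reassoc_of% hs]

theorem henselianLocalRing_of_complete (C : Type u) [CommRing C] [IsLocalRing C]
    [IsAdicComplete (maximalIdeal C) C] : HenselianLocalRing C :=
  { is_henselian := fun f hf a₀ h₁ h₂ =>
      HenselianRing.is_henselian (I := maximalIdeal C) f hf a₀ h₁
        ((IsUnit.map (Ideal.Quotient.mk (maximalIdeal C))) h₂) }

/-- The spectrum of a ring over the base. -/
noncomputable abbrev TC {C : Type u} [CommRing C] (q : Spec (CommRingCat.of C) ⟶ S) : Over S := Over.mk q

/-- Its generic point. -/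
noncomputable abbrev TF {C : Type u} [CommRing C] (q : Spec (CommRingCat.of C) ⟶ S) : Over S :=
  Over.mk (gen C ≫ q)

/-- The inclusion of the generic point. -/
noncomputable abbrev ιC {C : Type u} [CommRing C] (q : Spec (CommRingCat.of C) ⟶ S) : TF q ⟶ TC q :=
  Over.homMk (gen C) rfl

variable {X : Scheme.{u}} {f : X ⟶ S} [IsProper f] [Smooth f]

section Classes

variable {C : Type u} [CommRing C] [IsDomain C] [IsDiscreteValuationRing C] (q : Spec (CommRingCat.of C) ⟶ S)

theorem class_eq [IsAdicComplete (maximalIdeal C) C] {a b : PicM (PicF.XT f (TC q))}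
    (h : pc (ιC q) a = pc (ιC q) b) : a = b := by
  haveI : IsProper (pullback.snd f (TC q).hom) := MorphismProperty.pullback_snd (P := @IsProper) _ _ inferInstance
  haveI : Smooth (pullback.snd f (TC q).hom) := MorphismProperty.pullback_snd (P := @Smooth) _ _ inferInstance
  obtain ⟨c, hc⟩ := PicM.exists_mul_eq_one b
  refine PicM.eq_of_mul_inv hc (SmoothDVR.eq_one_of_generic (C := C) (pullback.snd f (TC q).hom)
    (F := FractionRing C) (isPullback_XTmap f (ιC q)) ?_)
  rw [show PicM.pull (PicF.XTmap f (ιC q)) (a * c) = pc (ιC q) a * pc (ιC q) c from map_mul _ _ _, h, ← map_mul, hc,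
    map_one]

theorem exists_class (b : PicM (PicF.XT f (TF q))) : ∃ a, pc (ιC q) a = b := by
  haveI : IsProper (pullback.snd f (TC q).hom) := MorphismProperty.pullback_snd (P := @IsProper) _ _ inferInstance
  haveI : Smooth (pullback.snd f (TC q).hom) := MorphismProperty.pullback_snd (P := @Smooth) _ _ inferInstance
  exact SmoothDVR.exists_extension (C := C) (pullback.snd f (TC q).hom) (F := FractionRing C)
    (isPullback_XTmap f (ιC q)) b

/-- An etale covering of the generic point is split by a complete extension. -/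
theorem exists_ext_of_cover {ι : Type u} {U : ι → (TF q).left.Etale} (hU : EtCoh.Covers U) :
    ∃ (C' : Type u) (_ : CommRing C') (_ : IsDomain C') (_ : IsDiscreteValuationRing C')
      (_ : IsAdicComplete (maximalIdeal C') C') (_ : IsAlgClosed (ResidueField C')) (φ : C →+* C') (i : ι)
      (m : TF (Spec.map (CommRingCat.ofHom φ) ≫ q) ⟶ PicRel.ovr (TF q) (U i)),
      IsLocalHom φ ∧ Function.Injective φ ∧
        (m ≫ PicRel.ovrHom (TF q) (U i)).left ≫ gen C = gen C' ≫ Spec.map (CommRingCat.ofHom φ) := by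
  obtain ⟨i, y, -⟩ := hU (closedPoint (FractionRing C))
  let W := (U i).left
  let w : W ⟶ Spec (CommRingCat.of (FractionRing C)) := (U i).hom
  haveI : Etale w := inferInstanceAs (Etale (U i).hom)
  haveI : Nonempty W := ⟨y⟩
  haveI : JacobsonSpace W := LocallyOfFiniteType.jacobsonSpace w
  obtain ⟨u, -, hu⟩ := nonempty_inter_closedPoints (Z := (Set.univ : Set W)) Set.univ_nonempty isClosed_univ.isLocallyClosed
  have hfin : IsFinite (W.fromSpecResidueField u ≫ w) := by
    have hu' : IsClosed ({u} : Set W) := hu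
    rw [isClosed_singleton_iff_isClosedImmersion] at hu'
    rw [isFinite_iff_locallyOfFiniteType_of_jacobsonSpace]
    infer_instance
  obtain ⟨e, he⟩ := Spec.map_surjective (W.fromSpecResidueField u ≫ w)
  rw [← he, IsFinite.SpecMap_iff] at hfin
  obtain ⟨C', _, _, _, _, _, φ, ψ, hφ, hinj, hcompat⟩ := exists_complete_ext (C := C) e.hom hfin
  have key : Spec.map (CommRingCat.ofHom ψ) ≫ W.fromSpecResidueField u ≫ w ≫ gen C =
      gen C' ≫ Spec.map (CommRingCat.ofHom φ) := by
    rw [← Category.assoc (W.fromSpecResidueField u), ← he, ← Spec.map_comp, ← Spec.map_comp, ← Spec.map_comp]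
    exact congrArg Spec.map (CommRingCat.hom_ext (RingHom.ext hcompat))
  refine ⟨C', inferInstance, inferInstance, inferInstance, inferInstance, inferInstance, φ, i,
    Over.homMk (Spec.map (CommRingCat.ofHom ψ) ≫ W.fromSpecResidueField u) ?_, hφ, hinj, ?_⟩
  · show (Spec.map (CommRingCat.ofHom ψ) ≫ W.fromSpecResidueField u) ≫ w ≫ gen C ≫ q = gen C' ≫ _ ≫ q
    simp only [← Category.assoc] at key ⊢
    rw [key]
  · show ((Spec.map (CommRingCat.ofHom ψ) ≫ W.fromSpecResidueField u) ≫ w) ≫ gen C = _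
    simpa only [Category.assoc] using key

end Classes

omit [IsProper f] [Smooth f] in
theorem gen_comp {A C : Type u} [CommRing A] [IsDomain A] [CommRing C] [IsDomain C] (θ : A →+* C)
    (hθ : Function.Injective θ) :
    ∃ j : FractionRing A →+* FractionRing C,
      Spec.map (CommRingCat.ofHom j) ≫ gen A = gen C ≫ Spec.map (CommRingCat.ofHom θ) := by
  refine ⟨IsFractionRing.lift (A := A) (g := (algebraMap C (FractionRing C)).comp θ)
    ((IsFractionRing.injective C (FractionRing C)).comp hθ), ?_⟩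
  rw [← Spec.map_comp, ← Spec.map_comp, ← CommRingCat.ofHom_comp, ← CommRingCat.ofHom_comp]
  congr 2
  exact IsLocalization.lift_comp _

variable [IsLocallyNoetherian S] {P : Over S} {φ : ∀ T : Over S, PicF.Cl (PicF.XT f T) → (T ⟶ P)}
  (hP : PicRel.IsRelPic f P φ)
include hP

theorem isSeparated : IsSeparated P.hom := by
  haveI := PicLFT.locallyOfFiniteType hP
  refine ValExtLib.isSeparated_of_dvr P.hom fun A _ _ _ g₁ g₂ hover hgen => ?_
  obtain ⟨C, _, _, _, _, _, θ, hθ, hθi⟩ := exists_complete A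
  haveI := henselianLocalRing_of_complete C
  let q := Spec.map (CommRingCat.ofHom θ) ≫ g₁ ≫ P.hom
  let G₁ : TC q ⟶ P := Over.homMk (Spec.map (CommRingCat.ofHom θ) ≫ g₁) (Category.assoc _ _ _)
  let G₂ : TC q ⟶ P := Over.homMk (Spec.map (CommRingCat.ofHom θ) ≫ g₂)
    (by rw [Category.assoc, ← hover]; rfl)
  obtain ⟨a₁, ha₁⟩ := exists_rep hP (hasSections_henselian q) G₁
  obtain ⟨a₂, ha₂⟩ := exists_rep hP (hasSections_henselian q) G₂
  obtain ⟨j, hj⟩ := gen_comp θ hθi
  have hF : ψ φ (TF q) (pc (ιC q) a₁) = ψ φ (TF q) (pc (ιC q) a₂) := by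
    rw [ψ_pc hP, ψ_pc hP, ha₁, ha₂]
    refine Over.OverMorphism.ext ?_
    show gen C ≫ Spec.map (CommRingCat.ofHom θ) ≫ g₁ = gen C ≫ Spec.map (CommRingCat.ofHom θ) ≫ g₂
    rw [← reassoc_of% hj, ← reassoc_of% hj, hgen]
  obtain ⟨ι, U, hU, hcov⟩ := exists_cover_eq hP _ hF
  obtain ⟨C', _, _, _, _, _, θ', i, m, hθ', hθ'i, hm⟩ := exists_ext_of_cover q hU
  let h : TC (Spec.map (CommRingCat.ofHom θ') ≫ q) ⟶ TC q := Over.homMk (Spec.map (CommRingCat.ofHom θ')) rfl
  have e : m ≫ PicRel.ovrHom (TF q) (U i) ≫ ιC q = ιC _ ≫ h := Over.OverMorphism.ext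
    ((Category.assoc _ _ _).symm.trans hm)
  have h12 : pc h a₁ = pc h a₂ := by
    refine class_eq _ ?_
    have := congrArg (pc m) (hcov i)
    rwa [pc_pc, pc_pc, pc_pc, pc_pc, Category.assoc, e, ← pc_pc, ← pc_pc] at this
  have h' := congrArg (fun a => (ψ φ _ a).left) h12
  simp only [ψ_pc hP, ha₁, ha₂] at h'
  exact eq_of_comp_eq θ hθi (eq_of_comp_eq θ' hθ'i h')

theorem isProper_closed {Z : Scheme.{u}} (i : Z ⟶ P.left) [IsClosedImmersion i] [LocallyOfFiniteType (i ≫ P.hom)]
    [QuasiCompact (i ≫ P.hom)] : IsProper (i ≫ P.hom) := by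
  haveI := isSeparated hP
  haveI : UniversallyClosed (i ≫ P.hom) := ValExtLib.universallyClosed_of_dvr _ fun A _ _ _ x y hxy => by
    obtain ⟨C, _, _, _, _, _, θ, hθ, hθi⟩ := exists_complete A
    obtain ⟨j, hj⟩ := gen_comp θ hθi
    let q := Spec.map (CommRingCat.ofHom θ) ≫ y
    let G : TF q ⟶ P := Over.homMk (Spec.map (CommRingCat.ofHom j) ≫ x ≫ i) (by
      show (_ ≫ x ≫ i) ≫ P.hom = gen C ≫ q
      rw [Category.assoc, Category.assoc, hxy, reassoc_of% hj])
    obtain ⟨ι, U, hU, hrep⟩ := exists_cover hP _ G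
    obtain ⟨C', _, _, _, _, _, θ', l₀, m, hθ', hθ'i, hm⟩ := exists_ext_of_cover q hU
    obtain ⟨b, hb⟩ := hrep l₀
    obtain ⟨a, ha⟩ := exists_class (f := f) (Spec.map (CommRingCat.ofHom θ') ≫ q) (pc m b)
    let l := (ψ φ _ a).left
    have hl : gen C' ≫ l = (m ≫ PicRel.ovrHom _ (U l₀)).left ≫ Spec.map (CommRingCat.ofHom j) ≫ x ≫ i := by
      have e := congrArg (fun a => (ψ φ _ a).left) ha
      simp only [ψ_pc hP, hb] at e
      exact e.trans (Category.assoc _ _ _).symm
    obtain ⟨j', hj'⟩ := gen_comp (θ'.comp θ) (hθ'i.comp hθi)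
    have hjj : (m ≫ PicRel.ovrHom _ (U l₀)).left ≫ Spec.map (CommRingCat.ofHom j) =
        Spec.map (CommRingCat.ofHom j') := by
      obtain ⟨α, hα⟩ := Spec.map_surjective ((m ≫ PicRel.ovrHom _ (U l₀)).left ≫ Spec.map (CommRingCat.ofHom j))
      have h1 : Spec.map α ≫ gen A = Spec.map (CommRingCat.ofHom j') ≫ gen A := by
        rw [hα, Category.assoc, hj, ← Category.assoc, hm, hj', Category.assoc, ← Spec.map_comp,
          ← CommRingCat.ofHom_comp]
      rw [← hα]
      rw [← Spec.map_comp, ← Spec.map_comp] at h1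
      exact congrArg Spec.map (CommRingCat.hom_ext (IsLocalization.ringHom_ext (nonZeroDivisors A)
        (congrArg CommRingCat.Hom.hom (Spec.map_injective h1))))
    haveI : IsLocalHom (θ'.comp θ) := RingHom.isLocalHom_comp _ _
    obtain ⟨lA, hlA, hlA'⟩ := exists_lift_of_extension (θ'.comp θ) (hθ'i.comp hθi) (algebraMap C' (FractionRing C'))
      (IsFractionRing.injective C' (FractionRing C')) j' (fun a => by
        have h1 := hj'
        rw [← Spec.map_comp, ← Spec.map_comp] at h1
        exact RingHom.congr_fun (congrArg CommRingCat.Hom.hom (Spec.map_injective h1)) a)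
      (x ≫ i) l (by rw [← hjj, Category.assoc]; exact hl.symm)
    have hy : lA ≫ P.hom = y := eq_of_comp_eq (θ'.comp θ) (hθ'i.comp hθi) (by
      rw [← Category.assoc, hlA', Over.w]
      show Spec.map (CommRingCat.ofHom θ') ≫ q = _
      rw [CommRingCat.ofHom_comp, Spec.map_comp, Category.assoc])
    obtain ⟨l', hl', hl'x⟩ := exists_lift_closed i lA x hlA
    exact ⟨l', by rw [← Category.assoc, hl', hy], hl'x⟩
  exact ⟨⟩

end Groth.Agent.H8Coh.PicValuative
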