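import Groth.Agent.H8Lim.ModSections
import Groth.Agent.Coherent.PullUnit

/-!
# The comparison of the two pullbacks around a commutative square, on pulled back sections
-/

set_option autoImplicit false
set_option backward.isDefEq.respectTransparency false

universe u

open CategoryTheory CategoryTheory.Limits AlgebraicGeometry Opposite TopologicalSpace
open Groth.Agent.Coherent Groth.Agent.PicLib

namespace Groth.Agent.H8Coh

variable {Z Y₁ Y₂ X : Scheme.{u}} (a : Z ⟶ Y₁) (b : Y₁ ⟶ X) (c : Z ⟶ Y₂) (d : Y₂ ⟶ X)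

theorem congr_app_pullSec {Y : Scheme.{u}} {p q : Y ⟶ X} (hpq : p = q) (M : X.Modules) {U : X.Opens} (m : Γ(M, U)) :
    ((Scheme.Modules.pullbackCongr hpq).hom.app M).app (p ⁻¹ᵁ U) (pullSec p m) =
      resM _ (hpq ▸ le_rfl) (pullSec q m) := by
  subst hpq
  exact (resM_self _ _ _).symm

theorem sq_app_pullSec (h : c ≫ d = a ≫ b) (M : X.Modules) {U : X.Opens} (m : Γ(M, U)) :
    ((Scheme.Modules.pullbackComp a b).hom.app M ≫ (Scheme.Modules.pullbackCongr h.symm).hom.app M ≫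
        (Scheme.Modules.pullbackComp c d).inv.app M).app (a ⁻¹ᵁ (b ⁻¹ᵁ U)) (pullSec a (pullSec b m)) =
      resM _ (show a ⁻¹ᵁ (b ⁻¹ᵁ U) ≤ c ⁻¹ᵁ (d ⁻¹ᵁ U) from fun x hx => by
        show (c ≫ d) x ∈ U
        rw [h]; exact hx) (pullSec c (pullSec d m)) := by
  show ((Scheme.Modules.pullbackComp c d).inv.app M).app _ (((Scheme.Modules.pullbackCongr h.symm).hom.app M).app _
    (((Scheme.Modules.pullbackComp a b).hom.app M).app ((a ≫ b) ⁻¹ᵁ U) (pullSec a (pullSec b m)))) = _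
  rw [H8Lim.pullbackComp_hom_app_pullSec a b M m]
  refine (congrArg (((Scheme.Modules.pullbackComp c d).inv.app M).app ((a ≫ b) ⁻¹ᵁ U))
    (congr_app_pullSec h.symm M m)).trans ?_
  refine (app_resM ((Scheme.Modules.pullbackComp c d).inv.app M) _ _).trans ?_
  exact congrArg (resM _ _) (pullbackComp_inv_app_pullSec c d M U m)

/-- The comparison as an isomorphism. -/
theorem sqIso_app_pullSec (h : c ≫ d = a ≫ b) (M : X.Modules) {U : X.Opens} (m : Γ(M, U)) :
    ((Scheme.Modules.pullbackComp a b).app M ≪≫ (Scheme.Modules.pullbackCongr h.symm).app M ≪≫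
        ((Scheme.Modules.pullbackComp c d).app M).symm).hom.app (a ⁻¹ᵁ (b ⁻¹ᵁ U)) (pullSec a (pullSec b m)) =
      resM _ (show a ⁻¹ᵁ (b ⁻¹ᵁ U) ≤ c ⁻¹ᵁ (d ⁻¹ᵁ U) from fun x hx => by
        show (c ≫ d) x ∈ U
        rw [h]; exact hx) (pullSec c (pullSec d m)) :=
  sq_app_pullSec a b c d h M m

end Groth.Agent.H8Coh
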