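import Groth.Agent.FlatMorThick.PicTorsion

/-!
# Roots of invertible modules lift along thickenings
-/

set_option autoImplicit false
set_option backward.isDefEq.respectTransparency.types false
universe u

open CategoryTheory CategoryTheory.Limits AlgebraicGeometry Opposite TopologicalSpace
open Groth.Agent.Coherent Groth.Agent.PicLib Groth.Agent.AmpleLib Groth.Agent.FlatMorThick

namespace Groth.Agent.H8Coh

theorem isGen_app_iso {X : Scheme.{u}} {L M : X.Modules} (e : L ≅ M) {U : X.Opens} {s : Γ(L, U)}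
    (hs : IsGen L U s) : IsGen M U (e.hom.app U s) := by
  intro V hV
  convert (ConcreteCategory.bijective_of_isIso (e.hom.app V)).comp (hs V hV) using 1
  funext r
  show r • resM M hV (e.hom.app U s) = e.hom.app V (r • resM L hV s)
  rw [Scheme.Modules.Hom.app_smul, app_resM]

theorem eq_coef {X : Scheme.{u}} {L : X.Modules} {U V : X.Opens} {s : Γ(L, U)} (hs : IsGen L U s) (h : V ≤ U)
    {a b : Γ(X, V)} (e : a • resM L h s = b • resM L h s) : a = b :=
  (hs V h).1 e

/-- An `n`-th root, `n` invertible, of the restriction of an invertible module lifts along a thickening. -/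
theorem exists_root_lift' {X X' : Scheme.{u}} (i : X ⟶ X') [IsClosedImmersion i] [Surjective i]
    (n : ℕ) (hu : IsUnit (n : Γ(X, ⊤))) {L : X.Modules} (hL : PicF.IsInvertible L)
    {N : X'.Modules} (hN : PicF.IsInvertible N)
    (σ : CohB1.tensorPow L n ≅ (Scheme.Modules.pullback i).obj N) :
    ∃ L' : X'.Modules, PicF.IsInvertible L' ∧ Nonempty (CohB1.tensorPow L' n ≅ N) ∧
      Nonempty ((Scheme.Modules.pullback i).obj L' ≅ L) := by
  have hn : ∀ V : X'.Opens, IsUnit (n : Γ(X', V)) := fun V => by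
    have h : IsUnit (n : Γ(X', ⊤)) := isUnit_of_app i _ (by rw [map_natCast]; exact hu)
    simpa using h.map (PicLib.res (le_top : V ≤ ⊤))
  obtain ⟨U, g, hmem, hg⟩ := exists_cover hL
  have h : ∀ x' : X', ∃ W : X'.Opens, x' ∈ W ∧ ∃ (s : Γ(L, i ⁻¹ᵁ W)) (t : Γ(N, W)),
      IsGen L (i ⁻¹ᵁ W) s ∧ IsGen N W t ∧ σ.hom.app (i ⁻¹ᵁ W) (powSec s n) = pullSec i t := by
    intro x'
    obtain ⟨z, rfl⟩ := i.surjective x'
    obtain ⟨O, hO, hOU⟩ := i.isClosedEmbedding.isInducing.isOpen_iff.1 (U z).isOpen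
    obtain ⟨V, hzV, t, ht⟩ := exists_isGen hN (i z)
    obtain ⟨W, hW, hzW, hWO⟩ := exists_isAffineOpen_mem_and_subset (U := (⟨O, hO⟩ : X'.Opens) ⊓ V) (x := i z)
      ⟨show z ∈ i ⁻¹' O from hOU.ge (hmem z), hzV⟩
    have hWV : W ≤ V := fun y hy => (hWO hy).2
    have hs := (hg z).restrict (show i ⁻¹ᵁ W ≤ U z from fun y hy => hOU.le (hWO hy).1)
    have hgen := isGen_app_iso σ (isGen_powSec hs n)
    have htW := ht.restrict hWV
    have hpt := isGen_pullSec i htW hN
    have hv := hpt.isUnit_coef hgen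
    obtain ⟨u, hu'⟩ := i.app_surjective W hW (hpt.coef le_rfl (σ.hom.app _ (powSec _ n)))
    have huu : IsUnit u := isUnit_of_app i _ (hu' ▸ hv)
    refine ⟨W, hzW, _, u • resM N hWV t, hs, ?_, ?_⟩
    · obtain ⟨w, rfl⟩ := huu
      exact htW.smul_unit w
    · rw [pullSec_smul, hu']
      refine (hpt.coef_spec le_rfl _).symm.trans (congrArg (fun z => hpt.coef le_rfl (σ.hom.app _ _) • z) ?_)
      exact resM_self _ le_rfl _
  choose W hWmem s t hs ht hst using h
  have hcov : ⨆ a, W a = ⊤ := top_le_iff.1 fun x _ => Opens.mem_iSup.2 ⟨x, hWmem x⟩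
  let η₀ : ∀ a b, Γ(X, i ⁻¹ᵁ (W a ⊓ W b)) := fun a b =>
    (hs b).coef (i.preimage_mono inf_le_right) (resM L (i.preimage_mono inf_le_left) (s a))
  have hE0 : ∀ a b (V : X.Opens) (h : V ≤ i ⁻¹ᵁ (W a ⊓ W b)),
      resM L (h.trans (i.preimage_mono inf_le_left)) (s a) =
        PicLib.res h (η₀ a b) • resM L (h.trans (i.preimage_mono inf_le_right)) (s b) := by
    intro a b V h
    have := congrArg (resM L h) ((hs b).coef_spec (i.preimage_mono inf_le_right)
      (resM L (i.preimage_mono (inf_le_left : W a ⊓ W b ≤ W a)) (s a)))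
    rw [resM_smul, resM_resM, resM_resM] at this
    exact this.symm
  have hη₀u : ∀ a b, IsUnit (η₀ a b) := fun a b => by
    have h := ((hs b).restrict (i.preimage_mono (inf_le_right : W a ⊓ W b ≤ W b))).isUnit_coef
      ((hs a).restrict (i.preimage_mono (inf_le_left : W a ⊓ W b ≤ W a)))
    rwa [IsGen.coef_eq _ le_rfl (r := η₀ a b)
      (by rw [resM_resM]; exact ((hs b).coef_spec _ _))] at h
  let ζ : ∀ a b, Γ(X', W a ⊓ W b) := fun a b => (ht b).coef inf_le_right (resM N inf_le_left (t a))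
  have hζ : ∀ a b, ζ a b • resM N (inf_le_right : W a ⊓ W b ≤ W b) (t b) = resM N inf_le_left (t a) :=
    fun a b => (ht b).coef_spec inf_le_right _
  have hiζ : ∀ a b, i.app (W a ⊓ W b) (ζ a b) = η₀ a b ^ n := fun a b => by
    refine eq_coef (isGen_pullSec i ((ht b).restrict (inf_le_right : W a ⊓ W b ≤ W b)) hN) le_rfl ?_
    rw [resM_self, ← pullSec_smul, hζ, ← resM_pullSec i inf_le_left, ← resM_pullSec i inf_le_right, ← hst, ← hst,
      ← app_resM, ← app_resM, resM_powSec, resM_powSec, ← Scheme.Modules.Hom.app_smul, ← powSec_smul]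
    refine congrArg (fun x => σ.hom.app _ (powSec x n)) ?_
    have := hE0 a b (i ⁻¹ᵁ (W a ⊓ W b)) le_rfl
    rwa [show PicLib.res (le_refl (i ⁻¹ᵁ (W a ⊓ W b))) (η₀ a b) = η₀ a b from
      ConcreteCategory.congr_hom (X.presheaf.map_id _) _] at this
  choose η hη hηn using fun a b => exists_root i (hn _) (η₀ a b) (hη₀u a b) (ζ a b) (hiζ a b)
  have hηu : ∀ a b, IsUnit (η a b) := fun a b => isUnit_of_app i _ (hη a b ▸ hη₀u a b)
  have hζres : ∀ a b (V : X'.Opens) (h : V ≤ W a ⊓ W b), PicLib.res h (ζ a b) • resM N (h.trans inf_le_right) (t b) =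
      resM N (h.trans inf_le_left) (t a) := fun a b V h => by
    have := congrArg (resM N h) (hζ a b)
    rwa [resM_smul, resM_resM, resM_resM] at this
  have hco : ∀ a b c (V : X'.Opens) (ha : V ≤ W a) (hb : V ≤ W b) (hc : V ≤ W c),
      PicLib.res (le_inf ha hc) (η a c) =
        PicLib.res (le_inf ha hb) (η a b) * PicLib.res (le_inf hb hc) (η b c) := by
    intro a b c V ha hb hc
    refine eq_of_pow_eq i (hn V) ((hηu a c).map _) ?_ ?_
    · rw [mul_pow, ← map_pow, ← map_pow, ← map_pow, hηn, hηn, hηn]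
      refine eq_coef (ht c) hc ?_
      rw [mul_smul]
      exact (hζres a c V (le_inf ha hc)).trans ((hζres a b V (le_inf ha hb)).symm.trans
        (congrArg (PicLib.res (le_inf ha hb) (ζ a b) • ·) (hζres b c V (le_inf hb hc)).symm))
    · rw [map_mul, app_res, app_res, app_res, hη, hη, hη]
      refine eq_coef (hs c) (i.preimage_mono hc) ?_
      rw [← hE0 a c, mul_smul, ← hE0 b c, ← hE0 a b]
  obtain ⟨L', s', hL', hgen, hsη⟩ := CocycleGlue.exists_invertible W (fun a b => (hηu a b).unit)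
    (fun x a b c => by
      have hx : x ∈ W a.1 ⊓ W b.1 ⊓ W c.1 := ⟨⟨a.2, b.2⟩, c.2⟩
      have ha : W a.1 ⊓ W b.1 ⊓ W c.1 ≤ W a.1 := inf_le_left.trans inf_le_left
      have hb : W a.1 ⊓ W b.1 ⊓ W c.1 ≤ W b.1 := inf_le_left.trans inf_le_right
      have hc : W a.1 ⊓ W b.1 ⊓ W c.1 ≤ W c.1 := inf_le_right
      show X'.presheaf.germ _ x _ _ = X'.presheaf.germ _ x _ _ * X'.presheaf.germ _ x _ _
      rw [← VarietyLib.StarGlue.germ_resO (le_inf ha hc) hx,
        ← VarietyLib.StarGlue.germ_resO (le_inf ha hb) hx,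
        ← VarietyLib.StarGlue.germ_resO (le_inf hb hc) hx, ← map_mul]
      exact congrArg _ (hco _ _ _ _ ha hb hc)) hcov
  obtain ⟨e, -⟩ := exists_iso_of_gens W hcov (fun a => powSec (s' a) n) (fun a => isGen_powSec (hgen a) n) t ht
    (fun a b V ha hb c hc => by
      have hV : V ≤ W a ⊓ W b := le_inf ha hb
      have hrel : resM L' ha (s' a) = PicLib.res hV (η a b) • resM L' hb (s' b) := by
        have h := congrArg (resM L' hV) (hsη a b)
        rwa [resM_smul, resM_resM, resM_resM] at h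
      rw [resM_powSec, resM_powSec, hrel, powSec_smul, ← map_pow, hηn] at hc
      rw [← eq_coef (isGen_powSec ((hgen b).restrict hb) n) le_rfl (a := PicLib.res hV (ζ a b)) (b := c)
        (by rw [resM_self]; exact hc)]
      exact (hζres a b V hV).symm)
  refine ⟨L', hL', ⟨e⟩, ?_⟩
  let P := (Scheme.Modules.pullback i).obj L'
  let q : ∀ a, Γ(P, i ⁻¹ᵁ W a) := fun a => pullSec i (s' a)
  have hq : ∀ a, IsGen P _ (q a) := fun a => isGen_pullSec i (hgen a) hL'
  have hcov' : ⨆ a, i ⁻¹ᵁ W a = ⊤ :=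
    top_le_iff.1 fun z _ => Opens.mem_iSup.2 ⟨_, hWmem (i z)⟩
  have hqη : ∀ a b, resM P (i.preimage_mono inf_le_left) (q a) =
      η₀ a b • resM P (i.preimage_mono (inf_le_right : W a ⊓ W b ≤ W b)) (q b) := fun a b => by
    refine (resM_pullSec i inf_le_left (s' a)).trans ?_
    rw [hsη a b, pullSec_smul]
    refine congrArg₂ (fun (r : Γ(X, i ⁻¹ᵁ (W a ⊓ W b))) m => r • m) (hη a b) ?_
    exact (resM_pullSec i inf_le_right (s' b)).symm
  obtain ⟨e', -⟩ := exists_iso_of_gens (fun a => i ⁻¹ᵁ W a) hcov' q hq s hs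
    (fun a b V hi hj c hc => by
      have hV : V ≤ i ⁻¹ᵁ (W a ⊓ W b) := fun z hz => ⟨hi hz, hj hz⟩
      have h := congrArg (resM P hV) (hqη a b)
      rw [resM_smul, resM_resM, resM_resM] at h
      rw [← ((hq b) V hj).1 (h.symm.trans hc)]
      exact hE0 a b V hV)
  exact ⟨e'⟩

theorem exists_root_lift {X X' : Scheme.{u}} (i : X ⟶ X') [IsClosedImmersion i] [Surjective i]
    (n : ℕ) (hu : IsUnit (n : Γ(X, ⊤))) {L : X.Modules} (hL : PicF.IsInvertible L)
    {N : X'.Modules} (hN : PicF.IsInvertible N)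
    (σ : CohB1.tensorPow L n ≅ (Scheme.Modules.pullback i).obj N) :
    ∃ L' : X'.Modules, PicF.IsInvertible L' ∧ Nonempty (CohB1.tensorPow L' n ≅ N) := by
  obtain ⟨L', hL', h, -⟩ := exists_root_lift' i n hu hL hN σ
  exact ⟨L', hL', h⟩

/-- An `n`-torsion class which is trivial on a thickened scheme is trivial, if units lift. -/
theorem nonempty_iso_unit_of_pow {X X' : Scheme.{u}} (i : X ⟶ X') [IsClosedImmersion i] [Surjective i]
    (n : ℕ) (hu : IsUnit (n : Γ(X, ⊤))) (hlift : Function.Surjective (i.app ⊤))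
    {L : X'.Modules} (hL : PicF.IsInvertible L) (σ : CohB1.tensorPow L n ≅ Coh.structureModule X')
    (e : Coh.structureModule X ≅ (Scheme.Modules.pullback i).obj L) :
    Nonempty (L ≅ Coh.structureModule X') := by
  have hn : ∀ V : X'.Opens, IsUnit (n : Γ(X', V)) := fun V => by
    have h : IsUnit (n : Γ(X', ⊤)) := isUnit_of_app i _ (by rw [map_natCast]; exact hu)
    simpa using h.map (PicLib.res (le_top : V ≤ ⊤))
  let P := (Scheme.Modules.pullback i).obj L
  let ε : Γ(P, ⊤) := e.hom.app ⊤ (oneSec ⊤)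
  have hε : IsGen P ⊤ ε := isGen_app_iso e (isGen_oneSec ⊤)
  have h : ∀ x' : X', ∃ W : X'.Opens, x' ∈ W ∧ ∃ t : Γ(L, W), IsGen L W t ∧
      pullSec i t = resM P (le_top : i ⁻¹ᵁ W ≤ ⊤) ε := by
    intro x'
    obtain ⟨V, hxV, t, ht⟩ := exists_isGen hL x'
    obtain ⟨W, hW, hxW, hWV₀⟩ := exists_isAffineOpen_mem_and_subset (U := V) hxV
    have hWV : W ≤ V := hWV₀
    have htW := ht.restrict hWV
    have hpt := isGen_pullSec i htW hL
    obtain ⟨u, hu'⟩ := i.app_surjective W hW (hpt.coef le_rfl (resM P (le_top : i ⁻¹ᵁ W ≤ ⊤) ε))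
    have huu : IsUnit u := isUnit_of_app i _ (hu' ▸ hpt.isUnit_coef (hε.restrict le_top))
    refine ⟨W, hxW, u • resM L hWV t, ?_, ?_⟩
    · obtain ⟨w, rfl⟩ := huu
      exact htW.smul_unit w
    · rw [pullSec_smul, hu']
      refine Eq.trans (congrArg (fun z => hpt.coef le_rfl _ • z) ?_) (hpt.coef_spec le_rfl _)
      exact (resM_self _ le_rfl _).symm
  choose W hWmem t ht htε using h
  have hcov : ⨆ a, W a = ⊤ := top_le_iff.1 fun x _ => Opens.mem_iSup.2 ⟨x, hWmem x⟩
  let ζ : ∀ a b, Γ(X', W a ⊓ W b) := fun a b => (ht b).coef inf_le_right (resM L inf_le_left (t a))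
  have hζ : ∀ a b, ζ a b • resM L (inf_le_right : W a ⊓ W b ≤ W b) (t b) = resM L inf_le_left (t a) :=
    fun a b => (ht b).coef_spec inf_le_right _
  have hiζ : ∀ a b, i.app (W a ⊓ W b) (ζ a b) = 1 := fun a b => by
    refine eq_coef (isGen_pullSec i ((ht b).restrict (inf_le_right : W a ⊓ W b ≤ W b)) hL) le_rfl ?_
    rw [resM_self, ← pullSec_smul, hζ, one_smul, ← resM_pullSec i inf_le_left, ← resM_pullSec i inf_le_right,
      htε, htε]
    exact (resM_resM _ _ _ _).trans (resM_resM _ _ _ _).symm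
  let w : ∀ a, Γ(X', W a) := fun a => σ.hom.app (W a) (powSec (t a) n)
  have hwu : ∀ a, IsUnit (w a) := fun a => by
    have h := (isGen_oneSec (W a)).isUnit_coef (isGen_app_iso σ (isGen_powSec (ht a) n))
    rwa [(isGen_oneSec (W a)).coef_eq le_rfl (r := w a) (by rw [resM_self]; exact mul_one (w a))] at h
  have hwres : ∀ a (V : X'.Opens) (h : V ≤ W a), σ.hom.app V (powSec (resM L h (t a)) n) = PicLib.res h (w a) :=
    fun a V h => by
      rw [← resM_powSec, app_resM]
      rfl
  have hw : ∀ a b, PicLib.res (inf_le_left : W a ⊓ W b ≤ W a) (w a) =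
      ζ a b ^ n * PicLib.res (inf_le_right : W a ⊓ W b ≤ W b) (w b) := fun a b => by
    have h := congrArg (fun z => σ.hom.app _ (powSec z n)) (hζ a b)
    simp only [powSec_smul, Scheme.Modules.Hom.app_smul, hwres] at h
    exact h.symm
  obtain ⟨v₀, hv₀, -⟩ := TopCat.Sheaf.existsUnique_gluing' X.sheaf (fun a => i ⁻¹ᵁ W a) ⊤
    (fun a => homOfLE le_top) (fun z _ => Opens.mem_iSup.2 ⟨i z, hWmem (i z)⟩) (fun a => i.app (W a) (w a))
    (fun a b => by
      show PicLib.res (i.preimage_mono (inf_le_left : W a ⊓ W b ≤ W a)) _ =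
        PicLib.res (i.preimage_mono (inf_le_right : W a ⊓ W b ≤ W b)) _
      rw [← app_res i (inf_le_left : W a ⊓ W b ≤ W a), ← app_res i (inf_le_right : W a ⊓ W b ≤ W b), hw, map_mul,
        map_pow, hiζ, one_pow, one_mul])
  have hv₀' : ∀ a, PicLib.res (le_top : i ⁻¹ᵁ W a ≤ ⊤) v₀ = i.app (W a) (w a) := hv₀
  obtain ⟨u₀, hu₀⟩ := hlift v₀
  have hu₀a : ∀ a, i.app (W a) (PicLib.res le_top u₀) = i.app (W a) (w a) := fun a => by
    rw [app_res, ← hv₀', hu₀]
    rfl
  have hu₀u : ∀ a, IsUnit (PicLib.res (le_top : W a ≤ ⊤) u₀) := fun a =>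
    isUnit_of_app i _ (hu₀a a ▸ (hwu a).map _)
  choose c hc using fun a => (hu₀u a).exists_left_inv
  have hroot : ∀ a, ∃ r : Γ(X', W a), i.app (W a) r = 1 ∧ r ^ n = c a * w a := fun a =>
    exists_root i (hn _) 1 isUnit_one _ (by rw [map_mul, ← hu₀a, ← map_mul, hc, map_one, one_pow])
  choose r hr hrn using hroot
  choose d hd using fun a => (isUnit_of_app i (r a) (by rw [hr]; exact isUnit_one)).exists_left_inv
  let t' : ∀ a, Γ(L, W a) := fun a => d a • t a
  have ht' : ∀ a, IsGen L (W a) (t' a) := fun a => by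
    obtain ⟨z, hz⟩ : IsUnit (d a) := IsUnit.of_mul_eq_one _ (hd a)
    show IsGen L (W a) (d a • t a)
    rw [← hz]
    exact (ht a).smul_unit z
  have hid : ∀ a, i.app (W a) (d a) = 1 := fun a => by
    have h := congrArg (i.app (W a)) (hd a)
    rwa [map_mul, hr, mul_one, map_one] at h
  have hdn : ∀ a, d a ^ n * w a = PicLib.res (le_top : W a ≤ ⊤) u₀ := fun a => by
    calc d a ^ n * w a = d a ^ n * (PicLib.res (le_top : W a ≤ ⊤) u₀ * (c a * w a)) := by
          rw [← mul_assoc (PicLib.res _ u₀), mul_comm _ (c a), hc, one_mul]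
      _ = _ := by rw [← hrn, mul_left_comm, ← mul_pow, hd, one_pow, mul_one]
  obtain ⟨e₁, -⟩ := exists_iso_of_gens W hcov t' ht' (fun a => oneSec (W a)) (fun a => isGen_oneSec _)
    (fun a b V ha hb c' hc' => by
      have hV : V ≤ W a ⊓ W b := le_inf ha hb
      have hc1 : c' = 1 := by
        have hrel : resM L ha (t a) = PicLib.res hV (ζ a b) • resM L hb (t b) := by
          have h := congrArg (resM L hV) (hζ a b)
          rw [resM_smul, resM_resM, resM_resM] at h
          exact h.symm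
        have key : PicLib.res ha (d a) * PicLib.res hV (ζ a b) = c' * PicLib.res hb (d b) := by
          refine eq_coef (ht b) hb ?_
          rw [mul_smul, mul_smul, ← hrel, ← resM_smul, ← resM_smul]
          exact hc'
        have hcu : IsUnit c' := by
          refine isUnit_of_mul_isUnit_left (y := PicLib.res hb (d b)) (key ▸ ?_)
          refine ((IsUnit.of_mul_eq_one _ (hd a)).map (PicLib.res ha)).mul ?_
          exact (isUnit_of_app i (ζ a b) (hiζ a b ▸ isUnit_one)).map (PicLib.res hV)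
        refine eq_of_pow_eq i (hn V) hcu ?_ ?_
        · have hw' := congrArg (PicLib.res hV) (hw a b)
          rw [map_mul, map_pow, PicLib.res_res, PicLib.res_res] at hw'
          have h1 := congrArg (PicLib.res ha) (hdn a)
          have h2 := congrArg (PicLib.res hb) (hdn b)
          rw [map_mul, map_pow, PicLib.res_res] at h1 h2
          refine ((hu₀u b).map (PicLib.res hb)).mul_right_cancel ?_
          rw [one_pow, one_mul, PicLib.res_res]
          calc c' ^ n * PicLib.res le_top u₀ = (c' * PicLib.res hb (d b)) ^ n * PicLib.res hb (w b) := by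
                rw [← h2, mul_pow, mul_assoc]
            _ = _ := by rw [← key, mul_pow, mul_assoc, ← hw', h1]
        · have hk := congrArg (i.app V) key
          rw [map_mul, map_mul, app_res, app_res, app_res, hid, hid, hiζ, map_one, map_one, map_one, one_mul, mul_one] at hk
          rw [← hk, map_one]
      rw [hc1, one_smul, resM_oneSec, resM_oneSec])
  exact ⟨e₁⟩

end Groth.Agent.H8Coh
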