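import Groth.Agent.Coherent.QcohOps
import Groth.Agent.Flatn12.PullbackSections
import Groth.Agent.Coherent.PullUnit
import Mathlib.AlgebraicGeometry.Modules.Tilde

/-!
# Sections of a quotient of a direct sum on an affine open
-/

set_option autoImplicit false
set_option backward.isDefEq.respectTransparency false
set_option linter.style.haveILetI false

universe u

open CategoryTheory CategoryTheory.Limits AlgebraicGeometry Opposite TopologicalSpace
open Groth.Agent.Coherent

namespace Groth.Agent.H8Coh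

/-- A jointly epimorphic family of module maps has spanning images. -/
theorem iSup_range_eq_top {R : Type u} [CommRing R] {κ : Type u} {A : κ → ModuleCat.{u} R} {B : ModuleCat.{u} R}
    (c : ∀ k, A k ⟶ B) (h : ∀ (C : ModuleCat.{u} R) (q : B ⟶ C), (∀ k, c k ≫ q = 0) → q = 0) :
    ⨆ k, LinearMap.range (c k).hom = ⊤ := by
  let N₀ := ⨆ k, LinearMap.range (c k).hom
  have hq := h (ModuleCat.of R (B ⧸ N₀)) (ModuleCat.ofHom N₀.mkQ) fun k => ModuleCat.hom_ext (LinearMap.ext fun s =>
    (Submodule.Quotient.mk_eq_zero N₀).2 (le_iSup (fun k => LinearMap.range (c k).hom) k ⟨s, rfl⟩))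
  exact eq_top_iff.2 fun y _ => (Submodule.Quotient.mk_eq_zero N₀).1
    (LinearMap.congr_fun (congrArg ModuleCat.Hom.hom hq) y)

variable {X : Scheme.{u}} {κ : Type u} (E : κ → X.Modules) [∀ k, Coh.IsQCoh (E k)]
  {M : X.Modules} [Coh.IsQCoh M] (π : (∐ E) ⟶ M) [Epi π]

/-- On an affine open every section is a finite sum of images of sections of the summands. -/
theorem mem_closure_sigma {U : X.Opens} (hU : IsAffineOpen U) (y : Γ(M, U)) :
    y ∈ AddSubmonoid.closure (⋃ k, Set.range fun s : Γ(E k, U) => (Sigma.ι E k ≫ π).app U s) := by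
  suffices h : ∀ y : Γ(M, hU.fromSpec ''ᵁ ⊤),
      y ∈ AddSubmonoid.closure (⋃ k, Set.range fun s : Γ(E k, hU.fromSpec ''ᵁ ⊤) =>
        (Sigma.ι E k ≫ π).app (hU.fromSpec ''ᵁ ⊤) s) by
    have key : ∀ {V : X.Opens}, hU.fromSpec ''ᵁ ⊤ = V → ∀ z : Γ(M, V),
        z ∈ AddSubmonoid.closure (⋃ k, Set.range fun s : Γ(E k, V) => (Sigma.ι E k ≫ π).app V s) := by
      rintro V rfl
      exact h
    exact key (by rw [Scheme.Hom.image_top_eq_opensRange, hU.opensRange_fromSpec]) y
  let T := Scheme.Modules.restrictFunctor hU.fromSpec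
  let R : CommRingCat.{u} := Γ(X, U)
  haveI := Flatn12.isQCoh_restrict_fromSpec' M hU
  let c : ∀ k, (moduleSpecΓFunctor (R := Γ(X, U))).obj (T.obj (E k)) ⟶ (moduleSpecΓFunctor (R := Γ(X, U))).obj (T.obj M) := fun k =>
    (moduleSpecΓFunctor (R := Γ(X, U))).map (T.map (Sigma.ι E k ≫ π))
  have htop : ⨆ k, LinearMap.range (c k).hom = ⊤ := iSup_range_eq_top c fun C q hc => by
    let g : T.obj M ⟶ (tilde.functor Γ(X, U)).obj C :=
      inv (Scheme.Modules.fromTildeΓ (T.obj M)) ≫ (tilde.functor Γ(X, U)).map q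
    have hg : g = 0 := by
      haveI : T.IsLeftAdjoint := (Scheme.Modules.restrictAdjunction hU.fromSpec).isLeftAdjoint
      refine (cancel_epi (T.map π)).1 ((isColimitOfPreserves T (coproductIsCoproduct E)).hom_ext fun ⟨k⟩ => ?_)
      show T.map (Sigma.ι E k) ≫ T.map π ≫ g = T.map (Sigma.ι E k) ≫ T.map π ≫ 0
      rw [comp_zero, comp_zero, ← T.map_comp_assoc]
      haveI := Flatn12.isQCoh_restrict_fromSpec' (E k) hU
      refine (cancel_epi (Scheme.Modules.fromTildeΓ (T.obj (E k)))).1 ?_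
      have hn : (tilde.functor Γ(X, U)).map (c k) ≫ Scheme.Modules.fromTildeΓ (T.obj M) =
          Scheme.Modules.fromTildeΓ (T.obj (E k)) ≫ T.map (Sigma.ι E k ≫ π) :=
        tilde.adjunction.counit.naturality (T.map (Sigma.ι E k ≫ π))
      rw [comp_zero, ← Category.assoc, ← hn]
      simp only [g, Category.assoc, IsIso.hom_inv_id_assoc]
      rw [← Functor.map_comp, hc k, Functor.map_zero]
    refine (tilde.functor Γ(X, U)).map_injective ?_
    rw [Functor.map_zero, ← cancel_epi (inv (Scheme.Modules.fromTildeΓ (T.obj M))), comp_zero]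
    exact hg
  intro y
  have hy : (show (moduleSpecΓFunctor (R := Γ(X, U))).obj (T.obj M) from y) ∈ ⨆ k, LinearMap.range (c k).hom :=
    htop.symm ▸ Submodule.mem_top
  refine Submodule.iSup_induction (fun k => LinearMap.range (c k).hom) (motive := fun z =>
    (show Γ(M, hU.fromSpec ''ᵁ ⊤) from z) ∈ AddSubmonoid.closure (⋃ k, Set.range fun s : Γ(E k, hU.fromSpec ''ᵁ ⊤) =>
        (Sigma.ι E k ≫ π).app (hU.fromSpec ''ᵁ ⊤) s)) hy ?_ (zero_mem _) fun _ _ => add_mem
  rintro k _ ⟨s, rfl⟩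
  exact AddSubmonoid.subset_closure (Set.mem_iUnion.2 ⟨k, s, rfl⟩)

end Groth.Agent.H8Coh
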