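import Groth.Agent.CAlgH.AdicSmoothCotangent
import Groth.Agent.CAlgH.AdicSmoothLift
import Mathlib.AlgebraicGeometry.Morphisms.Smooth
import Mathlib.RingTheory.Smooth.Locus
import Mathlib.AlgebraicGeometry.Noetherian
import Mathlib.RingTheory.Spectrum.Prime.RingHom

/-!
# Smoothness from lifting along small extensions of Artinian local rings
-/

set_option autoImplicit false
set_option backward.isDefEq.respectTransparency.types false
set_option linter.style.haveILetI false

universe u

open CategoryTheory AlgebraicGeometry IsLocalRing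

namespace Groth.Agent.H8Coh

/-- Lifting of points along small extensions of Artinian local rings. -/
def LiftsSmall {X Y : Scheme.{u}} (g : X ⟶ Y) : Prop :=
  ∀ (C : Type u) [CommRing C] [IsLocalRing C] [IsArtinianRing C] (J : Ideal C), J ^ 2 = ⊥ →
    (∀ c ∈ maximalIdeal C, ∀ j ∈ J, c * j = 0) →
    ∀ (a : Spec (CommRingCat.of (C ⧸ J)) ⟶ X) (b : Spec (CommRingCat.of C) ⟶ Y),
      Spec.map (CommRingCat.ofHom (Ideal.Quotient.mk J)) ≫ b = a ≫ g →
      ∃ l : Spec (CommRingCat.of C) ⟶ X, Spec.map (CommRingCat.ofHom (Ideal.Quotient.mk J)) ≫ l = a ∧ l ≫ g = b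

theorem surjective_specMap_mk {C : Type u} [CommRing C] (J : Ideal C) (hJ : J ^ 2 = ⊥) :
    Function.Surjective (Spec.map (CommRingCat.ofHom (Ideal.Quotient.mk J))).base := by
  intro q
  have : (q : PrimeSpectrum C) ∈ Set.range (PrimeSpectrum.comap (Ideal.Quotient.mk J)) := by
    rw [range_comap_of_surjective _ _ Ideal.Quotient.mk_surjective, Ideal.mk_ker]
    intro x hx
    refine q.isPrime.mem_of_pow_mem 2 ?_
    have h := Ideal.pow_mem_pow hx 2
    rw [hJ, Ideal.mem_bot] at h
    rw [h]
    exact zero_mem _
  exact this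

theorem isUnit_of_mk {C : Type u} [CommRing C] {J : Ideal C} (hJ : J ^ 2 = ⊥) {c : C}
    (h : IsUnit (Ideal.Quotient.mk J c)) : IsUnit c :=
  (IsNilpotent.isUnit_quotient_mk_iff (I := J) ⟨2, hJ⟩).1 h

/-- A morphism of finite type to a locally Noetherian scheme lifting small extensions is smooth. -/
theorem smooth_of_liftsSmall {X Y : Scheme.{u}} (g : X ⟶ Y) [IsLocallyNoetherian Y] [LocallyOfFiniteType g]
    (h : LiftsSmall g) : Smooth g := by
  refine ⟨fun {U} hU {V} hV e => ?_⟩
  haveI : IsNoetherianRing Γ(Y, U) := IsLocallyNoetherian.component_noetherian ⟨U, hU⟩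
  have hft := g.finiteType_appLE hU hV e
  algebraize [(g.appLE U V e).hom]
  haveI : Algebra.FinitePresentation Γ(Y, U) Γ(X, V) := Algebra.FinitePresentation.of_finiteType.1 inferInstance
  refine ⟨(Algebra.smoothLocus_eq_univ_iff).1 (Set.eq_univ_of_forall fun q => ?_), inferInstance⟩
  show Algebra.FormallySmooth Γ(Y, U) (Localization.AtPrime q.asIdeal)
  let A := Γ(Y, U)
  let B := Γ(X, V)
  let p : Ideal A := q.asIdeal.comap (algebraMap A B)
  let R := Localization.AtPrime p
  let S := Localization.AtPrime q.asIdeal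
  let ρ := Localization.localRingHom p q.asIdeal (algebraMap A B) rfl
  letI : Algebra R S := ρ.toAlgebra
  haveI : IsScalarTower A R S := .of_algebraMap_eq fun x => by
    rw [RingHom.algebraMap_toAlgebra, Localization.localRingHom_to_map, ← IsScalarTower.algebraMap_apply]
  haveI : IsLocalHom (algebraMap R S) := Localization.isLocalHom_localRingHom _ _ _ _
  haveI : IsNoetherianRing S := IsLocalization.isNoetherianRing q.asIdeal.primeCompl _
    (Algebra.FiniteType.isNoetherianRing A B)
  have hfs : CAlgX.IsAdicFormallySmooth R S (maximalIdeal S) := by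
    refine CAlgH.AdicSmooth.of_lift_small fun C _ _ _ _ J _ hJ hlen ψ _ => ?_
    have hmJ : ∀ c ∈ maximalIdeal C, ∀ j ∈ J, c * j = 0 := by
      haveI : IsSimpleModule C J := Module.length_eq_one_iff.1 hlen
      rcases IsSimpleOrder.eq_bot_or_eq_top (maximalIdeal C • ⊤ : Submodule C J) with hb | ht
      · intro c hc j hj
        have : c • (⟨j, hj⟩ : J) ∈ (⊥ : Submodule C J) := hb ▸ Submodule.smul_mem_smul hc trivial
        exact congrArg Subtype.val ((Submodule.mem_bot C).1 this)
      · exfalso
        exact bot_ne_top (α := Submodule C J) (Submodule.eq_bot_of_le_smul_of_le_jacobson_bot (maximalIdeal C) ⊤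
          (IsNoetherian.noetherian _) ht.ge (maximalIdeal_le_jacobson _)).symm
    let u : B →+* C ⧸ J := ψ.toRingHom.comp (algebraMap B S)
    let v : A →+* C := (algebraMap R C).comp (algebraMap A R)
    have huv : (Ideal.Quotient.mk J).comp v = u.comp (algebraMap A B) := by
      refine RingHom.ext fun x => ?_
      show Ideal.Quotient.mk J (algebraMap R C (algebraMap A R x)) = ψ (algebraMap B S (algebraMap A B x))
      rw [← IsScalarTower.algebraMap_apply A B S, IsScalarTower.algebraMap_apply A R S, ψ.commutes,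
        Ideal.Quotient.mk_algebraMap]
    obtain ⟨l, hl1, hl2⟩ := h C J hJ hmJ (Spec.map (CommRingCat.ofHom u) ≫ hV.fromSpec)
      (Spec.map (CommRingCat.ofHom v) ≫ hU.fromSpec) (by
        rw [← Category.assoc, ← Spec.map_comp, Category.assoc, ← IsAffineOpen.SpecMap_appLE_fromSpec g hU hV e,
          ← Category.assoc, ← Spec.map_comp]
        congr 2
        exact CommRingCat.hom_ext huv)
    have hrange : Set.range l.base ⊆ Set.range hV.fromSpec.base := by
      rintro _ ⟨z, rfl⟩
      obtain ⟨z', rfl⟩ := surjective_specMap_mk J hJ z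
      exact ⟨(Spec.map (CommRingCat.ofHom u)).base z', (congrArg (fun t => t.base z') hl1).symm⟩
    obtain ⟨θ, hθ⟩ := Spec.map_surjective (IsOpenImmersion.lift hV.fromSpec l hrange)
    have hθl : Spec.map θ ≫ hV.fromSpec = l := by rw [hθ, IsOpenImmersion.lift_fac]
    have hθ1 : (Ideal.Quotient.mk J).comp θ.hom = u := congrArg CommRingCat.Hom.hom
      (show θ ≫ CommRingCat.ofHom (Ideal.Quotient.mk J) = CommRingCat.ofHom u from
        Spec.map_injective ((cancel_mono hV.fromSpec).1 (by rw [Spec.map_comp, Category.assoc, hθl, hl1])))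
    have hθ2 : θ.hom.comp (algebraMap A B) = v := congrArg CommRingCat.Hom.hom
      (show g.appLE U V e ≫ θ = CommRingCat.ofHom v from
        Spec.map_injective ((cancel_mono hU.fromSpec).1 (by
          rw [Spec.map_comp, Category.assoc, IsAffineOpen.SpecMap_appLE_fromSpec g hU hV e, ← Category.assoc,
            hθl, hl2])))
    have hunit : ∀ t : q.asIdeal.primeCompl, IsUnit (θ.hom t) := fun t => by
      refine isUnit_of_mk hJ ?_
      rw [show Ideal.Quotient.mk J (θ.hom t) = u t from RingHom.congr_fun hθ1 t]
      exact (IsLocalization.map_units S t).map ψ.toRingHom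
    let χ : S →+* C := IsLocalization.lift hunit
    have hχR : χ.comp (algebraMap R S) = algebraMap R C := IsLocalization.ringHom_ext p.primeCompl (RingHom.ext fun x => by
      show χ (algebraMap R S (algebraMap A R x)) = algebraMap R C (algebraMap A R x)
      rw [← IsScalarTower.algebraMap_apply A R S, IsScalarTower.algebraMap_apply A B S, IsLocalization.lift_eq]
      exact RingHom.congr_fun hθ2 x)
    refine ⟨{ toRingHom := χ, commutes' := RingHom.congr_fun hχR }, ?_⟩
    refine AlgHom.coe_ringHom_injective ?_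
    refine IsLocalization.ringHom_ext q.asIdeal.primeCompl (RingHom.ext fun x => ?_)
    show Ideal.Quotient.mk J (χ (algebraMap B S x)) = ψ (algebraMap B S x)
    rw [IsLocalization.lift_eq]
    exact RingHom.congr_fun hθ1 x
  refine CAlgH.AdicSmooth.formallySmooth_localization q.asIdeal fun T _ _ J hJ ψ hψ => ?_
  have hunit : ∀ t : p.primeCompl, IsUnit (algebraMap A T t) := fun t => by
    refine isUnit_of_mk hJ ?_
    rw [Ideal.Quotient.mk_algebraMap, ← ψ.commutes, IsScalarTower.algebraMap_apply A R S]
    exact ((IsLocalization.map_units R t).map (algebraMap R S)).map ψ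
  letI : Algebra R T := (IsLocalization.lift hunit : R →+* T).toAlgebra
  haveI : IsScalarTower A R T := .of_algebraMap_eq fun x => (IsLocalization.lift_eq hunit x).symm
  have hψR : ψ.toRingHom.comp (algebraMap R S) = algebraMap R (T ⧸ J) :=
    IsLocalization.ringHom_ext p.primeCompl (RingHom.ext fun x => by
      show ψ (algebraMap R S (algebraMap A R x)) = algebraMap R (T ⧸ J) (algebraMap A R x)
      rw [← IsScalarTower.algebraMap_apply A R S, ψ.commutes, ← IsScalarTower.algebraMap_apply A R (T ⧸ J)])
  obtain ⟨χ, hχ⟩ := hfs T J hJ { toRingHom := ψ.toRingHom, commutes' := RingHom.congr_fun hψR } hψ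
  exact ⟨χ.restrictScalars A, AlgHom.ext fun x => AlgHom.congr_fun hχ x⟩

end Groth.Agent.H8Coh
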