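import Groth.Agent.Coherent.CohBC.TwistStrata
import Groth.Agent.Coherent.PullUnit
import Groth.Agent.CohExch.IsoCrit
import Groth.Agent.Coherent.RpushSupport
import Groth.Agent.H8Coh.PullSquare

/-!
# Base change of direct images of high twists, globally

For `f : X ⟶ S` proper flat over a Noetherian scheme, `L` invertible and ample over the affine opens, `F` coherent and a
pullback square over a Noetherian `T`, any map `φ^* f_*(F ⊗ L^r) ⟶ π_*g^*(F ⊗ L^r)` compatible with pulling back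
sections is an isomorphism for large `r`.
-/

set_option autoImplicit false
set_option maxHeartbeats 1600000
set_option backward.isDefEq.respectTransparency false
set_option linter.style.haveILetI false

universe u

open CategoryTheory CategoryTheory.Limits AlgebraicGeometry Opposite TopologicalSpace TensorProduct Function
open Groth.Agent.Coherent Groth.Agent.PicLib Groth.Agent.AmpleLib Groth.Agent.Coherent.CohBC

namespace Groth.Agent.H8Coh

variable {X S : Scheme.{u}} (f : X ⟶ S)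

theorem le_opens_top (U : X.Opens) : (⊤ : (U : Scheme.{u}).Opens) ≤ U.ι ⁻¹ᵁ U := fun z _ => z.2

/-- Sections of a direct image, as global sections on the inverse image. -/
noncomputable def pushSec {V : S.Opens} (hV : IsAffineOpen V) (G : X.Modules) :
    letI : (f ⁻¹ᵁ V).toScheme.Over (Spec (CommRingCat.of Γ(S, V))) := ⟨toSpecSections f hV⟩
    Γ((Coh.push f).obj G, V) →ₗ[Γ(S, V)] Γ((Scheme.Modules.pullback (f ⁻¹ᵁ V).ι).obj G, ⊤) :=
  letI : (f ⁻¹ᵁ V).toScheme.Over (Spec (CommRingCat.of Γ(S, V))) := ⟨toSpecSections f hV⟩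
  let ι := (f ⁻¹ᵁ V).ι
  let G' := (Scheme.Modules.pullback ι).obj G
  have hle := le_opens_top (f ⁻¹ᵁ V)
  { toFun := fun m => resM G' hle (pullSec ι (show Γ(G, f ⁻¹ᵁ V) from m))
    map_add' := fun a b => (congrArg (resM G' hle) ((((Scheme.Modules.pullbackPushforwardAdjunction ι).unit.app G).app (f ⁻¹ᵁ V)).hom.map_add (show Γ(G, f ⁻¹ᵁ V) from a) (show Γ(G, f ⁻¹ᵁ V) from b))).trans (map_add (resM G' hle) _ _)
    map_smul' := fun r m => by
      rw [RingHom.id_apply]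
      refine (congrArg (resM G' hle) (pullSec_smul ι (f.app V r) (show Γ(G, f ⁻¹ᵁ V) from m))).trans ?_
      refine (resM_smul G' hle _ _).trans ?_
      refine congrArg (fun t : Γ((f ⁻¹ᵁ V).toScheme, ⊤) => t • resM G' hle (pullSec ι (show Γ(G, f ⁻¹ᵁ V) from m))) ?_
      refine Eq.trans ?_ (toGlobal_map_evaluation hV (K := Γ(S, V)) (toSpecSections f hV) (𝟙 _) (ι ≫ f)
        (by erw [Spec.map_id, Category.id_comp]; exact (isPullback_toSpecSections f hV).w.symm)
        le_rfl ⊤ hle r).symm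
      rw [Scheme.Hom.appLE, Scheme.Hom.comp_app]
      show _ = (f ⁻¹ᵁ V).toScheme.presheaf.map (homOfLE hle).op (ι.app _ (f.app V (S.presheaf.map (𝟙 _) r)))
      rw [S.presheaf.map_id]
      rfl }

theorem pushSec_apply {V : S.Opens} (hV : IsAffineOpen V) (G : X.Modules) (m : Γ(G, f ⁻¹ᵁ V)) :
    pushSec f hV G m = resM _ (le_opens_top (f ⁻¹ᵁ V)) (pullSec (f ⁻¹ᵁ V).ι m) := rfl

theorem bijective_pushSec {V : S.Opens} (hV : IsAffineOpen V) (G : X.Modules) : Bijective (pushSec f hV G) := by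
  let ι := (f ⁻¹ᵁ V).ι
  let G' := (Scheme.Modules.pullback ι).obj G
  have hle' : f ⁻¹ᵁ V ≤ ι ''ᵁ (ι ⁻¹ᵁ (f ⁻¹ᵁ V)) := by
    rw [ι.image_preimage_eq_opensRange_inf, Scheme.Opens.opensRange_ι, inf_idem]
  refine ⟨(injective_iff_map_eq_zero (pushSec f hV G)).2 fun m hm => ?_, fun b => ?_⟩
  · have h1 : resM G' (le_top : ι ⁻¹ᵁ (f ⁻¹ᵁ V) ≤ ⊤) (pushSec f hV G m) = 0 := by rw [hm, map_zero]
    have h2 : pullSec ι (show Γ(G, f ⁻¹ᵁ V) from m) = 0 := by
      refine Eq.trans ?_ h1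
      exact ((resM_resM G' _ _ _).trans (resM_self G' _ _)).symm
    have h3 := congrArg (resM G hle') (Serre.pullSec_eq_zero_imp ι G _ h2)
    rw [resM_resM, map_zero] at h3
    exact (resM_self G _ _).symm.trans h3
  · obtain ⟨m, hm⟩ := exists_pullSec_ι G (U := f ⁻¹ᵁ V) (resM G' le_top b)
    refine ⟨m, ?_⟩
    show resM G' _ (pullSec ι m) = b
    rw [hm, resM_resM, resM_self]

/-- Restriction of sections of a direct image. -/
theorem resM_push {Y Z : Scheme.{u}} (a : Z ⟶ Y) (M : Z.Modules) {U U' : Y.Opens} (h : U' ≤ U) (y : Γ(M, a ⁻¹ᵁ U)) :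
    resM ((Coh.push a).obj M) h y = resM M ((Opens.map a.base).map (homOfLE h)).le y := rfl

theorem resM_push_resM {Y Z : Scheme.{u}} (a : Z ⟶ Y) (M : Z.Modules) {U U' : Y.Opens} (h : U' ≤ U) {V : Z.Opens}
    (h' : a ⁻¹ᵁ U ≤ V) (h'' : a ⁻¹ᵁ U' ≤ V) (y : Γ(M, V)) :
    resM ((Coh.push a).obj M) h (resM M h' y) = resM M h'' y := by
  rw [resM_push]; exact resM_resM _ _ _ _

variable {T XT : Scheme.{u}} (φ : T ⟶ S) {πT : XT ⟶ T} {g : XT ⟶ X} (hsq : IsPullback g πT f φ)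

/-- A map compatible with pulling back sections of the direct images. -/
def IsBCMap (hsq : IsPullback g πT f φ) {G : X.Modules}
    (β : (Scheme.Modules.pullback φ).obj ((Coh.push f).obj G) ⟶ (Coh.push πT).obj ((Scheme.Modules.pullback g).obj G)) :
    Prop :=
  ∀ (V : S.Opens) (m : Γ(G, f ⁻¹ᵁ V)),
    β.app (φ ⁻¹ᵁ V) (pullSec φ (L := (Coh.push f).obj G) (U := V) m) =
      resM ((Scheme.Modules.pullback g).obj G)
        (show πT ⁻¹ᵁ (φ ⁻¹ᵁ V) ≤ g ⁻¹ᵁ (f ⁻¹ᵁ V) from fun x hx => by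
          show (g ≫ f) x ∈ V
          rw [hsq.w]; exact hx)
        (pullSec g m)

/-- The point computation: a base change compatible map, read on the local square. -/
theorem sq_pushSec_app {G : X.Modules}
    (β : (Scheme.Modules.pullback φ).obj ((Coh.push f).obj G) ⟶ (Coh.push πT).obj ((Scheme.Modules.pullback g).obj G))
    (hβ : IsBCMap f φ hsq β) {V : S.Opens} (hV : IsAffineOpen V) {W : T.Opens} (hW : IsAffineOpen W)
    (e : W ≤ φ ⁻¹ᵁ V) (gW : (πT ⁻¹ᵁ W).toScheme ⟶ (f ⁻¹ᵁ V).toScheme)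
    (hgW : gW ≫ (f ⁻¹ᵁ V).ι = (πT ⁻¹ᵁ W).ι ≫ g) (m : Γ(G, f ⁻¹ᵁ V)) :
    ((Scheme.Modules.pullbackComp (πT ⁻¹ᵁ W).ι g).app G ≪≫ (Scheme.Modules.pullbackCongr hgW.symm).app G ≪≫
        ((Scheme.Modules.pullbackComp gW (f ⁻¹ᵁ V).ι).app G).symm).hom.app ⊤
      (pushSec πT hW ((Scheme.Modules.pullback g).obj G)
        (β.app W (resM _ e (pullSec φ (L := (Coh.push f).obj G) (U := V) m)))) =
      pullSec gW (pushSec f hV G m) := by
  let ιT := (πT ⁻¹ᵁ W).ι
  let ι := (f ⁻¹ᵁ V).ι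
  have hle : πT ⁻¹ᵁ W ≤ g ⁻¹ᵁ (f ⁻¹ᵁ V) := fun x hx => by
    show (g ≫ f) x ∈ V
    rw [hsq.w]; exact e hx
  have h2 : β.app W (resM _ e (pullSec φ (L := (Coh.push f).obj G) (U := V) m)) =
      resM ((Scheme.Modules.pullback g).obj G) hle (pullSec g m) := by
    refine (app_resM β e _).trans ?_
    refine (congrArg (resM _ e) (hβ V m)).trans ?_
    exact resM_push_resM πT _ e _ _ _
  rw [h2]
  have hT : (⊤ : (πT ⁻¹ᵁ W).toScheme.Opens) ≤ ιT ⁻¹ᵁ (g ⁻¹ᵁ (f ⁻¹ᵁ V)) := fun z _ => hle z.2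
  have h5 : pushSec πT hW ((Scheme.Modules.pullback g).obj G)
      (resM ((Scheme.Modules.pullback g).obj G) hle (pullSec g m)) =
      resM _ hT (pullSec ιT (pullSec g m)) := by
    refine (pushSec_apply πT hW _ _).trans ?_
    rw [← resM_pullSec, resM_resM]
  rw [h5]
  refine (app_resM _ hT _).trans ?_
  refine (congrArg (resM _ hT) (sqIso_app_pullSec ιT g gW ι hgW G m)).trans ?_
  refine (resM_resM _ _ _ _).trans ?_
  refine Eq.trans ?_ (congrArg (pullSec gW) (pushSec_apply f hV G m).symm)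
  exact resM_pullSec gW (le_opens_top (f ⁻¹ᵁ V)) (pullSec ι m)

include hsq in
/-- Bijectivity on an affine open from the base change bijection over it. -/
theorem bijective_app_of_secBC {G : X.Modules} [Coh.IsQCoh ((Coh.push f).obj G)]
    (β : (Scheme.Modules.pullback φ).obj ((Coh.push f).obj G) ⟶ (Coh.push πT).obj ((Scheme.Modules.pullback g).obj G))
    (hβ : IsBCMap f φ hsq β) {V : S.Opens} (hV : IsAffineOpen V) {W : T.Opens} (hW : IsAffineOpen W)
    (e : W ≤ φ ⁻¹ᵁ V) (gW : (πT ⁻¹ᵁ W).toScheme ⟶ (f ⁻¹ᵁ V).toScheme)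
    (hgW : gW ≫ (f ⁻¹ᵁ V).ι = (πT ⁻¹ᵁ W).ι ≫ g)
    (hsqW : IsPullback gW (toSpecSections πT hW) (toSpecSections f hV) (Spec.map (CommRingCat.ofHom (φ.appLE V W e).hom)))
    (hb : letI : (f ⁻¹ᵁ V).toScheme.Over (Spec (CommRingCat.of Γ(S, V))) := ⟨toSpecSections f hV⟩
      letI : (πT ⁻¹ᵁ W).toScheme.Over (Spec (CommRingCat.of Γ(T, W))) := ⟨toSpecSections πT hW⟩
      Bijective (secBC (φ.appLE V W e).hom gW hsqW ((Scheme.Modules.pullback (f ⁻¹ᵁ V).ι).obj G) ⊤)) :
    Bijective (β.app W) := by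
  let _ : (f ⁻¹ᵁ V).toScheme.Over (Spec (CommRingCat.of Γ(S, V))) := ⟨toSpecSections f hV⟩
  let _ : (πT ⁻¹ᵁ W).toScheme.Over (Spec (CommRingCat.of Γ(T, W))) := ⟨toSpecSections πT hW⟩
  let _ := (φ.appLE V W e).hom.toAlgebra
  let P := (Scheme.Modules.pullback φ).obj ((Coh.push f).obj G)
  let ιT := (πT ⁻¹ᵁ W).ι
  let ι := (f ⁻¹ᵁ V).ι
  let eF : (Scheme.Modules.pullback ιT).obj ((Scheme.Modules.pullback g).obj G) ≅
      (Scheme.Modules.pullback gW).obj ((Scheme.Modules.pullback ι).obj G) :=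
    (Scheme.Modules.pullbackComp _ _).app G ≪≫ (Scheme.Modules.pullbackCongr hgW.symm).app G ≪≫
      ((Scheme.Modules.pullbackComp gW ι).app G).symm
  letI := Module.compHom Γ(P, W) (φ.appLE V W e).hom
  haveI : IsScalarTower Γ(S, V) Γ(T, W) Γ(P, W) := IsScalarTower.of_algebraMap_smul fun _ _ => rfl
  obtain ⟨μ, hμ, hμe⟩ := EGA43.InjFibre.pullMap_isBaseChange φ hV hW e ((Coh.push f).obj G)
  let βW : Γ(P, W) →ₗ[Γ(T, W)] Γ((Coh.push πT).obj ((Scheme.Modules.pullback g).obj G), W) :=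
    { toFun := fun x => β.app W x
      map_add' := map_add _
      map_smul' := fun r x => Scheme.Modules.Hom.app_smul β r x }
  let Ψ : Γ(P, W) →ₗ[Γ(T, W)] Γ((Scheme.Modules.pullback gW).obj ((Scheme.Modules.pullback ι).obj G), ⊤) :=
    (topEquiv (A := Γ(T, W)) eF).toLinearMap ∘ₗ pushSec πT hW _ ∘ₗ βW
  have hpt : ∀ m : Γ((Coh.push f).obj G, V), Ψ (μ m) = pullSec gW (pushSec f hV G m) := fun m => by
    rw [(hμe m).trans (pullMap_eq_resM_pullSec φ hV hW e _ m)]
    exact sq_pushSec_app f φ hsq β hβ hV hW e gW hgW m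
  have key : ∀ z, Ψ (hμ.equiv z) = secBC (φ.appLE V W e).hom gW hsqW _ ⊤
      ((pushSec f hV G).baseChange Γ(T, W) z) := fun z => by
    induction z using TensorProduct.induction_on with
    | zero => simp only [map_zero]
    | add u v hu hv => simp only [map_add, hu, hv]
    | tmul b m =>
      rw [IsBaseChange.equiv_tmul, map_smul, hpt, LinearMap.baseChange_tmul]
      exact (secBC_tmul _ gW hsqW _ ⊤ b _).symm
  have hΨ : Bijective (Ψ ∘ hμ.equiv) := by
    rw [show ⇑Ψ ∘ ⇑hμ.equiv = (secBC (φ.appLE V W e).hom gW hsqW _ ⊤) ∘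
      ((pushSec f hV G).baseChange Γ(T, W)) from funext key]
    refine hb.comp ?_
    exact ((LinearEquiv.ofBijective _ (bijective_pushSec f hV G)).baseChange Γ(S, V) Γ(T, W) _ _).bijective
  have hΨ' : Bijective Ψ := (Bijective.of_comp_iff Ψ hμ.equiv.bijective).1 hΨ
  have h4 : Bijective (⇑(topEquiv (A := Γ(T, W)) eF) ∘ (⇑(pushSec πT hW _) ∘ ⇑(β.app W))) := hΨ'
  rwa [(topEquiv (A := Γ(T, W)) eF).bijective.of_comp_iff',
    (bijective_pushSec πT hW _).of_comp_iff'] at h4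

variable {L : X.Modules} [IsNoetherian S] [IsNoetherian T] [IsProper f] [Flat f]

include hsq in
/-- Base change of direct images of high twists is an isomorphism. -/
theorem exists_bound_isIso (hLi : PicF.IsInvertible L)
    (hamp : ∀ V : S.Opens, IsAffineOpen V → CohB1.IsAmple ((Scheme.Modules.pullback (f ⁻¹ᵁ V).ι).obj L))
    {F : X.Modules} (hF : Coh.IsCoh F) :
    ∃ N : ℕ, ∀ r : ℕ, N ≤ r → ∀ (G : X.Modules), Nonempty (G ≅ CohB1.tensorMod F (CohB1.tensorPow L r)) →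
      ∀ β : (Scheme.Modules.pullback φ).obj ((Coh.push f).obj G) ⟶ (Coh.push πT).obj ((Scheme.Modules.pullback g).obj G),
        IsBCMap f φ hsq β → IsIso β := by
  classical
  haveI : IsLocallyNoetherian X := LocallyOfFiniteType.isLocallyNoetherian f
  haveI : IsProper πT := MorphismProperty.of_isPullback (P := @IsProper) hsq inferInstance
  haveI : IsLocallyNoetherian XT := LocallyOfFiniteType.isLocallyNoetherian πT
  have hloc : ∀ t : T, ∃ (W : T.Opens), t ∈ W ∧ ∃ (hW : IsAffineOpen W) (V : S.Opens) (hV : IsAffineOpen V)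
      (e : W ≤ φ ⁻¹ᵁ V) (N : ℕ), ∀ r : ℕ, N ≤ r → ∀ (G : X.Modules),
        Nonempty (G ≅ CohB1.tensorMod F (CohB1.tensorPow L r)) →
        ∀ β : (Scheme.Modules.pullback φ).obj ((Coh.push f).obj G) ⟶ (Coh.push πT).obj ((Scheme.Modules.pullback g).obj G),
          IsBCMap f φ hsq β → Bijective (β.app W) := by
    intro t
    obtain ⟨V, hV, hxV, -⟩ := exists_isAffineOpen_mem_and_subset (U := ⊤) (x := φ t) trivial
    obtain ⟨W, hW, htW, e⟩ := exists_isAffineOpen_mem_and_subset (U := φ ⁻¹ᵁ V) (x := t) hxV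
    let _ : (f ⁻¹ᵁ V).toScheme.Over (Spec (CommRingCat.of Γ(S, V))) := ⟨toSpecSections f hV⟩
    let _ : (πT ⁻¹ᵁ W).toScheme.Over (Spec (CommRingCat.of Γ(T, W))) := ⟨toSpecSections πT hW⟩
    have hsqV := isPullback_toSpecSections f hV
    haveI : IsProper ((f ⁻¹ᵁ V).toScheme ↘ Spec (CommRingCat.of Γ(S, V))) :=
      MorphismProperty.of_isPullback (P := @IsProper) hsqV inferInstance
    haveI : Flat ((f ⁻¹ᵁ V).toScheme ↘ Spec (CommRingCat.of Γ(S, V))) :=
      MorphismProperty.of_isPullback (P := @Flat) hsqV inferInstance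
    haveI : IsNoetherianRing Γ(S, V) := IsLocallyNoetherian.component_noetherian ⟨V, hV⟩
    haveI : IsNoetherianRing Γ(T, W) := IsLocallyNoetherian.component_noetherian ⟨W, hW⟩
    let ι := (f ⁻¹ᵁ V).ι
    obtain ⟨gW, hgW, hsqW⟩ := exists_localSquare f φ hsq hV hW e
    obtain ⟨N, hN⟩ := exists_bijective_secBC_twist (φ.appLE V W e).hom gW hsqW (hamp V hV)
      ((Scheme.Modules.pullback ι).obj F) (ZClosLib.isCoh_pullback ι F hF)
    refine ⟨W, htW, hW, V, hV, e, N, fun r hr G ⟨i⟩ β hβ => ?_⟩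
    haveI : Coh.IsQCoh ((Coh.push f).obj G) :=
      (Existence.isCoh_push_of_isProper f (Coherent.isCoh_of_iso i.symm
        (EulerLib.isCoh_twist (isInvertible_tensorPow hLi r) hF))).1
    obtain ⟨eG⟩ := nonempty_restrict_twist ι hLi F r
    exact bijective_app_of_secBC f φ hsq β hβ hV hW e gW hgW hsqW
      (bijective_secBC_of_iso _ gW hsqW (((Scheme.Modules.pullback ι).mapIso i ≪≫ eG)).symm (hN r hr))
  choose W hWt hW V hV e N hN using hloc
  obtain ⟨s, hs⟩ := isCompact_univ.elim_finite_subcover (fun t => (W t : Set T)) (fun t => (W t).isOpen)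
    (fun t _ => Set.mem_iUnion.2 ⟨t, hWt t⟩)
  refine ⟨s.sup N, fun r hr G hG β hβ => ?_⟩
  have hGc : Coh.IsCoh G := Coherent.isCoh_of_iso hG.some.symm
    (EulerLib.isCoh_twist (isInvertible_tensorPow hLi r) hF)
  haveI := (Existence.isCoh_push_of_isProper f hGc).1
  haveI := EGA43.InjFibre.isQCoh_pullback φ ((Coh.push f).obj G)
  haveI := (Existence.isCoh_push_of_isProper πT (ZClosLib.isCoh_pullback g G hGc)).1
  refine CohExch.isIso_of_bijective_affine_cover β fun t => ?_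
  obtain ⟨t', ht's, ht⟩ := Set.mem_iUnion₂.1 (hs (Set.mem_univ t))
  exact ⟨W t', hW t', ht, hN t' r ((Finset.le_sup ht's).trans hr) G hG β hβ⟩

end Groth.Agent.H8Coh
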