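import Groth.Agent.Coherent.CohBC.AcyclicSections
import Groth.Agent.Coherent.CohBC.TwistBC
import Groth.Agent.Coherent.Existence.Contract
import Groth.Agent.Coherent.FormalFunctions
import Groth.Agent.AmpleLib.Twist
import Mathlib.RingTheory.Flat.EquationalCriterion

/-!
# The vanishing ideal of a homomorphism into a flat family, over an affine base

For `X` proper over a Noetherian ring `A` with ample sheaf, coherent `E`, `F` with `F` flat over `A`, any base change
`g : X_B → X` and homomorphism `f : g^*E → g^*F`, the maps `B → C` killing `f` are the ones killing one ideal of `B`.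
-/

set_option autoImplicit false
set_option maxHeartbeats 800000
set_option backward.isDefEq.respectTransparency false
set_option linter.style.haveILetI false

universe u

open CategoryTheory CategoryTheory.Limits AlgebraicGeometry Opposite TopologicalSpace TensorProduct Function
open Groth.Agent.Coherent Groth.Agent.PicLib Groth.Agent.AmpleLib Groth.Agent.Coherent.CohBC

namespace Groth.Agent.H8Coh

/-- Tensoring with an invertible module is faithful. -/
theorem eq_zero_of_tensorMap {Z : Scheme.{u}} {M N Λ : Z.Modules} (hΛ : PicF.IsInvertible Λ) (φ : M ⟶ N)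
    (h : tensorMap φ (𝟙 Λ) = 0) : φ = 0 := by
  refine Scheme.Modules.hom_ext _ _ fun W => ?_
  ext a
  refine AmpleLib.sec_ext _ (φ.app W a) 0 fun y hy => ?_
  obtain ⟨U, hyU, s, hs⟩ := exists_isGen hΛ y
  refine ⟨W ⊓ U, inf_le_left, ⟨hy, hyU⟩, ?_⟩
  rw [map_zero, ← app_resM]
  refine (bijective_tmul_gen (M := N) hs (W ⊓ U) inf_le_right).1 ?_
  show tmul (φ.app (W ⊓ U) (resM M inf_le_left a)) (resM Λ inf_le_right s) = tmul 0 (resM Λ inf_le_right s)
  rw [tmul_zero_left]
  have := ConcreteCategory.congr_hom (congrArg (fun ψ => Scheme.Modules.Hom.app ψ (W ⊓ U)) h)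
    (tmul (resM M inf_le_left a) (resM Λ inf_le_right s))
  exact ((tensorMap_tmul φ (𝟙 Λ) _ _).symm.trans this).trans rfl

/-- A map out of a pulled back free module is zero when it kills the pulled back basis. -/
theorem hom_eq_zero_of_pullSec {Z Y : Scheme.{u}} (g : Z ⟶ Y) {I : Type u} {N : Z.Modules}
    (ψ : (Scheme.Modules.pullback g).obj (freeMod Y I) ⟶ N)
    (h : ∀ i, ψ.app (g ⁻¹ᵁ ⊤) (pullSec g (unitVal (freeInj i) ⊤)) = 0) : ψ = 0 := by
  apply ((Scheme.Modules.pullbackPushforwardAdjunction g).homEquiv _ _).injective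
  rw [Adjunction.homEquiv_unit, Adjunction.homEquiv_unit, Functor.map_zero, comp_zero]
  refine freeMod_hom_ext fun i => Existence.unit_hom_ext ?_
  rw [comp_zero]
  exact h i

/-- A functor image of an epi, two isomorphisms and a map vanishes with the image of the map. -/
theorem map_comp_eq_zero_iff {C D : Type*} [Category C] [Category D] [HasZeroMorphisms C] [HasZeroMorphisms D]
    (T : C ⥤ D) {P M N M' N' : C} (p : P ⟶ M) [Epi (T.map p)] (a : M ≅ M') (m : M' ⟶ N') (b : N ≅ N') :
    T.map (p ≫ a.hom ≫ m ≫ b.inv) = 0 ↔ T.map m = 0 := by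
  rw [T.map_comp, T.map_comp, T.map_comp]
  constructor
  · intro h
    have h1 : T.map a.hom ≫ T.map m ≫ T.map b.inv = 0 := by rwa [← cancel_epi (T.map p), comp_zero]
    rwa [← cancel_epi (T.map a.hom), comp_zero, ← cancel_mono (T.map b.inv), zero_comp, Category.assoc]
  · intro h
    rw [h, zero_comp, comp_zero, comp_zero]

variable {A B C : Type u} [CommRing A] [CommRing B] [CommRing C]

/-- The kernel of a scalar change on a tensor with a projective module is cut out by an ideal. -/
theorem exists_ideal_of_projective [Algebra A B] (P : Type u) [AddCommGroup P] [Module A P] [Module.Projective A P]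
    {J : Type u} (z : J → B ⊗[A] P) :
    ∃ I : Ideal B, ∀ (C : Type u) [CommRing C] [Algebra A C] (ψ : B →ₐ[A] C),
      (∀ j, ψ.toLinearMap.rTensor P (z j) = 0) ↔ I ≤ RingHom.ker ψ := by
  classical
  obtain ⟨ι, hι⟩ := Module.projective_def'.1 (inferInstance : Module.Projective A P)
  let co : B ⊗[A] P →ₗ[A] (P →₀ B) := (TensorProduct.finsuppScalarRight A A B P).toLinearMap ∘ₗ ι.lTensor B
  refine ⟨Ideal.span {b | ∃ j k, co (z j) k = b}, fun C _ _ ψ => ?_⟩
  let co' : C ⊗[A] P →ₗ[A] (P →₀ C) := (TensorProduct.finsuppScalarRight A A C P).toLinearMap ∘ₗ ι.lTensor C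
  have hinj : Injective co' := by
    refine (TensorProduct.finsuppScalarRight A A C P).injective.comp ?_
    refine LeftInverse.injective (g := (Finsupp.linearCombination A id).lTensor C) fun w => ?_
    rw [← LinearMap.comp_apply, ← LinearMap.lTensor_comp, hι]
    simp
  have hnat : ∀ w, co' (ψ.toLinearMap.rTensor P w) = Finsupp.mapRange ψ (map_zero ψ) (co w) := fun w => by
    induction w using TensorProduct.induction_on with
    | zero => simp
    | add u v hu hv => rw [map_add, map_add, hu, hv, map_add]; exact (Finsupp.mapRange_add (map_add ψ) _ _).symm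
    | tmul b p =>
      ext k
      simp [co, co', TensorProduct.finsuppScalarRight_apply_tmul_apply]
  rw [Ideal.span_le]
  constructor
  · rintro h _ ⟨j, k, rfl⟩
    have := DFunLike.congr_fun ((hnat (z j)).symm.trans ((congrArg co' (h j)).trans (map_zero co'))) k
    simpa using this
  · intro h j
    apply hinj
    rw [hnat, map_zero]
    ext k
    exact h ⟨j, k, rfl⟩

variable [IsNoetherianRing A] {X : Scheme.{u}} [X.Over (Spec (CommRingCat.of A))]
  [IsProper (X ↘ Spec (CommRingCat.of A))]

/-- The vanishing ideal of a homomorphism into a flat family. -/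
theorem exists_vanishing_ideal {L : X.Modules} (hL : CohB1.IsAmple L) {E F : X.Modules} (hE : Coh.IsCoh E)
    (hF : Coh.IsCoh F) (hfl : FlatMod.IsFlatOver (X ↘ Spec (CommRingCat.of A)) F) (φ : A →+* B) {X' : Scheme.{u}}
    [X'.Over (Spec (CommRingCat.of B))] (g : X' ⟶ X)
    (h : IsPullback g (X' ↘ Spec (CommRingCat.of B)) (X ↘ Spec (CommRingCat.of A))
      (Spec.map (CommRingCat.ofHom φ)))
    (f : (Scheme.Modules.pullback g).obj E ⟶ (Scheme.Modules.pullback g).obj F) :
    ∃ I : Ideal B, ∀ (C : Type u) [CommRing C] (ψ : B →+* C) (X'' : Scheme.{u})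
      [X''.Over (Spec (CommRingCat.of C))] (g' : X'' ⟶ X'),
      IsPullback g' (X'' ↘ Spec (CommRingCat.of C)) (X' ↘ Spec (CommRingCat.of B))
        (Spec.map (CommRingCat.ofHom ψ)) →
      ((Scheme.Modules.pullback g').map f = 0 ↔ I ≤ RingHom.ker ψ) := by
  classical
  haveI : IsLocallyNoetherian X := LocallyOfFiniteType.isLocallyNoetherian (X ↘ Spec (CommRingCat.of A))
  have hLi : PicF.IsInvertible L := (isAmple_iff_affGlocus.1 hL).1
  obtain ⟨N₁, hN₁⟩ := Serre.exists_epi_free_twist hL E hE
  obtain ⟨N₂, hN₂⟩ := Serre.exists_subsingleton_HH_twist A hL F hF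
  let a := max N₁ N₂
  obtain ⟨J, _, π, hπ⟩ := hN₁ a (le_max_left _ _)
  let Λ := CohB1.tensorPow L a
  have hΛ : PicF.IsInvertible Λ := AmpleLib.isInvertible_tensorPow hLi a
  haveI : Coh.IsQCoh Λ := AmpleLib.isQCoh_of_isInvertible hΛ
  let G := CohB1.tensorMod F Λ
  have hG : Coh.IsCoh G := EulerLib.isCoh_twist hΛ hF
  haveI := hG.1
  haveI := hF.1
  have hGfl : FlatMod.IsFlatOver (X ↘ Spec (CommRingCat.of A)) G := fun x =>
    EGA43.DvrCrit.isFlatOverAt_of_iso _ (AmpleLib.tensorComm _ _) x
      (isFlatOver_tensor _ (isFinLocFree_of_invertible hΛ) hfl x)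
  have hGv : ∀ p : ℕ, 0 < p → Subsingleton (Coh.HH X G p) := hN₂ a (le_max_right _ _)
  haveI : Module.Flat A Γ(G, ⊤) := flat_sections_top G hGfl hGv
  haveI : Module.Finite A Γ(G, ⊤) := by
    haveI := finite_HH (A := A) hG 0
    let e0 : Coh.HH X G 0 ≃ₗ[A] Γ(G, ⊤) :=
      { globalEquiv A G with
        map_smul' := fun c x => by
          refine (globalEquiv_smul G c x).trans ?_
          refine congrArg (fun t : Γ(X, ⊤) => t • (show Γ(G, ⊤) from globalEquiv A G x)) ?_
          exact (ConcreteCategory.congr_hom (X.presheaf.map_id (op (⊤ : X.Opens))) _).symm }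
    exact Module.Finite.equiv e0
  haveI : Module.FinitePresentation A Γ(G, ⊤) := Module.finitePresentation_of_finite A _
  haveI : Module.Projective A Γ(G, ⊤) := Module.Flat.projective_of_finitePresentation
  letI := φ.toAlgebra
  let pE := DCat.PullTensor.pullTensorIso g E Λ
  let pF := DCat.PullTensor.pullTensorIso g F Λ
  let v : (Scheme.Modules.pullback g).obj (CohB1.tensorMod E Λ) ⟶ (Scheme.Modules.pullback g).obj G :=
    pE.hom ≫ tensorMap f (𝟙 _) ≫ pF.inv
  let u₁ := (Scheme.Modules.pullback g).map π ≫ v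
  have hbij : Bijective (secBC φ g h G ⊤) := bijective_secBC_top G hGfl hGv φ g h
  choose z hz using fun j => hbij.2 (u₁.app (g ⁻¹ᵁ ⊤) (pullSec g (unitVal (freeInj j) ⊤)))
  obtain ⟨I, hI⟩ := exists_ideal_of_projective (A := A) Γ(G, ⊤) z
  refine ⟨I, fun C _ ψ X'' _ g' h' => ?_⟩
  letI := (ψ.comp φ).toAlgebra
  let ψ' : B →ₐ[A] C := { ψ with commutes' := fun _ => rfl }
  refine Iff.trans ?_ (hI C ψ')
  have hC : Bijective (secBC (ψ.comp φ) (g' ≫ g) (isPullback_comp φ g h ψ g' h') G ⊤) :=
    bijective_secBC_top G hGfl hGv _ _ _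
  -- the two descriptions of the pulled back sections
  let σ := (Scheme.Modules.pullbackComp g' g).app G
  have hσ : ∀ w : B ⊗[A] Γ(G, ⊤), σ.hom.app ((g' ≫ g) ⁻¹ᵁ ⊤) (pullSec g' (secBC φ g h G ⊤ w)) =
      secBC (ψ.comp φ) (g' ≫ g) (isPullback_comp φ g h ψ g' h') G ⊤ (ψ'.toLinearMap.rTensor _ w) := fun w => by
    induction w using TensorProduct.induction_on with
    | zero =>
      rw [map_zero, map_zero, map_zero, H8Lim.pullSec_zero]
      exact map_zero _
    | add u v hu hv =>
      rw [map_add, map_add, map_add, H8Lim.pullSec_add, map_add, hu, hv]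
    | tmul b m =>
      rw [secBC_tmul, LinearMap.rTensor_tmul, secBC_tmul]
      refine (congrArg (σ.hom.app ((g' ≫ g) ⁻¹ᵁ ⊤)) (pullSec_smulA ψ g' h' _ _ b (pullSec g m))).trans ?_
      refine (app_smulA σ.hom _ (ψ b) _).trans ?_
      exact congrArg (ψ b • ·) (H8Lim.pullbackComp_hom_app_pullSec g' g G m)
  have hsec : ∀ j, ((Scheme.Modules.pullback g').map u₁).app (g' ⁻¹ᵁ (g ⁻¹ᵁ ⊤))
      (pullSec g' (pullSec g (unitVal (freeInj j) ⊤))) = 0 ↔ ψ'.toLinearMap.rTensor _ (z j) = 0 := fun j => by
    rw [H8Lim.map_app_pullSec, ← hz j]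
    constructor
    · intro hj
      refine hC.1 ((hσ (z j)).symm.trans ?_)
      rw [hj, map_zero, map_zero]
    · intro hj
      have := (hσ (z j)).trans (by rw [hj, map_zero])
      refine (ConcreteCategory.bijective_of_isIso (σ.hom.app ((g' ≫ g) ⁻¹ᵁ ⊤))).1 ?_
      exact this.trans (map_zero _).symm
  -- the twisted map vanishes with the map
  haveI : Epi ((Scheme.Modules.pullback g').map ((Scheme.Modules.pullback g).map π)) := inferInstance
  have key : (Scheme.Modules.pullback g').map f = 0 ↔ (Scheme.Modules.pullback g').map u₁ = 0 := by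
    have hΛ' : PicF.IsInvertible ((Scheme.Modules.pullback g').obj ((Scheme.Modules.pullback g).obj Λ)) :=
      PicLoc.isInvertible_pullback _ (PicLoc.isInvertible_pullback _ hΛ)
    have hnat := DCat.PullTensor.pullTensorHom_nat₁ g' f ((Scheme.Modules.pullback g).obj Λ)
    rw [tensorBi_map_eq_tensorMap, tensorBi_map_eq_tensorMap] at hnat
    have h1 : (Scheme.Modules.pullback g').map u₁ = 0 ↔
        (Scheme.Modules.pullback g').map (tensorMap f (𝟙 ((Scheme.Modules.pullback g).obj Λ))) = 0 := by
      exact map_comp_eq_zero_iff (Scheme.Modules.pullback g') ((Scheme.Modules.pullback g).map π) pE _ pF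
    rw [h1]
    constructor
    · intro hf
      refine (cancel_mono (DCat.PullTensor.pullTensorHom g' _ ((Scheme.Modules.pullback g).obj Λ))).1 ?_
      refine hnat.trans ?_
      rw [hf, zero_comp]
      refine (congrArg (_ ≫ ·) ?_).trans comp_zero
      exact AmpleLib.hom_ext fun U a b => (tensorMap_tmul _ _ a b).trans ((tmul_zero_left _).trans rfl)
    · intro h0
      refine eq_zero_of_tensorMap hΛ' _ ((cancel_epi (DCat.PullTensor.pullTensorHom g' _ _)).1 ?_)
      refine hnat.symm.trans ?_
      rw [h0, zero_comp, comp_zero]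
  rw [key]
  refine ⟨fun h0 j => (hsec j).1 (by rw [h0]; rfl), fun h0 => ?_⟩
  refine (cancel_epi ((Scheme.Modules.pullbackComp g' g).inv.app (freeMod X J))).1
    (Eq.trans ?_ comp_zero.symm)
  refine hom_eq_zero_of_pullSec (g' ≫ g) _ fun j => ?_
  rw [Scheme.Modules.Hom.comp_app, ConcreteCategory.comp_apply]
  refine (congrArg (((Scheme.Modules.pullback g').map u₁).app _) (pullbackComp_inv_app_pullSec g' g _ ⊤ _)).trans ?_
  exact (hsec j).2 (h0 j)

end Groth.Agent.H8Coh
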